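import Cfsg.Agent.TO.Rows_m3
import Mathlib.Data.ZMod.Basic
import Mathlib.Algebra.Field.ZMod
import Mathlib.Algebra.BigOperators.Fin
import Mathlib.Tactic.FieldSimp
import Mathlib.Tactic.LinearCombination
import Mathlib.Tactic.Linarith
import Mathlib.Tactic.Ring
import Cfsg.Agent.BHZ.Nil.Block0
import Cfsg.Agent.TO.FO.Box
import Cfsg.Agent.H199.PslAut
import Cfsg.Agent.H593.RobinsonRank
import Cfsg.Agent.ClassicalGeometry.PSUAutMain
import Cfsg.Agent.LieClassical.OrthCore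
import Cfsg.Agent.AutOrth.Main
import Mathlib
import Cfsg.Agent.H932.Spinor
import Cfsg.Agent.LieClassical.OmegaCenter
import Cfsg.Agent.LieClassical.OrthForms
import Cfsg.Agent.H312.Orth.Inst
import Cfsg.Agent.H95.StemCover
import Cfsg.Agent.OddOrderCharacters.PrimeTI
import Cfsg.Agent.S2097
import Cfsg.Agent.S2098
import Cfsg.Agent.OddHalf.Quat.KTwoOf_m3
import Cfsg.Agent.TO.X5.Abs_mg_m3
import Cfsg.Agent.KZ.DatX.Gd_m3
import Cfsg.Agent.Lib.ListFast
import Cfsg.Agent.FastGrp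
import Cfsg.Agent.Prune
set_option linter.all false

section
prune_inst 0x7ff4a8f9abb889dfdfff7e77a69ccffc38808fffa4dff94bbfe021df0b9f03000945638d09e000fe0e96401410a87803fb7eeeffe06bd87ffffd1ff41ffbee0fa5e73508519080240f340ff603f0778e7f3fffffffffffffffffffffffffffaeffbdffffffff

-- part: TO/LU/Main
section
prune_inst 0x80002004102200000018000000001c029100042000080400048008400c00282809802021010001040200008100040040000000a00000000000000000000104010800000041810008800090000000000000000000000000000000000000000000200000000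
set_option linter.all false
open scoped Cfsg.Agent.FastGrp

-- part: TO/LU/Mat
section
/-!
# S4817, linear and unitary groups: idempotent matrices (helper1)
-/

set_option autoImplicit false

namespace Cfsg.Agent.TO.LU

open Matrix Module
open Cfsg.Agent.BHZ.Nil

variable {F : Type} [Field F] {n : ℕ}

/-- square matrices -/
abbrev Mt (n : ℕ) (F : Type) : Type := Matrix (Fin n) (Fin n) F

theorem eq_zero_of_rank {e : Mt n F} (h : e.rank = 0) : e = 0 :=
  toLin'.injective ((LinearMap.range_eq_bot.1 (Submodule.finrank_eq_zero.1 h)).trans (map_zero _).symm)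

theorem rank_pos {e : Mt n F} (h : e ≠ 0) : 0 < e.rank := Nat.pos_of_ne_zero fun e => h (eq_zero_of_rank e)

theorem rank_add {e f : Mt n F} (he : e * e = e) (hf : f * f = f) (h : e * f = 0) (h' : f * e = 0) :
    (e + f).rank = e.rank + f.rank := by
  have h1 : LinearMap.range (e + f).mulVecLin = LinearMap.range e.mulVecLin ⊔ LinearMap.range f.mulVecLin := by
    refine le_antisymm ?_ (sup_le ?_ ?_)
    · rintro _ ⟨v, rfl⟩
      exact Submodule.mem_sup.2 ⟨_, ⟨v, rfl⟩, _, ⟨v, rfl⟩, (add_mulVec e f v).symm⟩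
    · rintro _ ⟨v, rfl⟩
      exact ⟨e *ᵥ v, by rw [mulVecLin_apply, mulVec_mulVec, add_mul, he, h', add_zero, mulVecLin_apply]⟩
    · rintro _ ⟨v, rfl⟩
      exact ⟨f *ᵥ v, by rw [mulVecLin_apply, mulVec_mulVec, add_mul, hf, h, zero_add, mulVecLin_apply]⟩
  have h2 : LinearMap.range e.mulVecLin ⊓ LinearMap.range f.mulVecLin = ⊥ := by
    rw [eq_bot_iff]
    rintro _ ⟨⟨v, rfl⟩, w, hw⟩
    rw [mulVecLin_apply, mulVecLin_apply] at hw
    rw [Submodule.mem_bot, mulVecLin_apply, ← he, ← mulVec_mulVec, ← hw, mulVec_mulVec, h, zero_mulVec]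
  have h3 := Submodule.finrank_sup_add_finrank_inf_eq (LinearMap.range e.mulVecLin) (LinearMap.range f.mulVecLin)
  rwa [h2, finrank_bot, add_zero, ← h1] at h3

theorem det_cut {e : Mt n F} (he : e * e = e) (c : F) : (c • e + (1 - e)).det = c ^ e.rank := by
  have h := LinearMap.IsIdempotentElem.isProj_range (toLin' e) (by rw [IsIdempotentElem, Module.End.mul_eq_comp,
    ← toLin'_mul, he])
  have h1 : toLin' (c • e + (1 - e)) = ((LinearMap.range (toLin' e)).prodEquivOfIsCompl _ h.isCompl).conj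
      (LinearMap.prodMap (c • LinearMap.id) LinearMap.id) := by
    have h2 := h.eq_conj_prodMap
    generalize (LinearMap.range (toLin' e)).prodEquivOfIsCompl _ h.isCompl = E at h2 ⊢
    rw [map_add, map_smul, map_sub, toLin'_one, ← LinearEquiv.conj_id E]
    refine (congrArg (fun x => c • x + (E.conj LinearMap.id - x)) h2).trans ?_
    rw [← map_smul, ← map_sub, ← map_add]
    congr 1
    ext <;> simp only [_root_.LinearMap.coe_comp, _root_.LinearMap.coe_inl, _root_.Function.comp_apply, _root_.LinearMap.add_apply, _root_.LinearMap.smul_apply, _root_.LinearMap.prodMap_apply, _root_.LinearMap.id_coe, _root_.id_eq, _root_.LinearMap.zero_apply, _root_.Prod.smul_mk, _root_.smul_zero, _root_.LinearMap.sub_apply, _root_.sub_self, _root_.add_zero, _root_.SetLike.val_smul, _root_.Pi.smul_apply, _root_.smul_eq_mul, _root_.ZeroMemClass.coe_zero, _root_.Pi.zero_apply, _root_.LinearMap.coe_inr, _root_.Prod.mk_sub_mk,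 _root_.sub_zero, _root_.Prod.mk_add_mk, _root_.zero_add]
  rw [← LinearMap.det_toLin', h1, LinearEquiv.conj_apply, LinearMap.comp_assoc, LinearMap.det_conj,
    LinearMap.det_prodMap, LinearMap.det_smul, LinearMap.det_id, LinearMap.det_id, mul_one, mul_one]
  rfl

/-- the dimension of the eigenspace -/
noncomputable def ed (x : Mt n F) (l : F) : ℕ := n - (x - l • 1).rank

theorem rank_smul {c : F} (hc : c ≠ 0) (x : Mt n F) : (c • x).rank = x.rank :=
  rank_smul_of_mem_nonZeroDivisors x (mem_nonZeroDivisors_of_ne_zero hc)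

theorem ed_smul {c : F} (hc : c ≠ 0) (x : Mt n F) (l : F) : ed (c • x) (c * l) = ed x l := by
  rw [ed, ed, mul_smul, ← smul_sub, rank_smul hc]

theorem pow_eq_of_ed {x : Mt n F} {l c : F} {k : ℕ} (h : x ^ k = c • 1) (hl : ed x l ≠ 0) : l ^ k = c := by
  by_contra e
  obtain ⟨y, hy⟩ := ((Commute.one_right x).smul_right l).sub_dvd_pow_sub_pow k
  have h1 := rank_mul_le_left (x - l • 1) y
  rw [← hy, h, _root_.smul_pow, one_pow, ← sub_smul, rank_smul (sub_ne_zero.2 (Ne.symm e)), rank_one,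
    Fintype.card_fin] at h1
  exact hl (Nat.sub_eq_zero_of_le h1)

/-- scalar matrices -/
def sc (n : ℕ) : Fˣ →* (Mt n F)ˣ := Units.map (algebraMap F (Mt n F)).toMonoidHom

theorem val_sc (c : Fˣ) : (sc n c : Mt n F) = (c : F) • 1 := Algebra.algebraMap_eq_smul_one _

theorem commute_sc (c : Fˣ) (g : (Mt n F)ˣ) : Commute (sc n c) g :=
  Units.ext (Algebra.commutes (c : F) (g : Mt n F))

variable {C : Set (Mt n F)} {Γ : Subgroup (Mt n F)ˣ} {μ : Subgroup Fˣ}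

/-- idempotents in the commutant of `C` along which the scalars can be cut -/
structure Gd (C : Set (Mt n F)) (Γ : Subgroup (Mt n F)ˣ) (μ : Subgroup Fˣ) (e : Mt n F) : Prop where
  idem : e * e = e
  cc : ∀ y ∈ C, Commute y e
  cut : ∀ c ∈ μ, ∃ g ∈ Γ, (g : Mt n F) = (c : F) • e + (1 - e)

theorem gd_zero : Gd C Γ μ 0 :=
  ⟨zero_mul _, fun y _ => Commute.zero_right y, fun c _ => ⟨1, one_mem Γ, by simp⟩⟩

theorem Gd.add {e f : Mt n F} (he : Gd C Γ μ e) (hf : Gd C Γ μ f) (h : e * f = 0) (h' : f * e = 0) :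
    Gd C Γ μ (e + f) where
  idem := by rw [add_mul, mul_add, mul_add, he.idem, hf.idem, h, h', add_zero, zero_add]
  cc y hy := (he.cc y hy).add_right (hf.cc y hy)
  cut c hc := by
    obtain ⟨x, hx, e1⟩ := he.cut c hc
    obtain ⟨y, hy, e2⟩ := hf.cut c hc
    refine ⟨x * y, mul_mem hx hy, ?_⟩
    simp only [Units.val_mul, e1, e2, add_mul, mul_add, sub_mul, mul_sub, smul_mul_assoc, Matrix.mul_smul, h, one_mul,
      mul_one]
    module

theorem Gd.mul {e f : Mt n F} (he : Gd C Γ μ e) (hf : f * f = f) (hc : ∀ y ∈ C, Commute y f) (hg : Good Γ f)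
    (h : Commute e f) : Gd C Γ μ (e * f) where
  idem := by rw [mul_assoc, ← mul_assoc f, ← h.eq, mul_assoc e f f, hf, ← mul_assoc, he.idem]
  cc y hy := (he.cc y hy).mul_right (hc y hy)
  cut c hc := by
    obtain ⟨x, hx, e1⟩ := he.cut c hc
    obtain ⟨y, hy, e2⟩ := hg x hx (e1 ▸ (h.smul_left _).add_left ((Commute.one_left f).sub_left h))
    refine ⟨y, hy, ?_⟩
    rw [e2, e1, add_mul, sub_mul, smul_mul_assoc, one_mul]
    abel

theorem gd_one (hs : ∀ c ∈ μ, sc n c ∈ Γ) : Gd C Γ μ 1 :=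
  ⟨one_mul _, fun y _ => Commute.one_right y, fun c hc => ⟨_, hs c hc, by rw [val_sc, sub_self, add_zero]⟩⟩

/-- decompositions of the identity -/
structure Fam (C : Set (Mt n F)) (Γ : Subgroup (Mt n F)ˣ) (μ : Subgroup Fˣ) {ι : Type} [Fintype ι] (e : ι → Mt n F) :
    Prop where
  gd : ∀ i, Gd C Γ μ (e i)
  orth : ∀ i j, i ≠ j → e i * e j = 0
  sum : ∑ i, e i = 1

namespace Fam

variable {ι : Type} [Fintype ι] {e : ι → Mt n F} (h : Fam C Γ μ e)
include h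

theorem sum_orth {s t : Finset ι} (hd : Disjoint s t) : (∑ i ∈ s, e i) * ∑ i ∈ t, e i = 0 := by
  rw [Finset.sum_mul_sum]
  exact Finset.sum_eq_zero fun i hi => Finset.sum_eq_zero fun j hj => h.orth i j (Finset.disjoint_iff_ne.1 hd i hi j hj)

theorem gd_sum (s : Finset ι) : Gd C Γ μ (∑ i ∈ s, e i) ∧ (∑ i ∈ s, e i).rank = ∑ i ∈ s, (e i).rank := by
  classical
  induction s using Finset.induction_on with
  | empty => exact ⟨gd_zero, rank_zero⟩
  | insert i s hi ih =>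
    have h1 := h.sum_orth (Finset.disjoint_singleton_left.2 hi)
    have h2 := h.sum_orth (Finset.disjoint_singleton_right.2 hi)
    rw [Finset.sum_singleton] at h1 h2
    rw [Finset.sum_insert hi, Finset.sum_insert hi, rank_add (h.gd i).idem ih.1.idem h1 h2, ih.2]
    exact ⟨(h.gd i).add ih.1 h1 h2, rfl⟩

theorem sum_rank : ∑ i, (e i).rank = n := by rw [← (h.gd_sum _).2, h.sum, rank_one, Fintype.card_fin]

theorem merge {κ : Type} [Fintype κ] [DecidableEq κ] (c : ι → κ) : Fam C Γ μ fun v => ∑ i with c i = v, e i where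
  gd _ := (h.gd_sum _).1
  orth _ _ huv := h.sum_orth (Finset.disjoint_filter.2 fun _ _ e1 e2 => huv (e1.symm.trans e2))
  sum := (Finset.sum_fiberwise _ _ _).trans h.sum

theorem ext {x y : Mt n F} (e1 : ∀ i, x * e i = y * e i) : x = y := by
  rw [← mul_one x, ← mul_one y, ← h.sum, Finset.mul_sum, Finset.mul_sum, Finset.sum_congr rfl fun i _ => e1 i]

theorem sum_mul (v : ι → F) (i : ι) : (∑ j, v j • e j) * e i = v i • e i := by
  rw [Finset.sum_mul, Finset.sum_eq_single i (fun j _ hj => by rw [smul_mul_assoc, h.orth j i hj, smul_zero])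
    (fun e => (e (Finset.mem_univ i)).elim), smul_mul_assoc, (h.gd i).idem]

theorem ed_eq [DecidableEq F] {x : Mt n F} {v : ι → F} (hx : ∀ i, x * e i = v i • e i) (l : F) :
    ed x l = ∑ i with v i = l, (e i).rank := by
  have h0 : ∀ i, (x - l • 1) * e i = (v i - l) • e i := fun i => by rw [sub_mul, hx, smul_mul_assoc, one_mul, sub_smul]
  have h1 : ∑ i with ¬ v i = l, e i = ∑ i, (if v i = l then (0 : F) else 1) • e i := by
    rw [Finset.sum_filter]
    exact Finset.sum_congr rfl fun i _ => by split_ifs <;> simp [*]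
  have h2 : (x - l • 1).rank = (∑ i with ¬ v i = l, e i).rank := by
    refine le_antisymm ?_ ?_
    · refine le_of_eq_of_le (congrArg _ (h.ext fun i => ?_)) (rank_mul_le_right (x - l • 1) _)
      rw [mul_assoc, h1, h.sum_mul, Matrix.mul_smul, h0]
      split_ifs with e <;> simp [e]
    · refine le_of_eq_of_le (congrArg _ (h.ext fun i => ?_)) (rank_mul_le_left _ (∑ i, (v i - l)⁻¹ • e i))
      rw [mul_assoc, h1, h.sum_mul, h.sum_mul, Matrix.mul_smul, h0, smul_smul]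
      split_ifs with e
      · simp [e]
      · rw [inv_mul_cancel₀ (sub_ne_zero.2 e)]
  have h3 := Finset.sum_filter_add_sum_filter_not Finset.univ (fun i => v i = l) fun i => (e i).rank
  rw [h.sum_rank] at h3
  rw [ed, h2, (h.gd_sum _).2]
  omega

/-- diagonal elements -/
theorem exists_diag (v : ι → Fˣ) (hv : ∀ i, v i ∈ μ) : ∃ g ∈ Γ, (∀ i, (g : Mt n F) * e i = (v i : F) • e i) ∧
    (g : Mt n F).det = ∏ i, (v i : F) ^ (e i).rank := by
  classical
  suffices H : ∀ s : Finset ι, ∃ g ∈ Γ, (∀ i, (g : Mt n F) * e i = (if i ∈ s then v i else 1 : F) • e i) ∧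
      (g : Mt n F).det = ∏ i ∈ s, (v i : F) ^ (e i).rank by simpa only [_root_.Finset.mem_univ, ↓ _root_.reduceIte] using H Finset.univ
  intro s
  induction s using Finset.induction_on with
  | empty => exact ⟨1, one_mem Γ, by simp, by simp⟩
  | insert j s hj ih =>
    obtain ⟨g, hg, e1, e2⟩ := ih
    obtain ⟨x, hx, e3⟩ := (h.gd j).cut _ (hv j)
    refine ⟨x * g, mul_mem hx hg, fun i => ?_, by
      rw [Units.val_mul, det_mul, e2, e3, det_cut (h.gd j).idem, Finset.prod_insert hj]⟩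
    rw [Units.val_mul, mul_assoc, e1, Matrix.mul_smul, e3, add_mul, sub_mul, smul_mul_assoc, one_mul]
    by_cases e : i = j
    · simp [e, hj, (h.gd j).idem]
    · simp [e, h.orth j i (Ne.symm e)]

theorem commute {x y : Mt n F} {v : ι → F} (hx : ∀ i, x * e i = v i • e i) (hy : y ∈ C) : Commute y x := by
  rw [h.ext fun i => (hx i).trans (h.sum_mul v i).symm]
  exact Commute.sum_right _ _ _ fun i _ => ((h.gd i).cc y hy).smul_right _

omit [Fintype ι] h in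
theorem pow_mul {x : Mt n F} {v : ι → F} (hx : ∀ i, x * e i = v i • e i) (k : ℕ) (i : ι) :
    x ^ k * e i = v i ^ k • e i := by
  induction k with
  | zero => rw [pow_zero, pow_zero, one_mul, one_smul]
  | succ k ih => rw [pow_succ, mul_assoc, hx, Matrix.mul_smul, ih, smul_smul, pow_succ']

end Fam

end Cfsg.Agent.TO.LU
end

-- part: TO/LU/Eig
section
/-!
# S4817, linear and unitary groups: eigenspaces of elements of order `p` (helper1)
-/

set_option autoImplicit false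

namespace Cfsg.Agent.TO.LU

open Matrix
open Cfsg.Agent.BHZ.Nil

variable {F : Type} [Field F] {n p : ℕ} [hp : Fact p.Prime]
  {C : Set (Mt n F)} {Γ : Subgroup (Mt n F)ˣ} {μ : Subgroup Fˣ} {ω : Fˣ} {a b : (Mt n F)ˣ}

theorem zt_inj (hω : ω ^ p = 1) (h1 : ω ≠ 1) : Function.Injective (zt ω : ZMod p → Fˣ) := fun k l e =>
  ZMod.val_injective p (pow_injOn_Iio_orderOf (x := ω) (by rw [orderOf_eq_prime hω h1]; exact k.val_lt)
    (by rw [orderOf_eq_prime hω h1]; exact l.val_lt) e)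

theorem zt_pow_val (hω : ω ^ p = 1) (k l : ZMod p) : zt ω k ^ l.val = zt ω (k * l) := by
  rw [← zt_mul_natCast hω, ZMod.natCast_zmod_val]

omit hp in
theorem sc_pow (hω : ω ^ p = 1) : sc n ω ^ p = 1 := by rw [← map_pow, hω, map_one]

/-- the projection to the eigenspace for `ω ^ k` -/
noncomputable def ev (ω : Fˣ) (a : (Mt n F)ˣ) (k : ZMod p) : Mt n F := fk F a (sc n ω) k

omit hp in
theorem av_sc (hω : ω ^ p = 1) (h1 : ω ≠ 1) : av F p (sc n ω).1 = 0 := by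
  have h := mul_av (F := F) (val_pow_one ((sc_pow (n := n) hω :)))
  generalize av F p (sc n ω).1 = x at h ⊢
  rw [val_sc, smul_mul_assoc, one_mul, ← sub_eq_zero] at h
  exact (smul_eq_zero_iff_right (show (ω : F) - 1 ≠ 0 from sub_ne_zero.2 fun e => h1 (Units.ext e))).1
    (by rw [sub_smul, one_smul, h])

theorem Fk_eq (hω : ω ^ p = 1) (h1 : ω ≠ 1) (k : ZMod p) : Fk F a (sc n ω) k = ev ω a k := by
  rw [Fk, av_sc hω h1, sub_zero, mul_one, ev]

theorem mul_ev (hω : ω ^ p = 1) (ha : a ^ p = 1) (k : ZMod p) : (a : Mt n F) * ev ω a k = (zt ω k : F) • ev ω a k := by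
  rw [ev, b_mul_fk ha (sc_pow hω) (commute_sc _ _), zt, ← map_pow, val_sc, smul_mul_assoc, one_mul, zt]

theorem commute_ev {g : Mt n F} (h : Commute g a) (k : ZMod p) : Commute g (ev ω a k) :=
  commute_fk (z := sc n ω) h (Algebra.commutes (ω : F) g).symm k

variable (hF : (p : F) ≠ 0) (hω : ω ^ p = 1) (h1 : ω ≠ 1)
include hF hω h1

theorem ev_idem (ha : a ^ p = 1) (k : ZMod p) : ev ω a k * ev ω a k = ev ω a k := by
  have h := fk_mul_Fk_self hF ha (sc_pow hω) (commute_sc _ _) k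
  rwa [Fk_eq hω h1] at h

theorem ev_orth (ha : a ^ p = 1) {j k : ZMod p} (e : j ≠ k) : ev ω a j * ev ω a k = 0 := by
  have h := fk_mul_Fk_ne hF ha (sc_pow hω) (commute_sc _ _) e
  rwa [Fk_eq hω h1] at h

theorem ev_sum : ∑ k : ZMod p, ev ω a k = 1 := by
  rw [← Finset.sum_congr rfl fun k _ => Fk_eq (a := a) hω h1 k, sum_Fk hF ((sc_pow hω :)) (commute_sc _ _), av_sc hω h1,
    sub_zero]

omit hF in
theorem rank_ev (hab : b * a = sc n ω * a * b) (k : ZMod p) : (ev ω a k).rank = (ev ω a (k - 1)).rank := by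
  have h := a_mul_Fk (F := F) ((sc_pow hω :)) (commute_sc _ _) (commute_sc _ _) hab k
  rw [Fk_eq hω h1, Fk_eq hω h1] at h
  rw [← rank_mul_eq_right_of_isUnit_det _ _ (isUnits_det_units b), h,
    rank_mul_eq_left_of_isUnit_det _ _ (isUnits_det_units b)]

variable (hΓ : CutClosed p F Γ) (hs : ∀ c ∈ μ, sc n c ∈ Γ) (hm : ω ∈ μ)
include hΓ hs hm

omit hF h1 in
theorem good_ev (haΓ : a ∈ Γ) (ha : a ^ p = 1) (k : ZMod p) : Good Γ (ev ω a k) :=
  hΓ.good (mul_mem haΓ (pow_mem (hs ω hm) _)) (pow_bz ha (sc_pow hω) (commute_sc _ _) _)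

theorem gd_ev (haΓ : a ∈ Γ) (ha : a ^ p = 1) (hC : ∀ y ∈ C, Commute y a) (k : ZMod p) : Gd C Γ μ (ev ω a k) :=
  one_mul (ev ω a k) ▸ (gd_one hs).mul (ev_idem hF hω h1 ha k) (fun y hy => commute_ev (hC y hy) k)
    (good_ev hω hΓ hs hm haΓ ha k) (Commute.one_left _)

theorem fam_ev (haΓ : a ∈ Γ) (ha : a ^ p = 1) (hC : ∀ y ∈ C, Commute y a) : Fam C Γ μ (ev ω a : ZMod p → _) :=
  ⟨gd_ev hF hω h1 hΓ hs hm haΓ ha hC, fun _ _ => ev_orth hF hω h1 ha, ev_sum hF hω h1⟩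

theorem fam_ev2 (haΓ : a ∈ Γ) (ha : a ^ p = 1) (hC : ∀ y ∈ C, Commute y a) (hbΓ : b ∈ Γ) (hb : b ^ p = 1)
    (hC' : ∀ y ∈ C, Commute y b) (hab : Commute a b) :
    Fam C Γ μ fun x : ZMod p × ZMod p => ev ω a x.1 * ev ω b x.2 := by
  have hc : ∀ j k : ZMod p, Commute (ev ω a j) (ev ω b k) := fun j k =>
    commute_ev (commute_ev (Commute.units_val hab).symm j).symm k
  refine ⟨fun x => (gd_ev hF hω h1 hΓ hs hm haΓ ha hC _).mul (ev_idem hF hω h1 hb _)
    (fun y hy => commute_ev (hC' y hy) _) (good_ev hω hΓ hs hm hbΓ hb _) (hc _ _), fun x y e => ?_, ?_⟩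
  · rw [(hc _ _).symm.mul_mul_mul_comm]
    by_cases e1 : x.1 = y.1
    · rw [ev_orth hF hω h1 hb fun e2 => e (Prod.ext e1 e2), mul_zero]
    · rw [ev_orth hF hω h1 ha e1, zero_mul]
  · rw [Fintype.sum_prod_type, ← Finset.sum_mul_sum, ev_sum hF hω h1, ev_sum hF hω h1, one_mul]

omit hω h1 hΓ hs hm

theorem exists_Fk {z : (Mt n F)ˣ} (hz : z ^ p = 1) (z1 : z ≠ 1) (h : Commute z b) : ∃ k : ZMod p, Fk F b z k ≠ 0 := by
  by_contra e
  push Not at e
  have h2 := sum_Fk hF hz h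
  rw [Finset.sum_eq_zero fun k _ => e k, eq_comm, sub_eq_zero] at h2
  exact z1 (Units.ext (by rw [← mul_one z.1, h2, mul_av (val_pow_one hz), ← h2, Units.val_one]))

omit hp in
theorem exists_quot (z : Mt n F) : ∃ q, (z - 1) * q = 1 - av F p z := by
  obtain ⟨q, hq⟩ : z - 1 ∣ ∑ i ∈ Finset.range p, (z ^ i - 1 ^ i) :=
    Finset.dvd_sum fun i _ => (Commute.one_right z).sub_dvd_pow_sub_pow i
  refine ⟨-(p : F)⁻¹ • q, ?_⟩
  rw [Matrix.mul_smul, ← hq, Finset.sum_sub_distrib, neg_smul, smul_sub, neg_sub]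
  exact congrArg (· - _) (av_one hF)

/-- cuts with different fixed spaces -/
theorem exists_cut (hΓ : CutClosed p F Γ) {x y : (Mt n F)ˣ} (hx : x ∈ Γ) (hy : y ∈ Γ) (xp : x ^ p = 1) (yp : y ^ p = 1)
    (hxy : Commute x y) (x1 : x ≠ 1) (y1 : y ∉ Subgroup.zpowers x) :
    ∃ u ∈ Γ, ∃ v ∈ Γ, u ^ p = 1 ∧ v ^ p = 1 ∧ ed v.1 1 < ed u.1 1 ∧ ed u.1 1 < n ∧
      ∀ g : Mt n F, Commute g x → Commute g y → Commute g u ∧ Commute g v := by
  obtain ⟨k, hk⟩ := exists_Fk hF xp x1 hxy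
  have bp := pow_bz yp xp hxy (-k)
  have hb : y * zt x (-k) ∈ Γ := mul_mem hy (pow_mem hx _)
  have xb : Commute x (y * zt x (-k)) := hxy.mul_right (Commute.self_pow _ _)
  have gb : ∀ g : Mt n F, Commute g x → Commute g y → Commute g (y * zt x (-k) : (Mt n F)ˣ) := fun g h1 h2 =>
    h2.mul_right (Units.val_pow_eq_pow_val x _ ▸ h1.pow_right _)
  have b1 : y * zt x (-k) ≠ 1 := fun e => y1 (mul_eq_one_iff_eq_inv.1 e ▸ inv_mem (Subgroup.npow_mem_zpowers x _))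
  rw [Fk, fk] at hk
  generalize y * zt x (-k) = b at *
  obtain ⟨l, hl⟩ := exists_Fk hF bp b1 xb.symm
  have zp := pow_bz xp bp xb.symm (-l)
  have hz : x * zt b (-l) ∈ Γ := mul_mem hx (pow_mem hb _)
  have bz : Commute b (x * zt b (-l)) := xb.symm.mul_right (Commute.self_pow _ _)
  have gz : ∀ g : Mt n F, Commute g x → Commute g b → Commute g (x * zt b (-l) : (Mt n F)ˣ) := fun g h1 h2 =>
    h1.mul_right (Units.val_pow_eq_pow_val b _ ▸ h2.pow_right _)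
  rw [Fk, fk] at hl
  generalize x * zt b (-l) = z at *
  have ib := av_idem hF (val_pow_one bp)
  have iz := av_idem hF (val_pow_one zp)
  have c1 : Commute (x : Mt n F) (av F p b.1) := commute_av xb.units_val
  have c2 : Commute (b : Mt n F) (av F p z.1) := commute_av bz.units_val
  have c3 : Commute (av F p b.1) (av F p z.1) := commute_av (commute_av bz.units_val.symm).symm
  have c4 : Commute (av F p b.1) (av F p x.1) := commute_av c1.symm
  have mb : (b.1 - 1) * av F p b.1 = 0 := by rw [sub_mul, mul_av (val_pow_one bp), one_mul, sub_self]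
  have mb' : av F p b.1 * (b.1 - 1) = 0 :=
    (((commute_av (Commute.refl b.1)).sub_left (Commute.one_left _)).eq).symm.trans mb
  let u := cutHom ib ⟨x, c1⟩
  let w := cutHom iz ⟨b, c2⟩
  have up : u ^ p = 1 := by rw [← map_pow, show (⟨x, c1⟩ : commU _) ^ p = 1 from Subtype.ext xp, map_one]
  have wp : w ^ p = 1 := by rw [← map_pow, show (⟨b, c2⟩ : commU _) ^ p = 1 from Subtype.ext bp, map_one]
  have eu : u.1 = 1 + av F p b.1 * (x.1 - 1) := by rw [val_cutHom, mul_sub, ← c1.eq, mul_one]; abel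
  have ew : w.1 = 1 + (b.1 - 1) * av F p z.1 := by rw [val_cutHom, sub_mul, one_mul]; abel
  have gu : ∀ g : Mt n F, Commute g x → Commute g b → Commute g u := fun g h1 h2 =>
    eu ▸ (Commute.one_right g).add_right ((commute_av h2).mul_right (h1.sub_right (Commute.one_right g)))
  have gw : ∀ g : Mt n F, Commute g x → Commute g b → Commute g w := fun g h1 h2 =>
    ew ▸ (Commute.one_right g).add_right ((h2.sub_right (Commute.one_right g)).mul_right (commute_av (gz g h1 h2)))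
  have c5 : Commute (av F p b.1) (x.1 - 1) := c1.symm.sub_right (Commute.one_right _)
  have c6 : Commute (b.1 - 1) (av F p z.1) := c2.sub_left (Commute.one_left _)
  have euw : (u * w).1 - (1 : F) • 1 = av F p b.1 * (x.1 - 1) + (b.1 - 1) * av F p z.1 := by
    rw [Units.val_mul, eu, ew, add_mul, one_mul, mul_add, mul_one, c5.eq, mul_assoc, ← mul_assoc _ (b.1 - 1), mb',
      zero_mul, mul_zero, one_smul]
    abel
  obtain ⟨q, hq⟩ := exists_quot hF x.1
  obtain ⟨q', hq'⟩ := exists_quot hF b.1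
  have i1 : ∀ {s t : Mt n F}, s * s = s → t * t = t → Commute s t → s * (1 - t) * (s * (1 - t)) = s * (1 - t) :=
    fun {s t} h1 h2 h3 => by
      rw [((Commute.one_left s).sub_left h3.symm).mul_mul_mul_comm, h1, (IsIdempotentElem.one_sub h2).eq]
  have nb : (1 - av F p b.1) * av F p b.1 = 0 := by rw [sub_mul, ib, one_mul, sub_self]
  have nb' : av F p b.1 * (1 - av F p b.1) = 0 := by rw [mul_sub, ib, mul_one, sub_self]
  have r1 := rank_add (i1 ib (av_idem hF (val_pow_one xp)) c4) (i1 iz ib c3.symm) (by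
    rw [((Commute.one_right _).sub_right c4).eq, mul_assoc, ← mul_assoc (av F p b.1), c3.eq, mul_assoc, nb', mul_zero,
      mul_zero]) (by rw [mul_assoc, ← mul_assoc (1 - _), nb, zero_mul, mul_zero])
  have r2 := rank_mul_le_left ((u * w).1 - (1 : F) • 1) (av F p b.1 * q + (1 - av F p b.1) * q')
  have r3 := rank_mul_le_left (av F p b.1 * (1 - av F p x.1)) (x.1 - 1)
  have r4 := rank_mul_le_left (av F p b.1 * (x.1 - 1)) q
  have e1 : ((u * w).1 - (1 : F) • 1) * (av F p b.1 * q + (1 - av F p b.1) * q') =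
      av F p b.1 * (1 - av F p x.1) + av F p z.1 * (1 - av F p b.1) := by
    rw [euw, mul_add, add_mul, add_mul, ← mul_assoc, ← mul_assoc, ← mul_assoc, ← mul_assoc, c5.eq, c6.eq,
      mul_assoc _ _ (av F p b.1), mul_assoc _ _ (av F p b.1), mul_assoc _ _ (1 - _), mul_assoc _ _ (1 - _), ib, mb, nb',
      mul_sub (b.1 - 1), mb, ← c5.eq, mul_assoc, hq, mul_one, sub_zero, mul_assoc (av F p z.1) _ q', hq']
    simp only [_root_.MulZeroClass.mul_zero, _root_.MulZeroClass.zero_mul, _root_.add_zero, _root_.zero_add]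
  have e2 : av F p b.1 * (1 - av F p x.1) * (x.1 - 1) = av F p b.1 * (x.1 - 1) := by
    rw [mul_assoc, sub_mul, mul_sub (av F p x.1), ← (commute_av (Commute.refl x.1)).eq, mul_av (val_pow_one xp),
      mul_one, sub_self, sub_zero, one_mul]
  rw [e1, r1] at r2
  rw [e2] at r3
  rw [mul_assoc, hq] at r4
  have r5 := rank_pos hk
  have r6 := rank_pos hl
  have r7 := rank_le_width ((u * w).1 - (1 : F) • 1)
  have e3 : u.1 - (1 : F) • 1 = av F p b.1 * (x.1 - 1) := by rw [eu, one_smul, add_sub_cancel_left]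
  refine ⟨u, (hΓ.good hb bp).cutHom_mem ib hx, u * w,
    mul_mem ((hΓ.good hb bp).cutHom_mem ib hx) ((hΓ.good hz zp).cutHom_mem iz hb), up, ?_, ?_, ?_, fun g h1 h2 =>
      ⟨gu g h1 (gb g h1 h2), (gu g h1 (gb g h1 h2)).mul_right (gw g h1 (gb g h1 h2))⟩⟩
  · rw [Commute.mul_pow (Units.ext (gw _ (gu _ (Commute.refl _) xb.units_val).symm
      (gu _ xb.units_val.symm (Commute.refl _)).symm)), up, wp, one_mul]
  · rw [ed, ed, e3]
    omega
  · rw [ed, e3]
    omega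

end Cfsg.Agent.TO.LU
end

-- part: TO/LU/LC
section
/-!
# S4817, linear and unitary groups: four blocks are too many (helper1)
-/

set_option autoImplicit false

namespace Cfsg.Agent.TO.LU

section Field

variable {K : Type} [Field K]

/-- a relation with three different coefficients -/
def So (k l m : K) : Prop := ∃ u v w : K, u ≠ v ∧ u ≠ w ∧ v ≠ w ∧ u * k + v * l + w * m = 0

/-- all zero or all nonzero -/
def Go (k l m : K) : Prop := (k = 0 ∧ l = 0 ∧ m = 0) ∨ (k ≠ 0 ∧ l ≠ 0 ∧ m ≠ 0)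

theorem so_of_ne (h2 : (2 : K) ≠ 0) {k l m : K} (h : k + l + m ≠ 0) : So k l m :=
  ⟨(m - l) / (k + l + m), (m - l) / (k + l + m) + 1, (m - l) / (k + l + m) - 1, by simp,
    fun e => one_ne_zero (α := K) (by linear_combination e), fun e => h2 (by linear_combination e), by
      field_simp
      ring⟩

theorem so_of_go (h2 : (2 : K) ≠ 0) {k l m : K} (h : k + l + m = 0) (hg : Go k l m) : So k l m := by
  rcases hg with ⟨rfl, rfl, rfl⟩ | ⟨h1, h3, h4⟩
  · exact ⟨0, 1, -1, by simp, by simp, fun e => h2 (by linear_combination e), by simp⟩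
  · exact ⟨l, -k, 0, fun e => h4 (by linear_combination h - e), h3, neg_ne_zero.2 h1, by ring⟩

theorem go_split (h2 : (2 : K) ≠ 0) {a b c d : K} (h : a + b + c + d = 0) :
    Go (a + b) c d ∨ Go (a + c) b d ∨ Go (a + d) b c ∨ Go (b + c) a d ∨ Go (b + d) a c ∨ Go (c + d) a b := by
  unfold Go
  grind

end Field

/-- merged ranks -/
def mr (r : Fin 4 → ℕ) (c : Fin 4 → Fin 3) (v : Fin 3) : ℕ := ∑ i with c i = v, r i

theorem lc4 {p : ℕ} [hp : Fact p.Prime] (hp2 : p ≠ 2) {r : Fin 4 → ℕ} (hr : ∀ i, 0 < r i) (T : ℕ → ℕ → ℕ → Prop)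
    (hT : ∀ k l m k' l' m', T k l m → T k' l' m' → ∀ g : ℕ → ℕ, g 0 = 0 → g k + g l + g m = g k' + g l' + g m')
    (H : ∀ c : Fin 4 → Fin 3, 0 < mr r c 0 → 0 < mr r c 1 → So (mr r c 0 : ZMod p) (mr r c 1) (mr r c 2) →
      T (mr r c 0) (mr r c 1) (mr r c 2)) : False := by
  have h2 : (2 : ZMod p) ≠ 0 := fun e =>
    hp2 ((Nat.prime_dvd_prime_iff_eq hp.out Nat.prime_two).1 ((ZMod.natCast_eq_zero_iff 2 p).1 e))
  have H' : ∀ (c : Fin 4 → Fin 3) (k l m : ℕ), mr r c 0 = k ∧ mr r c 1 = l ∧ mr r c 2 = m → 0 < k → 0 < l →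
      So (k : ZMod p) l m → T k l m := by
    rintro c _ _ _ ⟨rfl, rfl, rfl⟩
    exact H c
  have ha := hr 0
  have hb := hr 1
  have hc := hr 2
  have hd := hr 3
  have t1 := H' ![0, 0, 1, 2] (r 0 + r 1) (r 2) (r 3) (by simp only [mr, Finset.sum_filter, Fin.sum_univ_four, _root_.Fin.isValue, _root_.Matrix.cons_val_zero, ↓ _root_.reduceIte, _root_.Matrix.cons_val_one, _root_.Matrix.cons_val, _root_.one_ne_zero, _root_.add_zero, _root_.Fin.reduceEq, _root_.Nat.add_left_cancel_iff, _root_.zero_ne_one, _root_.zero_add, _root_.and_self]) (by omega) hc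
  have t2 := H' ![0, 1, 0, 2] (r 0 + r 2) (r 1) (r 3) (by simp only [mr, Finset.sum_filter, Fin.sum_univ_four, _root_.Fin.isValue, _root_.Matrix.cons_val_zero, ↓ _root_.reduceIte, _root_.Matrix.cons_val_one, _root_.one_ne_zero, _root_.add_zero, _root_.Matrix.cons_val, _root_.Fin.reduceEq, _root_.Nat.add_left_cancel_iff, _root_.zero_ne_one, _root_.zero_add, _root_.and_self]) (by omega) hb
  have t3 := H' ![0, 1, 2, 0] (r 0 + r 3) (r 1) (r 2) (by simp only [mr, Finset.sum_filter, Fin.sum_univ_four, _root_.Fin.isValue, _root_.Matrix.cons_val_zero, ↓ _root_.reduceIte, _root_.Matrix.cons_val_one, _root_.one_ne_zero, _root_.add_zero, _root_.Matrix.cons_val, _root_.Fin.reduceEq, _root_.Nat.add_left_cancel_iff, _root_.zero_ne_one, _root_.zero_add, _root_.and_self]) (by omega) hb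
  have t4 := H' ![1, 0, 0, 2] (r 1 + r 2) (r 0) (r 3) (by simp only [mr, Finset.sum_filter, Fin.sum_univ_four, _root_.Fin.isValue, _root_.Matrix.cons_val_zero, _root_.one_ne_zero, ↓ _root_.reduceIte, _root_.Matrix.cons_val_one, _root_.zero_add, _root_.Matrix.cons_val, _root_.Fin.reduceEq, _root_.add_zero, _root_.Nat.add_left_cancel_iff, _root_.zero_ne_one, _root_.and_self]) (by omega) ha
  have t5 := H' ![1, 0, 2, 0] (r 1 + r 3) (r 0) (r 2) (by simp only [mr, Finset.sum_filter, Fin.sum_univ_four, _root_.Fin.isValue, _root_.Matrix.cons_val_zero, _root_.one_ne_zero, ↓ _root_.reduceIte, _root_.Matrix.cons_val_one, _root_.zero_add, _root_.Matrix.cons_val, _root_.Fin.reduceEq, _root_.add_zero, _root_.Nat.add_left_cancel_iff, _root_.zero_ne_one, _root_.and_self]) (by omega) ha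
  have t6 := H' ![1, 2, 0, 0] (r 2 + r 3) (r 0) (r 1) (by simp only [mr, Finset.sum_filter, Fin.sum_univ_four, _root_.Fin.isValue, _root_.Matrix.cons_val_zero, _root_.one_ne_zero, ↓ _root_.reduceIte, _root_.Matrix.cons_val_one, _root_.Fin.reduceEq, _root_.add_zero, _root_.Matrix.cons_val, _root_.zero_add, _root_.Nat.add_left_cancel_iff, _root_.zero_ne_one, _root_.and_self]) (by omega) ha
  have s1 := H' ![0, 1, 1, 1] (r 0) (r 1 + r 2 + r 3) 0 (by simp only [mr, Finset.sum_filter, Fin.sum_univ_four, _root_.Fin.isValue, _root_.Matrix.cons_val_zero, ↓ _root_.reduceIte, _root_.Matrix.cons_val_one, _root_.one_ne_zero, _root_.add_zero, _root_.Matrix.cons_val, _root_.zero_ne_one, _root_.zero_add, _root_.Nat.add_left_cancel_iff, _root_.Fin.reduceEq, _root_.and_self]) ha (by omega)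
  have s2 := H' ![1, 0, 1, 1] (r 1) (r 0 + r 2 + r 3) 0 (by simp only [mr, Finset.sum_filter, Fin.sum_univ_four, _root_.Fin.isValue, _root_.Matrix.cons_val_zero, _root_.one_ne_zero, ↓ _root_.reduceIte, _root_.Matrix.cons_val_one, _root_.zero_add, _root_.Matrix.cons_val, _root_.add_zero, _root_.zero_ne_one, _root_.Nat.add_left_cancel_iff, _root_.Fin.reduceEq, _root_.and_self]) hb (by omega)
  have s3 := H' ![1, 1, 0, 1] (r 2) (r 0 + r 1 + r 3) 0 (by simp only [mr, Finset.sum_filter, Fin.sum_univ_four, _root_.Fin.isValue, _root_.Matrix.cons_val_zero, _root_.one_ne_zero, ↓ _root_.reduceIte, _root_.Matrix.cons_val_one, _root_.add_zero, _root_.Matrix.cons_val, _root_.zero_add, _root_.zero_ne_one, _root_.Nat.add_left_cancel_iff, _root_.Fin.reduceEq, _root_.and_self]) hc (by omega)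
  have s4 := H' ![1, 1, 1, 0] (r 3) (r 0 + r 1 + r 2) 0 (by simp only [mr, Finset.sum_filter, Fin.sum_univ_four, _root_.Fin.isValue, _root_.Matrix.cons_val_zero, _root_.one_ne_zero, ↓ _root_.reduceIte, _root_.Matrix.cons_val_one, _root_.add_zero, _root_.Matrix.cons_val, _root_.zero_add, _root_.zero_ne_one, _root_.Nat.add_left_cancel_iff, _root_.Fin.reduceEq, _root_.and_self]) hd (by omega)
  have s5 := H' ![0, 0, 1, 1] (r 0 + r 1) (r 2 + r 3) 0 (by simp only [mr, Finset.sum_filter, Fin.sum_univ_four, _root_.Fin.isValue, _root_.Matrix.cons_val_zero, ↓ _root_.reduceIte, _root_.Matrix.cons_val_one, _root_.Matrix.cons_val, _root_.one_ne_zero, _root_.add_zero, _root_.Nat.add_left_cancel_iff, _root_.zero_ne_one, _root_.zero_add, _root_.Fin.reduceEq, _root_.and_self])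
    (by omega) (by omega)
  have s6 := H' ![0, 1, 0, 1] (r 0 + r 2) (r 1 + r 3) 0 (by simp only [mr, Finset.sum_filter, Fin.sum_univ_four, _root_.Fin.isValue, _root_.Matrix.cons_val_zero, ↓ _root_.reduceIte, _root_.Matrix.cons_val_one, _root_.one_ne_zero, _root_.add_zero, _root_.Matrix.cons_val, _root_.Nat.add_left_cancel_iff, _root_.zero_ne_one, _root_.zero_add, _root_.Fin.reduceEq, _root_.and_self])
    (by omega) (by omega)
  have s7 := H' ![0, 1, 1, 0] (r 0 + r 3) (r 1 + r 2) 0 (by simp only [mr, Finset.sum_filter, Fin.sum_univ_four, _root_.Fin.isValue, _root_.Matrix.cons_val_zero, ↓ _root_.reduceIte, _root_.Matrix.cons_val_one, _root_.one_ne_zero, _root_.add_zero, _root_.Matrix.cons_val, _root_.Nat.add_left_cancel_iff, _root_.zero_ne_one, _root_.zero_add, _root_.Fin.reduceEq, _root_.and_self])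
    (by omega) (by omega)
  generalize r 0 = a, r 1 = b, r 2 = c, r 3 = d at *
  push_cast at t1 t2 t3 t4 t5 t6 s1 s2 s3 s4 s5 s6 s7
  have h23 : ∀ {k l m k' l' : ℕ}, T k l m → T k' l' 0 → 0 < k → 0 < l → 0 < m → False := fun h1 h3 _ _ _ => by
    have := hT _ _ _ _ _ _ h1 h3 (min 1) rfl
    omega
  by_cases hs : (a : ZMod p) + b + c + d = 0
  swap
  · exact h23 (t1 (so_of_ne h2 hs)) (s4 (so_of_ne h2 fun e => hs (by linear_combination e))) (by omega) hc hd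
  obtain ⟨k, l, m, h1, h3, h4, h5⟩ : ∃ k l m, 0 < k ∧ 0 < l ∧ 0 < m ∧ T k l m := by
    rcases go_split h2 hs with h | h | h | h | h | h
    · exact ⟨_, _, _, by omega, hc, hd, t1 (so_of_go h2 (by linear_combination hs) h)⟩
    · exact ⟨_, _, _, by omega, hb, hd, t2 (so_of_go h2 (by linear_combination hs) h)⟩
    · exact ⟨_, _, _, by omega, hb, hc, t3 (so_of_go h2 (by linear_combination hs) h)⟩
    · exact ⟨_, _, _, by omega, ha, hd, t4 (so_of_go h2 (by linear_combination hs) h)⟩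
    · exact ⟨_, _, _, by omega, ha, hc, t5 (so_of_go h2 (by linear_combination hs) h)⟩
    · exact ⟨_, _, _, by omega, ha, hb, t6 (so_of_go h2 (by linear_combination hs) h)⟩
  have z : ∀ {k' l' : ℕ} {x y : ZMod p}, (So x y 0 → T k' l' 0) → x + y = 0 → x ≠ 0 := fun h e e' =>
    h23 h5 (h (so_of_go h2 (by linear_combination e) (.inl ⟨e', by linear_combination e - e', rfl⟩))) h1 h3 h4
  have z1 := z s1 (by linear_combination hs)
  have z2 := z s2 (by linear_combination hs)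
  have z3 := z s3 (by linear_combination hs)
  have z4 := z s4 (by linear_combination hs)
  have z7 := z s7 (by linear_combination hs)
  have u1 := t1 (so_of_go h2 (by linear_combination hs) (.inr ⟨z s5 (by linear_combination hs), z3, z4⟩))
  have u2 := t2 (so_of_go h2 (by linear_combination hs) (.inr ⟨z s6 (by linear_combination hs), z2, z4⟩))
  have u3 := t3 (so_of_go h2 (by linear_combination hs) (.inr ⟨z7, z2, z3⟩))
  have u4 := t4 (so_of_go h2 (by linear_combination hs) (.inr ⟨fun e => z7 (by linear_combination hs - e), z1, z4⟩))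
  have e1 := hT _ _ _ _ _ _ u1 u2 (· ^ 2) rfl
  have e2 := hT _ _ _ _ _ _ u1 u3 (· ^ 2) rfl
  have e3 := hT _ _ _ _ _ _ u1 u4 (· ^ 2) rfl
  obtain rfl : b = c := Nat.eq_of_mul_eq_mul_left ha (by linarith only [e1])
  obtain rfl : b = d := Nat.eq_of_mul_eq_mul_left ha (by linarith only [e2])
  obtain rfl : a = b := Nat.eq_of_mul_eq_mul_right hb (by linarith only [e3])
  exact mul_ne_zero h2 (mul_ne_zero h2 z1) (by linear_combination hs)

end Cfsg.Agent.TO.LU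
end

-- part: TO/LU/Sys
section
/-!
# S4817, linear and unitary groups: the abstract setting (helper1)
-/

set_option autoImplicit false

namespace Cfsg.Agent.TO.LU

open Matrix
open Cfsg.Agent.BHZ.Nil

variable {F : Type} [Field F] {n p : ℕ} {G X : Type} [Group G] [Group X]

/-- the automorphism permutes the dimensions of the eigenspaces -/
def Lifts (ι : G →* (Mt n F)ˣ) (Ψ : MulAut G) : Prop :=
  ∃ β : Fˣ ≃ Fˣ, β 1 = 1 ∧ ∀ (g : G) (l : Fˣ), ed (ι (Ψ g)).1 (β l) = ed (ι g).1 l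

theorem Lifts.mul {ι : G →* (Mt n F)ˣ} {Ψ Φ : MulAut G} (h : Lifts ι Ψ) (h' : Lifts ι Φ) : Lifts ι (Ψ * Φ) := by
  obtain ⟨β, b1, b2⟩ := h
  obtain ⟨γ, c1, c2⟩ := h'
  exact ⟨γ.trans β, by simp [b1, c1], fun g l => (b2 (Φ g) (γ l)).trans (c2 g l)⟩

/-- `G` is the group of the elements of determinant one of `Γ`, `X` its quotient by the scalars -/
structure Sys (p : ℕ) (ι : G →* (Mt n F)ˣ) (π : G →* X) (Γ : Subgroup (Mt n F)ˣ) (μ : Subgroup Fˣ) : Prop where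
  n0 : n ≠ 0
  hF : (p : F) ≠ 0
  inj : Function.Injective ι
  surj : Function.Surjective π
  mem : ∀ g, ι g ∈ Γ
  ex : ∀ x ∈ Γ, (x : Mt n F).det = 1 → ∃ g, ι g = x
  ker : ∀ g, π g = 1 ↔ ∃ c ∈ μ, ι g = sc n c
  scal : ∀ c ∈ μ, sc n c ∈ Γ
  detm : ∀ x ∈ Γ, ∃ c ∈ μ, (x : Mt n F).det = c
  cut : CutClosed p F Γ
  aut : ∀ α : MulAut X, ∃ Ψ : MulAut G, (∀ g, π (Ψ g) = α (π g)) ∧ Lifts ι Ψ
  dich : (∀ c ∈ μ, c ^ p = 1 → c = 1) ∨ ∀ (c : Fˣ) (k : ℕ), c ^ p ^ k = 1 → c ∈ μ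

/-- with the `p`-subgroup -/
structure Ctx (p : ℕ) (ι : G →* (Mt n F)ˣ) (π : G →* X) (Γ : Subgroup (Mt n F)ˣ) (μ : Subgroup Fˣ)
    (A : Subgroup (MulAut X)) (P : Subgroup G) : Prop extends Sys p ι π Γ μ where
  pg : IsPGroup p P
  pure : Pure p X A (P.map π)

/-- the elements over the nontrivial `p`-elements of `K(Q)` -/
structure Kel (p : ℕ) (π : G →* X) (P : Subgroup G) (x : G) : Prop where
  kk : π x ∈ KK p (P.map π)
  pe : PElt p (π x)
  ne : π x ≠ 1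

/-- the centralizer of `P` as a set of matrices -/
def Cs (ι : G →* (Mt n F)ˣ) (P : Subgroup G) : Set (Mt n F) :=
  {y | ∃ g ∈ Subgroup.centralizer (P : Set G), (ι g : Mt n F) = y}

variable {ι : G →* (Mt n F)ˣ} {π : G →* X} {Γ : Subgroup (Mt n F)ˣ} {μ : Subgroup Fˣ}
  {A : Subgroup (MulAut X)} {P : Subgroup G}

theorem cs_comm {x : G} (hx : x ∈ P) : ∀ y ∈ Cs ι P, Commute y (ι x : Mt n F) := by
  rintro _ ⟨g, hg, rfl⟩
  exact (Commute.map (show Commute x g from hg x hx) ι).units_val.symm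

theorem sc_inj (hn : n ≠ 0) : Function.Injective (sc n : Fˣ →* (Mt n F)ˣ) := fun c d e => by
  have : Nonempty (Fin n) := ⟨⟨0, Nat.pos_of_ne_zero hn⟩⟩
  have h := congrArg Units.val e
  rw [val_sc, val_sc] at h
  exact Units.ext (smul_left_injective F one_ne_zero h)

theorem val_sc_mul (c : Fˣ) (x : (Mt n F)ˣ) : (sc n c * x : (Mt n F)ˣ).1 = (c : F) • x.1 := by
  rw [Units.val_mul, val_sc, smul_mul_assoc, one_mul]

theorem Fam.eig_iff {C : Set (Mt n F)} {κ : Type} [Fintype κ] {e : κ → Mt n F} (h : Fam C Γ μ e) {x : Mt n F}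
    {v : κ → Fˣ} (hx : ∀ i, x * e i = (v i : F) • e i) (l : Fˣ) : ed x l ≠ 0 ↔ ∃ i, v i = l ∧ e i ≠ 0 := by
  classical
  rw [h.ed_eq hx, Ne, Finset.sum_eq_zero_iff]
  push Not
  refine ⟨fun ⟨i, h1, h2⟩ => ⟨i, Units.ext (Finset.mem_filter.1 h1).2, fun e => h2 (by rw [e, rank_zero])⟩,
    fun ⟨i, h1, h2⟩ => ⟨i, by simp only [h1, _root_.Finset.mem_filter, _root_.Finset.mem_univ, _root_.and_self], (rank_pos h2).ne'⟩⟩

theorem Fam.sum_ed [Fintype Fˣ] {C : Set (Mt n F)} {κ : Type} [Fintype κ] {e : κ → Mt n F} (h : Fam C Γ μ e) {x : Mt n F}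
    {v : κ → Fˣ} (hv : Function.Injective v) (hx : ∀ i, x * e i = (v i : F) • e i) (g : ℕ → ℕ) (g0 : g 0 = 0) :
    ∑ l : Fˣ, g (ed x l) = ∑ i, g (e i).rank := by
  classical
  refine (Fintype.sum_of_injective v hv _ _ (fun l hl => ?_) fun i => ?_).symm
  · rw [not_not.1 fun e => hl (((h.eig_iff hx l).1 e).imp fun _ h => h.1), g0]
  · rw [h.ed_eq hx, Finset.sum_eq_single_of_mem i (by simp only [_root_.Finset.mem_filter, _root_.Finset.mem_univ, _root_.and_self]) fun j hj e =>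
      (e (hv (Units.ext (Finset.mem_filter.1 hj).2))).elim]

namespace Sys

variable (S : Sys p ι π Γ μ)
include S

theorem cent : π.ker ≤ Subgroup.center G := fun g hg => Subgroup.mem_center_iff.2 fun y => by
  obtain ⟨c, -, e⟩ := (S.ker g).1 hg
  exact S.inj (by rw [map_mul, map_mul, e, (commute_sc c _).eq])

theorem of_eq {x y : G} (h : π x = π y) : ∃ c ∈ μ, ι x = sc n c * ι y := by
  obtain ⟨c, hc, e⟩ := (S.ker (x * y⁻¹)).1 (by rw [map_mul, map_inv, h, mul_inv_cancel])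
  exact ⟨c, hc, by rw [← e, ← map_mul, inv_mul_cancel_right]⟩

/-- diagonal elements of determinant one -/
theorem exists_x {C : Set (Mt n F)} {κ : Type} [Fintype κ] {e : κ → Mt n F} (h : Fam C Γ μ e) (v : κ → Fˣ)
    (hv : ∀ i, v i ∈ μ) {N : ℕ} (hN : ∀ i, v i ^ N = 1) (hd : ∏ i, v i ^ (e i).rank = 1) :
    ∃ x : G, (∀ i, (ι x : Mt n F) * e i = (v i : F) • e i) ∧ x ^ N = 1 := by
  obtain ⟨g, hg, h1, h2⟩ := h.exists_diag v hv
  obtain ⟨x, rfl⟩ := S.ex g hg (by rw [h2]; simpa only [_root_.Units.coe_prod, _root_.Units.val_pow_eq_pow_val, _root_.Units.val_one] using congrArg Units.val hd)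
  refine ⟨x, h1, S.inj (Units.ext (h.ext fun i => ?_))⟩
  rw [map_pow, Units.val_pow_eq_pow_val, Fam.pow_mul h1, ← Units.val_pow_eq_pow_val, hN]
  simp

end Sys

namespace Ctx

variable [hp : Fact p.Prime] [Finite G] (S : Ctx p ι π Γ μ A P)
include S

theorem kel {x : G} (hc : ∀ y ∈ Cs ι P, Commute y (ι x : Mt n F)) {k : ℕ} (hk : x ^ p ^ k = 1) (h1 : π x ≠ 1) :
    Kel p π P x := by
  refine ⟨map_mem_KK S.surj S.cent S.pg (bicent_le_KK P fun y hy => S.inj ?_), ?_, h1⟩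
  · rw [map_mul, map_mul]
    exact Units.ext (hc _ ⟨y, hy, rfl⟩)
  · obtain ⟨j, -, hj⟩ := (Nat.dvd_prime_pow hp.out).1 (orderOf_dvd_of_pow_eq_one (show π x ^ p ^ k = 1 by
      rw [← map_pow, hk, map_one]))
    exact ⟨j, hj⟩

omit hp [Finite G] in
theorem exists_pow {x : G} (hx : x ∈ P) : ∃ k, x ^ p ^ k = 1 := (S.pg ⟨x, hx⟩).imp fun _ h => congrArg Subtype.val h

theorem kel_of_mem {x : G} (hx : x ∈ P) (h1 : π x ≠ 1) : Kel p π P x :=
  let ⟨_, hk⟩ := S.exists_pow hx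
  S.kel (cs_comm hx) hk h1

theorem kel_fam {κ : Type} [Fintype κ] {e : κ → Mt n F} (h : Fam (Cs ι P) Γ μ e) {x : G} {v : κ → Fˣ}
    (hx : ∀ i, (ι x : Mt n F) * e i = (v i : F) • e i) {k : ℕ} (hk : x ^ p ^ k = 1) {i j : κ} (hi : e i ≠ 0)
    (hj : e j ≠ 0) (hij : v i ≠ v j) : Kel p π P x := by
  refine S.kel (fun y hy => h.commute hx hy) hk fun e1 => hij ?_
  obtain ⟨c, -, hc⟩ := (S.ker x).1 e1
  have h2 : ∀ i, e i ≠ 0 → v i = c := fun i hi => Units.ext (smul_left_injective F hi (by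
    beta_reduce; rw [← hx, hc, val_sc, smul_mul_assoc, one_mul]))
  rw [h2 i hi, h2 j hj]

theorem pow_p {x : G} (hx : x ∈ P) : π x ^ p = 1 := by
  by_cases h : π x = 1
  · rw [h, one_pow]
  · exact S.pure.expo _ (S.kel_of_mem hx h).kk (S.kel_of_mem hx h).pe

theorem pow_sc {x : G} (hx : x ∈ P) : ∃ c ∈ μ, ι x ^ p = sc n c := by
  rw [← map_pow]
  exact (S.ker _).1 (by rw [map_pow, S.pow_p hx])

omit hp [Finite G] in
theorem rel0 {x y : G} (hx : Kel p π P x) (hy : Kel p π P y) : ∃ (Ψ : MulAut G) (β : Fˣ ≃ Fˣ), ∃ c ∈ μ, β 1 = 1 ∧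
    ι y = sc n c * ι (Ψ x) ∧ ∀ l : Fˣ, ed (ι y).1 (c * β l : Fˣ) = ed (ι x).1 l := by
  obtain ⟨α, -, e⟩ := S.pure.conj _ hx.kk _ hy.kk hx.pe hy.pe hx.ne hy.ne
  obtain ⟨Ψ, h1, β, h2, h3⟩ := S.aut α
  obtain ⟨c, hc, h4⟩ := S.of_eq ((h1 x).trans e).symm
  exact ⟨Ψ, β, c, hc, h2, h4, fun l => by rw [h4, val_sc_mul, Units.val_mul, ed_smul c.ne_zero, h3]⟩

omit hp [Finite G] in
theorem rel {x y : G} (hx : Kel p π P x) (hy : Kel p π P y) :
    ∃ γ : Fˣ ≃ Fˣ, ∀ l : Fˣ, ed (ι y).1 (γ l) = ed (ι x).1 l :=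
  let ⟨_, β, c, _, _, _, h⟩ := S.rel0 hx hy
  ⟨β.trans (Equiv.mulLeft c), h⟩

omit hp [Finite G] in
/-- three eigenvalues against two -/
theorem no23 {x y : G} (hx : Kel p π P x) (hy : Kel p π P y) {k l m u v : Fˣ} (h1 : k ≠ l) (h2 : k ≠ m) (h3 : l ≠ m)
    (hk : ed (ι x).1 k ≠ 0) (hl : ed (ι x).1 l ≠ 0) (hm : ed (ι x).1 m ≠ 0)
    (h : ∀ w : Fˣ, ed (ι y).1 w ≠ 0 → w = u ∨ w = v) : False := by
  obtain ⟨γ, hγ⟩ := S.rel hx hy
  have e1 := h _ (hγ k ▸ hk)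
  have e2 := h _ (hγ l ▸ hl)
  have e3 := h _ (hγ m ▸ hm)
  rw [← γ.injective.ne_iff] at h1 h2 h3
  grind

theorem no4' [Finite F] {ω : Fˣ} (hω : ω ^ p = 1) (h1 : ω ≠ 1) (hm : ω ∈ μ) {e : Fin 4 → Mt n F}
    (h : Fam (Cs ι P) Γ μ e) (he : ∀ j, e j ≠ 0) : False := by
  classical
  have := Fintype.ofFinite Fˣ
  refine lc4 S.pure.odd (r := fun v => (e v).rank) (fun v => rank_pos (he v))
    (fun k l m => ∃ x, Kel p π P x ∧ ∀ g : ℕ → ℕ, g 0 = 0 → ∑ w : Fˣ, g (ed (ι x).1 w) = g k + g l + g m) ?_ ?_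
  · rintro k l m k' l' m' ⟨x, hx, e1⟩ ⟨y, hy, e2⟩ g g0
    obtain ⟨γ, hγ⟩ := S.rel hx hy
    rw [← e1 g g0, ← e2 g g0, ← γ.sum_comp fun w => g (ed (ι y).1 w)]
    simp only [hγ]
  · rintro c h2 h3 ⟨u, v, w, huv, huw, hvw, hs⟩
    have h4 := h.merge c
    have hr : ∀ j, mr (fun v => (e v).rank) c j = (∑ i with c i = j, e i).rank := fun j => (h.gd_sum _).2.symm
    simp only [hr] at h2 h3 hs ⊢
    have hi : Function.Injective ![u, v, w] := by
      intro i j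
      (revert i j; simp only [huv, huw, hvw, huv.symm, huw.symm, hvw.symm, _root_.Fin.forall_fin_succ, _root_.Nat.succ_eq_add_one, Nat.reduceAdd, Fin.isValue, _root_.Matrix.cons_val_zero, _root_.Matrix.cons_val_succ, _root_.Fin.succ_zero_eq_one, _root_.Matrix.cons_val_fin_one, _root_.Fin.succ_one_eq_two, _root_.IsEmpty.forall_iff, _root_.and_true, _root_.imp_self, _root_.zero_ne_one, Fin.reduceEq, _root_.and_self, _root_.Fin.succ_ne_zero, _root_.imp_false, _root_.not_false_eq_true, _root_.forall_const, _root_.true_and])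
    obtain ⟨x, h5, h6⟩ := S.exists_x h4 (fun j => zt ω (![u, v, w] j)) (fun j => pow_mem hm _) (N := p ^ 1)
      (fun j => by rw [pow_one, zt_pow_p hω]) (by
        simp only [Fin.prod_univ_three, ← zt_mul_natCast hω, ← zt_add hω]
        exact (congrArg _ hs).trans (zt_zero ω))
    refine ⟨x, S.kel_fam h4 h5 h6 (i := 0) (j := 1) (fun e => h2.ne' (by rw [e, rank_zero]))
      (fun e => h3.ne' (by rw [e, rank_zero])) fun e => huv (zt_inj hω h1 e), fun g g0 => ?_⟩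
    rw [h4.sum_ed ((zt_inj hω h1).comp hi) h5 g g0, Fin.sum_univ_three]

/-- four blocks -/
theorem no4 [Finite F] {ω : Fˣ} (hω : ω ^ p = 1) (h1 : ω ≠ 1) (hm : ω ∈ μ) {κ : Type} [Fintype κ] {e : κ → Mt n F}
    (h : Fam (Cs ι P) Γ μ e) {s : Fin 4 → κ} (hs : Function.Injective s) (he : ∀ j, e (s j) ≠ 0) : False := by
  refine S.no4' hω h1 hm (h.merge (Function.invFun s)) fun v e1 => ?_
  have h2 := (h.gd_sum _).2.symm.trans ((congrArg _ e1).trans rank_zero)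
  exact he v (eq_zero_of_rank (Finset.sum_eq_zero_iff.1 h2 _ (by simp only [Function.leftInverse_invFun hs v, _root_.Finset.mem_filter, _root_.Finset.mem_univ, _root_.and_self])))

end Ctx

end Cfsg.Agent.TO.LU
end

-- part: TO/LU/Core
section
/-!
# S4817, linear and unitary groups: the surviving configuration (helper1)
-/

set_option autoImplicit false

namespace Cfsg.Agent.TO.LU

open Matrix
open Cfsg.Agent.BHZ.Nil

variable {F : Type} [Field F] {n p : ℕ} {G X : Type} [Group G] [Group X]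
  {ι : G →* (Mt n F)ˣ} {π : G →* X} {Γ : Subgroup (Mt n F)ˣ} {μ : Subgroup Fˣ}
  {A : Subgroup (MulAut X)} {P : Subgroup G} [hp : Fact p.Prime]

theorem mem_zp {y : X} (hy : y ^ p = 1) {j : ℕ} (h : y ^ j ≠ 1) : y ∈ Subgroup.zpowers (y ^ j) := by
  rw [mem_zpowers_pow_iff, orderOf_eq_prime hy fun e => h (by rw [e, one_pow])]
  exact ((Nat.Prime.coprime_iff_not_dvd hp.out).2 fun ⟨m, e⟩ => h (by rw [e, pow_mul, hy, one_pow])).symm

namespace Ctx

variable [Finite G] (S : Ctx p ι π Γ μ A P)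
include S

theorem exists_z : ∃ z ∈ P, π z ≠ 1 ∧ (∀ w ∈ P, π w * π z = π z * π w) ∧ ∃ y ∈ P, π y ∉ Subgroup.zpowers (π z) := by
  have := Finite.of_surjective π S.surj
  have : Nontrivial (P.map π) := not_subsingleton_iff_nontrivial.1 fun _ => S.pure.nc isCyclic_of_subsingleton
  obtain ⟨⟨⟨_, z, hz, rfl⟩, h1⟩, h2⟩ := @exists_ne _ S.pure.pg.center_nontrivial 1
  refine ⟨z, hz, fun e => h2 (Subtype.ext (Subtype.ext e)),
    fun w hw => congrArg Subtype.val (Subgroup.mem_center_iff.1 h1 ⟨_, w, hw, rfl⟩), ?_⟩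
  by_contra! h
  refine S.pure.nc ?_
  rw [le_antisymm (show P.map π ≤ _ by rintro _ ⟨w, hw, rfl⟩; exact h w hw) (Subgroup.zpowers_le_of_mem ⟨z, hz, rfl⟩)]
  infer_instance

theorem exists_rel {z w : G} (hw : w ∈ P) (h : π w * π z = π z * π w) :
    ∃ c ∈ μ, c ^ p = 1 ∧ ι w * ι z = sc n c * ι z * ι w := by
  obtain ⟨c, hc, e⟩ := S.of_eq (x := w * z) (y := z * w) (by rw [map_mul, map_mul, h])
  rw [map_mul, map_mul, ← mul_assoc] at e
  obtain ⟨d, -, hd⟩ := S.pow_sc hw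
  have h2 := pow_mul_of_rel (commute_sc c _) e p
  rw [hd, (commute_sc d _).eq, mul_left_inj, ← map_pow] at h2
  exact ⟨c, hc, sc_inj S.n0 ((mul_eq_right.1 h2.symm).trans (map_one _).symm), e⟩

omit [Finite G] hp in
theorem sc_pow_one {x : G} {c : Fˣ} {j k : ℕ} (e : ι x ^ j = sc n c) (hk : x ^ k = 1) : c ^ k = 1 :=
  sc_inj S.n0 (by rw [map_pow, ← e, ← pow_mul, mul_comm, pow_mul, ← map_pow, hk, map_one, one_pow, map_one])

/-- no scalars of order `p` -/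
theorem no_tors (hμ : ∀ c ∈ μ, c ^ p = 1 → c = 1) : False := by
  have hμ' : ∀ k, ∀ c ∈ μ, c ^ p ^ k = 1 → c = 1 := fun k => by
    induction k with
    | zero => simp
    | succ k ih => exact fun c hc e => hμ c hc (ih _ (pow_mem hc p) (by rw [← pow_mul, ← pow_succ', e]))
  have h1 : ∀ x ∈ P, ι x ^ p = 1 := fun x hx => by
    obtain ⟨c, hc, e⟩ := S.pow_sc hx
    obtain ⟨k, hk⟩ := S.exists_pow hx
    rw [e, hμ' k c hc (S.sc_pow_one e hk), map_one]
  obtain ⟨z, hz, z1, zc, y, hy, y1⟩ := S.exists_z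
  obtain ⟨c, hc, c1, e⟩ := S.exists_rel hy (zc y hy)
  rw [hμ c hc c1, map_one, one_mul] at e
  obtain ⟨u, hu, v, hv, up, vp, h2, h3, h4⟩ := exists_cut S.hF S.cut (S.mem z) (S.mem y) (h1 z hz) (h1 y hy) e.symm
    (fun e => z1 (by rw [S.inj (e.trans (map_one ι).symm), map_one]))
    fun ⟨k, hk⟩ => y1 ⟨k, by beta_reduce; rw [← map_zpow, S.inj ((map_zpow ι z k).trans hk)]⟩
  have h5 : ∀ u ∈ Γ, u ^ p = 1 → ed u.1 1 < n → (∀ g ∈ Cs ι P, Commute g u) →
      ∃ x, ι x = u ∧ x ^ p = 1 ∧ Kel p π P x := fun u hu up h6 h7 => by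
    obtain ⟨c, hc, e⟩ := S.detm u hu
    obtain ⟨x, rfl⟩ := S.ex u hu (by
      rw [e, hμ c hc (Units.ext (by rw [Units.val_pow_eq_pow_val, ← e, ← det_pow, val_pow_one up, det_one]; rfl))]; rfl)
    have xp : x ^ p = 1 := S.inj (by rw [map_pow, up, map_one])
    refine ⟨x, rfl, xp, S.kel h7 (k := 1) (by rwa [pow_one]) fun e1 => ?_⟩
    obtain ⟨d, hd, e2⟩ := (S.ker x).1 e1
    rw [e2, hμ d hd (S.sc_pow_one ((pow_one _).trans e2) xp)] at h6
    simp only [ed, _root_.map_one, _root_.Units.val_one, _root_.one_smul, _root_.sub_self, _root_.Matrix.rank_zero, _root_.tsub_zero, _root_.lt_self_iff_false] at h6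
  obtain ⟨x, rfl, xp, hx⟩ := h5 u hu up h3 fun g hg => (h4 g (cs_comm hz g hg) (cs_comm hy g hg)).1
  obtain ⟨w, rfl, wp, hw⟩ := h5 v hv vp (h2.trans h3) fun g hg => (h4 g (cs_comm hz g hg) (cs_comm hy g hg)).2
  obtain ⟨Ψ, β, d, hd, b1, e1, e2⟩ := S.rel0 hx hw
  have h8 := e2 1
  rw [e1, (commute_sc d _).mul_pow, ← map_pow, ← map_pow, ← map_pow, xp, map_one, map_one, mul_one] at vp
  rw [b1, hμ d hd (sc_inj S.n0 (vp.trans (map_one _).symm)), mul_one] at h8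
  exact h2.ne h8

variable {ω : Fˣ} (hω : ω ^ p = 1) (h1 : ω ≠ 1) (hm : ω ∈ μ)
include hω h1 hm

theorem eig {x : G} (hx : Kel p π P x) : ∃ l : Fˣ, ed (ι x).1 l ≠ 0 := by
  suffices H : ∃ a ∈ P, π a ≠ 1 ∧ ι a ^ p = 1 by
    obtain ⟨a, ha, a1, ap⟩ := H
    have hf := fam_ev S.hF hω h1 S.cut S.scal hm (S.mem a) ap (cs_comm ha)
    obtain ⟨γ, hγ⟩ := S.rel (S.kel_of_mem ha a1) hx
    obtain ⟨k, hk⟩ : ∃ k : ZMod p, ev ω (ι a) k ≠ 0 := by
      by_contra! h
      exact S.n0 (hf.sum_rank.symm.trans (Finset.sum_eq_zero fun k _ => by rw [h k, rank_zero]))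
    exact ⟨γ (zt ω k), by rw [hγ]; exact (hf.eig_iff (v := zt ω) (mul_ev hω ap) _).2 ⟨k, rfl, hk⟩⟩
  have H : ∀ a ∈ P, ∀ b : G, π a * π b = π b * π a → ∀ (c d : Fˣ) (j : ℕ), ι a ^ p = sc n c → ι b ^ p = sc n d →
      (d : F) * c ^ j = 1 → ι (b * a ^ j) ^ p = 1 := fun a ha b h c d j hc hd e1 => by
    obtain ⟨t, -, t1, e⟩ := S.exists_rel (pow_mem ha j) (z := b) (by rw [map_pow]; exact (Commute.pow_left h j).eq)
    obtain ⟨s, hs⟩ := hp.out.dvd_choose_self two_ne_zero (lt_of_le_of_ne hp.out.two_le S.pure.odd.symm)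
    rw [map_mul, mul_pow_of_rel (commute_sc t _) (commute_sc t _) e, hs, pow_mul, sc_pow t1, one_pow, one_mul, map_pow,
      ← pow_mul, mul_comm j, pow_mul, hc, hd, ← map_pow, ← map_mul, show d * c ^ j = 1 from Units.ext e1, map_one]
  obtain ⟨z, hz, z1, zc, y, hy, y1⟩ := S.exists_z
  obtain ⟨c, -, hc⟩ := S.pow_sc hz
  obtain ⟨d, -, hd⟩ := S.pow_sc hy
  obtain ⟨k, hk⟩ := S.exists_pow hz
  obtain ⟨l, hl⟩ := S.exists_pow hy
  have e1 := congrArg Units.val (S.sc_pow_one hc (k := p ^ (k + l)) (by rw [pow_add, pow_mul, hk, one_pow]))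
  have e2 := congrArg Units.val (S.sc_pow_one hd (k := p ^ (k + l)) (by rw [pow_add, pow_mul', hl, one_pow]))
  rcases exists_pow_rel (K := F) e1 e2 with ⟨j, e⟩ | ⟨j, e⟩
  · refine ⟨_, mul_mem hy (pow_mem hz j), fun e3 => y1 ?_, H z hz y (zc y hy).symm c d j hc hd e⟩
    rw [map_mul, map_pow, mul_eq_one_iff_eq_inv] at e3
    exact e3 ▸ inv_mem (Subgroup.npow_mem_zpowers _ _)
  · refine ⟨_, mul_mem hz (pow_mem hy j), fun e3 => y1 ?_, H y hy z (zc y hy) d c j hd hc e⟩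
    rw [map_mul, map_pow, mul_eq_one_iff_inv_eq] at e3
    have h2 := mem_zp (S.pow_p hy) (e3 ▸ inv_ne_one.2 z1)
    rwa [← e3, Subgroup.zpowers_inv] at h2

variable (hall : ∀ (c : Fˣ) (k : ℕ), c ^ p ^ k = 1 → c ∈ μ)
include hall

theorem norm {x : G} (hx : x ∈ P) (x1 : π x ≠ 1) : ∃ l ∈ μ, (∃ k, l ^ p ^ k = 1) ∧ ∃ a ∈ Γ, a ^ p = 1 ∧
    ι x = sc n l * a ∧ ∀ y ∈ Cs ι P, Commute y a.1 := by
  obtain ⟨l, hl⟩ := S.eig hω h1 hm (S.kel_of_mem hx x1)
  obtain ⟨c, -, hc⟩ := S.pow_sc hx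
  obtain ⟨k, hk⟩ := S.exists_pow hx
  have e1 : l ^ p = c := Units.ext (pow_eq_of_ed (by rw [← Units.val_pow_eq_pow_val, hc, val_sc]) hl)
  have e2 : l ^ p ^ k = 1 := Units.ext (pow_eq_of_ed (c := 1) (by
    rw [← Units.val_pow_eq_pow_val, ← map_pow, hk, map_one, one_smul]; rfl) hl)
  refine ⟨l, hall l k e2, ⟨k, e2⟩, sc n l⁻¹ * ι x, mul_mem (S.scal _ (inv_mem (hall l k e2))) (S.mem x), ?_,
    by rw [map_inv, mul_inv_cancel_left], fun y hy => by rw [val_sc_mul]; exact (cs_comm hx y hy).smul_right _⟩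
  rw [(commute_sc _ _).mul_pow, hc, ← map_pow, ← map_mul, inv_pow, e1, inv_mul_cancel, map_one]

/-- commuting lifts -/
theorem caseA [Finite F] {a b : G} (ha : a ∈ P) (hb : b ∈ P) (hab : Commute a b) (a1 : π a ≠ 1)
    (b1 : π b ∉ Subgroup.zpowers (π a)) : False := by
  classical
  obtain ⟨l, hl, -, x, hx, xp, e1, cx⟩ := S.norm hω h1 hm hall ha a1
  obtain ⟨m, hm', -, y, hy, yp, e2, cy⟩ := S.norm hω h1 hm hall hb fun e => b1 (e ▸ one_mem _)
  have hxy : Commute x y := by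
    have h2 := (hab.map ι).eq
    rwa [e1, e2, (commute_sc m x).symm.mul_mul_mul_comm, (commute_sc l y).symm.mul_mul_mul_comm, (commute_sc l _).eq,
      mul_right_inj] at h2
  have hf := fam_ev2 S.hF hω h1 S.cut S.scal hm hx xp cx hy yp cy hxy
  have f1 : ∀ t : ZMod p × ZMod p, (ι a).1 * (ev ω x t.1 * ev ω y t.2) =
      ((l * zt ω t.1 : Fˣ) : F) • (ev ω x t.1 * ev ω y t.2) := fun t => by
    rw [e1, val_sc_mul, smul_mul_assoc, ← mul_assoc, mul_ev hω xp, smul_mul_assoc, smul_smul, Units.val_mul]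
  have f2 : ∀ t : ZMod p × ZMod p, (ι b).1 * (ev ω x t.1 * ev ω y t.2) =
      ((m * zt ω t.2 : Fˣ) : F) • (ev ω x t.1 * ev ω y t.2) := fun t => by
    rw [e2, val_sc_mul, smul_mul_assoc, ← mul_assoc, (commute_ev hxy.units_val.symm _).eq, mul_assoc, mul_ev hω yp,
      Matrix.mul_smul, smul_smul, Units.val_mul]
  obtain ⟨e, hf, f1, f2⟩ : ∃ e : ZMod p × ZMod p → Mt n F, Fam (Cs ι P) Γ μ e ∧
    (∀ t, (ι a).1 * e t = ((l * zt ω t.1 : Fˣ) : F) • e t) ∧ ∀ t, (ι b).1 * e t = ((m * zt ω t.2 : Fˣ) : F) • e t :=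
    ⟨_, hf, f1, f2⟩
  have f3 : ∀ i j : ZMod p, ∀ t, (ι (a ^ i.val * b ^ j.val)).1 * e t =
      ((l ^ i.val * m ^ j.val * zt ω (t.1 * i + t.2 * j) : Fˣ) : F) • e t := fun i j t => by
    rw [map_mul, map_pow, map_pow, Units.val_mul, Units.val_pow_eq_pow_val, Units.val_pow_eq_pow_val, mul_assoc,
      Fam.pow_mul f2, Matrix.mul_smul, Fam.pow_mul f1, smul_smul, ← Units.val_pow_eq_pow_val,
      ← Units.val_pow_eq_pow_val, ← Units.val_mul, mul_pow, mul_pow, zt_pow_val hω, zt_pow_val hω, zt_add hω]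
    exact congrArg (fun c : Fˣ => (c : F) • e t) (by ac_rfl)
  have f4 : ∀ i j : ZMod p, π (a ^ i.val * b ^ j.val) = 1 → i = 0 ∧ j = 0 := fun i j h => by
    rw [map_mul, map_pow, map_pow] at h
    have h2 : π b ^ j.val = 1 := by
      by_contra h2
      refine b1 ((Subgroup.zpowers_le_of_mem ?_) (mem_zp (S.pow_p hb) h2))
      rw [← mul_eq_one_iff_inv_eq.1 h]
      exact inv_mem (Subgroup.npow_mem_zpowers _ _)
    rw [h2, mul_one] at h
    have h3 : ∀ (u : X) (i : ZMod p), u ≠ 1 → u ^ p = 1 → u ^ i.val = 1 → i = 0 := fun u i u1 up h =>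
      (ZMod.val_eq_zero i).1 (Nat.eq_zero_of_dvd_of_lt ((orderOf_eq_prime up u1).symm.dvd.trans
        (orderOf_dvd_of_pow_eq_one h)) i.val_lt)
    exact ⟨h3 _ _ a1 (S.pow_p ha) h, h3 _ _ (fun e => b1 (by rw [e]; exact one_mem _)) (S.pow_p hb) h2⟩
  have f5 : ∀ i j s : ZMod p, ¬ (i = 0 ∧ j = 0) → ∃ t, e t ≠ 0 ∧ t.1 * i + t.2 * j ≠ s := fun i j s h => by
    by_contra! h2
    refine h (f4 i j ((S.ker _).2 ⟨l ^ i.val * m ^ j.val * zt ω s, mul_mem (mul_mem (pow_mem hl _) (pow_mem hm' _))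
      (pow_mem hm _), Units.ext (hf.ext fun t => ?_)⟩))
    rw [f3, val_sc, smul_mul_assoc, one_mul]
    by_cases h3 : e t = 0
    · rw [h3, smul_zero, smul_zero]
    · rw [h2 t h3]
  have f6 : ∀ i j : ZMod p, ¬ (i = 0 ∧ j = 0) → Kel p π P (a ^ i.val * b ^ j.val) := fun i j h =>
    S.kel_of_mem (mul_mem (pow_mem ha _) (pow_mem hb _)) fun e => h (f4 i j e)
  obtain ⟨r, r0, -⟩ := f5 1 0 0 (by simp)
  obtain ⟨s, s0, hs⟩ := f5 1 0 r.1 (by simp)
  have hs' : s.1 - r.1 ≠ 0 := fun e => hs (by linear_combination e)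
  obtain ⟨t, t0, ht⟩ := f5 (r.2 - s.2) (s.1 - r.1) (r.1 * (r.2 - s.2) + r.2 * (s.1 - r.1)) fun h => hs' h.2
  have h2 : (2 : ZMod p) ≠ 0 := fun e =>
    S.pure.odd ((Nat.prime_dvd_prime_iff_eq hp.out Nat.prime_two).1 ((ZMod.natCast_eq_zero_iff 2 p).1 e))
  by_cases h : ∃ u, e u ≠ 0 ∧ u ≠ r ∧ u ≠ s ∧ u ≠ t
  · obtain ⟨u, u0, ur, us, ut⟩ := h
    have rs : r ≠ s := fun e => hs' (by rw [e, sub_self])
    have rt : r ≠ t := fun e => ht (by rw [e])
    have st : s ≠ t := fun e => ht (by rw [← e]; ring)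
    refine S.no4 hω h1 hm hf (s := ![r, s, t, u]) (fun i j => ?_) fun j => by fin_cases j <;> assumption
    (revert i j; simp only [rs, rt, st, ur, us, ut, rs.symm, rt.symm, st.symm, ur.symm, us.symm, ut.symm, _root_.Fin.forall_fin_succ, Fin.isValue, _root_.Matrix.cons_val_zero, _root_.Matrix.cons_val_succ, _root_.Fin.succ_zero_eq_one, _root_.Fin.succ_one_eq_two, _root_.Matrix.cons_val_fin_one, Fin.reduceSucc, _root_.IsEmpty.forall_iff, _root_.and_true, _root_.imp_self, _root_.zero_ne_one, Fin.reduceEq, _root_.and_self, _root_.Fin.succ_ne_zero, _root_.imp_false, _root_.not_false_eq_true, _root_.forall_const, _root_.true_and])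
  have f7 : ∀ {c : Fˣ} {i j : ZMod p}, i ≠ j → c * zt ω i ≠ c * zt ω j := fun h e =>
    h (zt_inj hω h1 (mul_left_cancel e))
  have f8 := fun w => (hf.eig_iff (f3 (r.2 - s.2) (s.1 - r.1)) w).1
  have f9 := fun w => (hf.eig_iff (f3 (t.2 + r.2 - 2 * s.2) (2 * s.1 - r.1 - t.1)) w).2
  refine S.no23 (f6 _ _ fun h => ht ?_) (f6 _ _ fun h => hs' h.2) (f7 fun e => ht ?_)
    (f7 fun e => ht (mul_left_cancel₀ h2 ?_)) (f7 fun e => ht ?_) (f9 _ ⟨r, rfl, r0⟩) (f9 _ ⟨s, rfl, s0⟩)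
    (f9 _ ⟨t, rfl, t0⟩)
    (u := l ^ (r.2 - s.2).val * m ^ (s.1 - r.1).val * zt ω (s.1 * (r.2 - s.2) + s.2 * (s.1 - r.1)))
    (v := l ^ (r.2 - s.2).val * m ^ (s.1 - r.1).val * zt ω (t.1 * (r.2 - s.2) + t.2 * (s.1 - r.1)))
    fun w hw => (f8 w hw).elim fun u hu => ?_
  · linear_combination (s.1 - r.1) * h.1 + (s.2 - r.2) * h.2
  · linear_combination -e
  · linear_combination -e
  · linear_combination -e
  · by_cases ut : u = t
    · exact .inr (by rw [← hu.1, ut])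
    by_cases us : u = s
    · exact .inl (by rw [← hu.1, us])
    · rw [← hu.1, not_not.1 fun ur => h ⟨u, hu.2, ur, us, ut⟩]
      exact .inl (congrArg (_ * zt ω ·) (by ring))

/-- a Heisenberg pair -/
theorem caseB [Finite F] {z y : G} (hz : z ∈ P) (z1 : π z ≠ 1) (e : ι y * ι z = sc n ω * ι z * ι y) :
    p = 3 ∧ ¬ 9 ∣ n ∧ ∀ η ∈ μ, η ^ 9 = 1 → η ^ 3 = 1 := by
  classical
  obtain ⟨l, hl, -, a, ha, ap, e1, ca⟩ := S.norm hω h1 hm hall hz z1
  rw [e1, ← mul_assoc, ← (commute_sc l _).eq, ← mul_assoc, (commute_sc ω _).eq, mul_assoc, mul_assoc, mul_assoc,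
    mul_right_inj, ← mul_assoc] at e
  have hf := fam_ev S.hF hω h1 S.cut S.scal hm ha ap ca
  obtain ⟨m, hr⟩ : ∃ m, ∀ k : ZMod p, (ev ω a k).rank = m := by
    refine ⟨(ev ω a (0 : ZMod p)).rank, fun k => ?_⟩
    rw [← ZMod.natCast_zmod_val k]
    induction k.val with
    | zero => rw [Nat.cast_zero]
    | succ j ih => rw [rank_ev hω h1 e, Nat.cast_succ, add_sub_cancel_right, ih]
  have hn : p * m = n := by simpa [hr] using hf.sum_rank
  have h0 : ∀ k : ZMod p, ev ω a k ≠ 0 := fun k h =>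
    S.n0 (by rw [← hn, ← hr k, h, rank_zero, mul_zero])
  obtain rfl : p = 3 := by
    by_contra h3
    have h4 := hp.out.two_le
    have h5 := S.pure.odd
    refine S.no4 hω h1 hm hf (s := fun j => ((j : ℕ) : ZMod p)) (fun i j e => Fin.ext ?_) fun j => h0 _
    have h6 := congrArg ZMod.val e
    rwa [ZMod.val_natCast_of_lt (by omega), ZMod.val_natCast_of_lt (by omega)] at h6
  have f1 : ∀ k : ZMod 3, (ι z).1 * ev ω a k = ((l * zt ω k : Fˣ) : F) • ev ω a k := fun k => by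
    rw [e1, val_sc_mul, smul_mul_assoc, mul_ev hω ap, smul_smul, Units.val_mul]
  have f7 : ∀ {i j : ZMod 3}, i ≠ j → l * zt ω i ≠ l * zt ω j := fun h e => h (zt_inj hω h1 (mul_left_cancel e))
  have H : ∀ u ∈ μ, ∀ v ∈ μ, u ^ 3 ^ 2 = 1 → v ^ 3 ^ 2 = 1 → v ^ m * u ^ m * u ^ m = 1 → v = u := by
    intro u hu v hv u9 v9 h
    by_contra huv
    obtain ⟨x, h2, h3⟩ := S.exists_x hf (fun k => if k = 0 then v else u) (fun k => by split_ifs <;> assumption)
      (N := 3 ^ 2) (fun k => by split_ifs <;> assumption) (by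
        simp only [hr]
        exact (Fin.prod_univ_three _).trans h)
    refine S.no23 (S.kel_of_mem hz z1) (S.kel_fam hf h2 h3 (h0 0) (h0 1) huv)
      (f7 (show (0 : Fin 3) ≠ 1 by decide)) (f7 (show (0 : Fin 3) ≠ 2 by decide)) (f7 (show (1 : Fin 3) ≠ 2 by decide))
      ((hf.eig_iff f1 _).2 ⟨_, rfl, h0 _⟩) ((hf.eig_iff f1 _).2 ⟨_, rfl, h0 _⟩)
      ((hf.eig_iff f1 _).2 ⟨_, rfl, h0 _⟩) (u := v) (v := u) fun w hw => ?_
    obtain ⟨k, rfl, -⟩ := (hf.eig_iff h2 _).1 hw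
    split_ifs <;> simp
  refine ⟨rfl, fun h => h1 ?_, fun η hη h => ?_⟩
  · obtain ⟨j, rfl⟩ : 3 ∣ m := by omega
    exact (H ω hm 1 (one_mem _) (by rw [sq, pow_mul, hω, one_pow]) (one_pow _) (by simp [pow_mul, hω])).symm
  · have h2 := H η hη (η * η)⁻¹ (inv_mem (mul_mem hη hη)) h (by rw [inv_pow, mul_pow, show η ^ 3 ^ 2 = 1 from h]; simp)
      (by rw [← mul_pow, ← mul_pow]; simp)
    rw [pow_succ, sq, ← mul_inv_cancel (η * η), h2]

omit hω h1 hm hall in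
theorem core [Finite F] : p = 3 ∧ ∃ a b : G, ∃ ω ∈ μ, ω ≠ 1 ∧ ω ^ 3 = 1 ∧ a ^ 3 = 1 ∧ b ^ 3 = 1 ∧
    ι a * ι b = sc n ω * ι b * ι a ∧ ¬ 9 ∣ n ∧ (∀ η ∈ μ, η ^ 9 = 1 → η ^ 3 = 1) ∧
    P.map π = Subgroup.closure {π a, π b} := by
  have hall := S.dich.resolve_left S.no_tors
  obtain ⟨z, hz, z1, zc, y, hy, y1⟩ := S.exists_z
  have hB : ∀ w ∈ P, Commute z w → π w ∈ Subgroup.zpowers (π z) := fun w hw h => by
    by_contra h2
    refine S.no_tors fun c hc e => ?_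
    by_contra h3
    exact S.caseA e h3 hc hall hz hw h z1 h2
  obtain ⟨ω, hm, hω, e⟩ := S.exists_rel hy (zc y hy)
  have h1 : ω ≠ 1 := fun h => y1 (hB y hy (S.inj (by rw [map_mul, map_mul, e, h, map_one, one_mul])))
  obtain ⟨rfl, h9, h3⟩ := S.caseB hω h1 hm hall hz z1 e
  have h4 : ∀ k, ∀ l ∈ μ, l ^ 3 ^ k = 1 → l ^ 3 = 1 := fun k => by
    induction k with
    | zero => exact fun l _ h => by rw [(pow_one l).symm.trans h, one_pow]
    | succ k ih =>
      exact fun l hl h => h3 l hl ((pow_mul l 3 3).trans (ih _ (pow_mem hl 3) (by rw [← pow_mul, ← pow_succ', h])))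
  have h5 : ∀ x ∈ P, π x ≠ 1 → x ^ 3 = 1 := fun x hx x1 => by
    obtain ⟨l, hl, ⟨k, hk⟩, a, -, ap, e1, -⟩ := S.norm hω h1 hm hall hx x1
    exact S.inj (by rw [map_pow, e1, (commute_sc _ _).mul_pow, ap, sc_pow (h4 k l hl hk), one_mul, map_one])
  refine ⟨rfl, y, z, ω, hm, h1, hω, h5 y hy fun h => y1 (by rw [h]; exact one_mem _), h5 z hz z1, e, h9, h3,
    le_antisymm ?_ ((Subgroup.closure_le _).2 ?_)⟩
  · rintro _ ⟨w, hw, rfl⟩
    obtain ⟨c, -, c1, e1⟩ := S.exists_rel hw (zc w hw)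
    obtain ⟨j, -, rfl⟩ := (IsPrimitiveRoot.iff_orderOf.2 (orderOf_eq_prime hω h1)).eq_pow_of_mem_rootsOfUnity
      ((mem_rootsOfUnity _ _).2 c1)
    have h6 := hB _ (mul_mem (inv_mem (pow_mem hy j)) hw) (S.inj (by
      have h7 := pow_mul_of_rel (commute_sc ω _) e j
      simp only [map_mul, map_inv, map_pow]
      rw [mul_assoc, e1, map_pow, eq_inv_mul_iff_mul_eq, ← mul_assoc, h7, mul_assoc, mul_inv_cancel_left]))
    rw [← mul_inv_cancel_left (π y ^ j) (π w), ← map_pow, ← map_inv, ← map_mul, map_pow]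
    exact mul_mem (pow_mem (Subgroup.subset_closure (by simp)) j)
      (Subgroup.zpowers_le_of_mem (Subgroup.subset_closure (by simp)) h6)
  · rintro _ (rfl | rfl)
    exacts [⟨y, hy, rfl⟩, ⟨z, hz, rfl⟩]

end Ctx

end Cfsg.Agent.TO.LU
end

-- part: TO/LU/Main
section
/-!
# S4817: the boxes L1, U1 and the rows psl, psu (helper1)
-/

set_option autoImplicit false

namespace Cfsg.Agent.TO

open Cfsg Matrix
open Cfsg.Agent.BHZ.Nil
open Cfsg.Agent.ClassicalGeometry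

namespace LU

variable {F : Type} [Field F] {n : ℕ}

theorem ed_conj (A : (Mt n F)ˣ) (x : Mt n F) (l : F) : ed (A.1 * x * (A⁻¹ : (Mt n F)ˣ).1) l = ed x l := by
  rw [ed, ed, show A.1 * x * (A⁻¹ : (Mt n F)ˣ).1 - l • 1 = A.1 * (x - l • 1) * (A⁻¹ : (Mt n F)ˣ).1 by
    simp only [mul_sub, sub_mul, _root_.Matrix.coe_units_inv, _root_.Algebra.mul_smul_comm, _root_.mul_one, _root_.Algebra.smul_mul_assoc, _root_.Matrix.mul_inv_of_invertible], rank_mul_eq_left_of_isUnit_det _ _ (isUnits_det_units _),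
    rank_mul_eq_right_of_isUnit_det _ _ (isUnits_det_units _)]

theorem ed_map (σ : F ≃+* F) (x : Mt n F) (l : F) : ed (x.map σ) (σ l) = ed x l := by
  rw [ed, ed, ← H593.RobinsonRank.rank_map (σ : F →+* F) (x - l • 1)]
  congr 2
  ext i j
  by_cases h : i = j <;> simp [h]

theorem ed_inv (x : (Mt n F)ˣ) (l : Fˣ) : ed (x⁻¹ : (Mt n F)ˣ).1ᵀ (l⁻¹ : Fˣ) = ed x.1 l := by
  rw [ed, ed, ← rank_transpose, transpose_sub, transpose_transpose, transpose_smul, transpose_one,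
    ← rank_mul_eq_right_of_isUnit_det _ _ (isUnits_det_units x), ← rank_smul (neg_ne_zero.2 l.ne_zero)]
  congr 2
  rw [mul_sub, Units.mul_inv, Matrix.mul_smul, mul_one, neg_smul, smul_sub, smul_smul, Units.mul_inv, one_smul, neg_sub]

theorem exists_nine [Fintype F] (h : 9 ∣ Fintype.card F - 1) : ∃ η : Fˣ, η ^ 9 = 1 ∧ η ^ 3 ≠ 1 := by
  classical
  obtain ⟨g, hg⟩ := IsCyclic.exists_ofOrder_eq_natCard (α := Fˣ)
  rw [Nat.card_units, Nat.card_eq_fintype_card] at hg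
  have h2 := orderOf_pow_orderOf_div (orderOf_pos g).ne' (hg ▸ h)
  exact ⟨_, h2 ▸ pow_orderOf_eq_one _, pow_ne_one_of_lt_orderOf (by decide) (by omega)⟩

theorem heis3 {a b : (Mt n F)ˣ} {ω : Fˣ} (h1 : ω ≠ 1) (h3 : ω ^ 3 = 1) (ha : a ^ 3 = 1) (hb : b ^ 3 = 1)
    (h : a * b = sc n ω * b * a) : Heis3 a.1 b.1 (ω : F) :=
  have : Fact (Nat.Prime 3) := ⟨Nat.prime_three⟩
  ⟨IsPrimitiveRoot.coe_units_iff.2 (IsPrimitiveRoot.iff_orderOf.2 (orderOf_eq_prime h3 h1)), val_pow_one ha,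
    val_pow_one hb, by rw [← Units.val_mul, h, mul_assoc, val_sc_mul, Units.val_mul]⟩

variable [Fintype F] {p : ℕ} [hp : Fact p.Prime]

omit [Fintype F] in
theorem Sys.exists_ctx {G X : Type} [Group G] [Group X] [Finite G] {ι : G →* (Mt n F)ˣ} {π : G →* X}
    {Γ : Subgroup (Mt n F)ˣ} {μ : Subgroup Fˣ} (S : Sys p ι π Γ μ) {A : Subgroup (MulAut X)} {Q : Subgroup X}
    (h : Pure p X A Q) : ∃ P, P.map π = Q ∧ Ctx p ι π Γ μ A P := by
  obtain ⟨P, h1, -, rfl⟩ := exists_lift_pgroup S.surj IsPGroup.of_bot h.pg (by simp only [_root_.Subgroup.map_bot, _root_.bot_le])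
  exact ⟨P, rfl, S, h1, h⟩

omit hp in
open AutPSL.Root AutPSL.Auto H199.PslAut in
theorem sysL (hF : (p : F) ≠ 0) (hn : 2 ≤ n) :
    Sys p (SpecialLinearGroup.toGL : _root_.Matrix.SpecialLinearGroup (Fin n) F →* (Mt n F)ˣ) pr ⊤ ⊤ where
  n0 := by omega
  hF := hF
  inj := SpecialLinearGroup.toGL_injective
  surj := pr_surjective
  mem _ := trivial
  ex x _ h := ⟨⟨x, h⟩, Units.ext rfl⟩
  ker g := ⟨fun h => by
    obtain ⟨c, hc⟩ := exists_smul_of_pr_eq ((map_one pr).trans h.symm)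
    refine ⟨Units.mk0 c fun e => ?_, trivial, Units.ext (by rw [val_sc]; exact hc)⟩
    have : Nonempty (Fin n) := ⟨⟨0, by omega⟩⟩
    simpa only [hc, e, _root_.Matrix.SpecialLinearGroup.coe_one, _root_.zero_smul, _root_.Matrix.det_zero, _root_.zero_ne_one] using g.2, fun ⟨c, _, h⟩ => (pr_eq_one_iff g).2 (Subgroup.mem_center_iff.2 fun y =>
      SpecialLinearGroup.toGL_injective (by rw [map_mul, map_mul, h, (commute_sc c _).eq]))⟩
  scal _ _ := trivial
  detm x _ := ⟨GeneralLinearGroup.det x, trivial, rfl⟩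
  cut := cutClosed_top hF
  aut α := by
    have h1 : ∀ g : GL (Fin n) F, Lifts (SpecialLinearGroup.toGL : _ →* (Mt n F)ˣ) (cj g) := fun g =>
      ⟨Equiv.refl _, rfl, fun x l => ed_conj g _ _⟩
    have h2 : ∀ σ : F ≃+* F, Lifts (SpecialLinearGroup.toGL : _ →* (Mt n F)ˣ) (fld σ) := fun σ =>
      ⟨(Units.mapEquiv σ.toMulEquiv).toEquiv, map_one (Units.mapEquiv σ.toMulEquiv), fun x l => ed_map σ _ _⟩
    have h3 : Lifts (SpecialLinearGroup.toGL : _ →* (Mt n F)ˣ) itr :=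
      ⟨Equiv.inv _, inv_one, fun x l => ed_inv (SpecialLinearGroup.toGL x) l⟩
    rcases exists_form hn α with ⟨g, σ, rfl⟩ | ⟨-, g, σ, rfl⟩
    · exact ⟨_, fun x => by simp only [MulAut.mul_apply, phi_pr, Psi_pr], (h1 g).mul (h2 σ)⟩
    · exact ⟨_, fun x => by simp only [MulAut.mul_apply, iot_pr, phi_pr, Psi_pr], ((h1 g).mul (h2 σ)).mul h3⟩
  dich := .inr fun _ _ _ => trivial

open PSUAutBasic PSUAutCount in
theorem sysU {q : ℕ} (hF : (p : F) ≠ 0) (hp2 : p ≠ 2) (hq : Fintype.card F = q ^ 2) (hn : 3 ≤ n)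
    (h32 : ¬ (n = 3 ∧ q = 2)) :
    Sys p ((SpecialLinearGroup.toGL.comp (SU n F q).subtype : SU n F q →* (Mt n F)ˣ)) (pr n F q) (GU n F q)
      (rootsOfUnity (q + 1) F) where
  n0 := by omega
  hF := hF
  inj := SpecialLinearGroup.toGL_injective.comp (SU n F q).subtype_injective
  surj := pr_surjective
  mem g := g.2
  ex x hx h := ⟨⟨⟨x, h⟩, hx⟩, Units.ext rfl⟩
  ker g := ⟨fun h => by
    obtain ⟨c, h0, h1, h2⟩ := exists_scalar_of_mem_center hq hn (pr_eq_one_iff.1 h)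
    exact ⟨Units.mk0 c h0, Units.ext ((Units.val_pow_eq_pow_val _ _).trans ((pow_succ' c q).trans h1)),
      Units.ext (Matrix.ext_of_mulVec_single fun i => (h2 _).trans (by rw [val_sc, smul_mulVec, one_mulVec]; rfl))⟩,
    fun ⟨c, _, h⟩ => pr_eq_one_iff.2 (Subgroup.mem_center_iff.2 fun y =>
      (SpecialLinearGroup.toGL_injective.comp (SU n F q).subtype_injective)
        (show (SpecialLinearGroup.toGL.comp (SU n F q).subtype) _ = (SpecialLinearGroup.toGL.comp (SU n F q).subtype) _ by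
          rw [map_mul, map_mul, h, (commute_sc c _).eq]))⟩
  scal c hc u v := by
    have h : (c : F) * c ^ q = 1 := by simpa only [pow_succ', _root_.Units.val_mul, _root_.Units.val_pow_eq_pow_val, _root_.Units.val_one] using congrArg Units.val (show c ^ (q + 1) = 1 from hc)
    simp only [Units.coeHom_apply, val_sc, smul_mulVec, one_mulVec, hermForm, Pi.smul_apply, smul_eq_mul, mul_pow]
    exact Finset.sum_congr rfl fun i _ => by linear_combination (u i * v i ^ q) * h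
  detm x hx := ⟨GeneralLinearGroup.det x,
    Units.ext ((Units.val_pow_eq_pow_val _ _).trans (GUBasic.det_pow hq hx)), rfl⟩
  cut := cutClosed_preserving hF (biAdd_herm n q (Nat.card_eq_fintype_card.trans hq))
  aut α := by
    obtain ⟨A, ρ, rfl⟩ := PSUAutMain.exists_toAut hq hn h32 α
    exact ⟨semiConj A ρ, fun g => (toAut_pr A ρ g).symm, (Units.mapEquiv ρ.toMulEquiv).toEquiv,
      map_one (Units.mapEquiv ρ.toMulEquiv), fun x l => (ed_conj A.1 _ _).trans (ed_map ρ _ _)⟩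
  dich := by
    classical
    refine or_iff_not_imp_left.2 fun h c k hc => ?_
    push Not at h
    obtain ⟨ω, h1, h2, h3⟩ := h
    have h4 : p ∣ q + 1 := orderOf_eq_prime h2 h3 ▸ orderOf_dvd_of_pow_eq_one h1
    have h5 : orderOf c ∣ (q + 1) * (q - 1) := by
      rw [← Nat.sq_sub_sq, one_pow, ← hq, ← Fintype.card_units]
      exact orderOf_dvd_card
    refine orderOf_dvd_iff_pow_eq_one.1 (Nat.Coprime.dvd_of_dvd_mul_right ?_ h5)
    refine Nat.Coprime.coprime_dvd_left (orderOf_dvd_of_pow_eq_one hc) (Nat.Coprime.pow_left _ ?_)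
    refine (Nat.Prime.coprime_iff_not_dvd hp.out).2 fun h6 => hp2 ((Nat.prime_dvd_prime_iff_eq hp.out Nat.prime_two).1 ?_)
    have h7 : q ≠ 0 := by rintro rfl; exact Fintype.card_ne_zero hq
    exact (show q + 1 - (q - 1) = 2 by omega) ▸ Nat.dvd_sub h4 h6

end LU

open LU

theorem boxL1 : BoxL1 := fun p _ F _ _ n hF hn _ A Q h => by
  obtain ⟨P, rfl, S⟩ := (sysL hF hn).exists_ctx h
  obtain ⟨h3, a, b, ω, -, h1, hω, ha, hb, e, h9, hη, hQ⟩ := S.core
  refine ⟨h3, a, b, ω, heis3 h1 hω (by rw [← map_pow, ha, map_one]) (by rw [← map_pow, hb, map_one]) e, h9,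
    fun h => ?_, hQ⟩
  obtain ⟨η, e1, e2⟩ := exists_nine h
  exact e2 (hη η trivial e1)

theorem boxU1 : BoxU1 := fun p _ F _ _ n q hF hq hn h32 A Q h => by
  obtain ⟨P, rfl, S⟩ := (sysU hF h.odd hq hn h32).exists_ctx h
  obtain ⟨rfl, a, b, ω, hm, h1, hω, ha, hb, e, h9, hη, hQ⟩ := S.core
  refine ⟨rfl, a, b, ω, heis3 h1 hω (by rw [← map_pow, ha, map_one]) (by rw [← map_pow, hb, map_one]) e, h9,
    (orderOf_eq_prime hω h1).symm.dvd.trans (orderOf_dvd_of_pow_eq_one hm), fun h => ?_, hQ⟩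
  obtain ⟨η, e1, e2⟩ := exists_nine (F := F) (h.trans ⟨q - 1, by rw [hq, ← Nat.sq_sub_sq, one_pow]⟩)
  obtain ⟨k, hk⟩ := h
  exact e2 (hη η (show η ^ (q + 1) = 1 by rw [hk, pow_mul, e1, one_pow]) e1)

theorem rowPsl (B : Blk) (h2 : BoxL2) : RowFor (fun p S _ => ∃ (F : Type) (_ : Field F) (_ : Fintype F) (n : ℕ),
    (p : F) ≠ 0 ∧ 2 ≤ n ∧ (n = 2 → 4 ≤ Fintype.card F) ∧
      Nonempty (S ≃* Matrix.ProjectiveSpecialLinearGroup (Fin n) F)) := by
  rintro p _ - S _ _ _ - ⟨F, _, _, n, hF, hn, h4, ⟨e⟩⟩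
  refine Row.of_equiv e fun G _ _ σ M b D H => ?_
  obtain ⟨rfl, h⟩ := boxL1 p F n hF hn h4 _ _ (B.pure G p M b D _ σ H)
  exact h2 F n hn G σ M b D H h

theorem rowPsu (B : Blk) (h2 : BoxU2) : RowFor (fun p S _ => ∃ (F : Type) (_ : Field F) (_ : Fintype F) (n q : ℕ),
    (p : F) ≠ 0 ∧ Fintype.card F = q ^ 2 ∧ 3 ≤ n ∧ ¬ (n = 3 ∧ q = 2) ∧ Nonempty (S ≃* PSU n F q)) := by
  rintro p _ - S _ _ _ - ⟨F, _, _, n, q, hF, hq, hn, h32, ⟨e⟩⟩
  refine Row.of_equiv e fun G _ _ σ M b D H => ?_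
  obtain ⟨rfl, h⟩ := boxU1 p F n q hF hq hn h32 _ _ (B.pure G p M b D _ σ H)
  exact h2 F n q hq hn h32 G σ M b D H h

end Cfsg.Agent.TO
end

private theorem dce_8c381c5861e4 : _root_.True := by
  try have : _root_.True := by simp only [_root_.Cfsg.Agent.TO.LU.ed.eq_1]
  try have : _root_.True := by simp only [_root_.Cfsg.Agent.TO.LU.ev.eq_1]
  try have : _root_.True := by simp only [_root_.Cfsg.Agent.TO.LU.ev.congr_simp]
  try have : _root_.True := by simp only [_root_.Cfsg.Agent.TO.LU.mr.eq_1]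
  exact _root_.True.intro
end

-- part: TO/D4A/Main_mg
section
prune_inst 0x4000000340000000008080210000100000000000000000000002000200000000000000000001000800000000000000000000200040000004000000000000000800000040810000000000000000000000000000000000000000000000000000000000000
set_option linter.all false
open scoped Cfsg.Agent.FastGrp

-- part: TO/D4A/Lin
section
/-!
# S4817, `PΩ₈⁺(q)`: linear algebra (helper37)

Isometries of prime order, their supports `ep`, cuts, ranks; `na` (central commutators), `nc` (an element which commutes with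
`u₁` but not with `u₂`).
-/

set_option autoImplicit false
set_option linter.unusedSectionVars false

namespace Cfsg.Agent.TO.D4A

open Module QuadraticMap Cfsg.Agent.BHZ.Nil Cfsg.Agent.LieClassical.OrthCore

variable {F V : Type} [Field F] [AddCommGroup V] [Module F V] {Q : QuadraticForm F V} {p : ℕ} [hp : Fact p.Prime]
  {c c' η η' : End F V}

/-- an isometry -/
def Iso (Q : QuadraticForm F V) (c : End F V) : Prop := ∀ v, Q (c v) = Q v

/-- self-adjoint -/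
def Sa (Q : QuadraticForm F V) (η : End F V) : Prop := ∀ x y, polar Q (η x) y = polar Q x (η y)

/-- the rank -/
noncomputable def rk (c : End F V) : ℕ := finrank F (LinearMap.range c)

/-- the projection onto the support -/
noncomputable def ep (p : ℕ) (c : End F V) : End F V := 1 - av F p c

theorem Iso.polar (h : Iso Q c) (x y : V) : polar Q (c x) (c y) = polar Q x y := by
  rw [QuadraticMap.polar, QuadraticMap.polar, ← map_add, h, h, h]

theorem Iso.mul (h : Iso Q c) (h' : Iso Q c') : Iso Q (c * c') := fun v => (h _).trans (h' v)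

theorem Iso.pow (h : Iso Q c) (n : ℕ) : Iso Q (c ^ n) := by
  induction n with
  | zero => exact fun _ => rfl
  | succ n ih => rw [pow_succ]; exact ih.mul h

theorem Sa.mul (h : Sa Q η) (h' : Sa Q η') (hc : Commute η η') : Sa Q (η * η') := fun x y => by
  rw [End.mul_apply, h, h', ← End.mul_apply, hc.eq]

theorem sa_one : Sa Q (1 : End F V) := fun _ _ => rfl

theorem Sa.sub (h : Sa Q η) (h' : Sa Q η') : Sa Q (η - η') := fun x y => by
  rw [LinearMap.sub_apply, LinearMap.sub_apply, polar_sub_left, polar_sub_right, h, h']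

theorem Sa.smul (h : Sa Q η) (a : F) : Sa Q (a • η) := fun x y => by
  rw [LinearMap.smul_apply, LinearMap.smul_apply, polar_smul_left, polar_smul_right, h]

theorem sa_add_inv (h : Iso Q c) (h1 : c * c' = 1) : Sa Q (c + c') := fun x y => by
  have e1 : polar Q (c x) y = polar Q x (c' y) := by rw [← h.polar x, ← End.mul_apply, h1, End.one_apply]
  have e2 : polar Q (c' x) y = polar Q x (c y) := by rw [← h.polar (c' x), ← End.mul_apply, h1, End.one_apply]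
  rw [LinearMap.add_apply, LinearMap.add_apply, polar_add_left, polar_add_right, e1, e2, add_comm]

theorem sa_av (hF : (p : F) ≠ 0) (h : Iso Q c) (hc : c ^ p = 1) : Sa Q (av F p c) := by
  have h1 : ∀ x y, polar Q (av F p c x) (av F p c y) = polar Q (av F p c x) y := fun x y => by
    have h2 : ∀ i : ℕ, polar Q (av F p c x) ((c ^ i) y) = polar Q (av F p c x) y := fun i => by
      induction i with
      | zero => rfl
      | succ i ih => rw [← ih, ← h.polar _ ((c ^ i) y), ← End.mul_apply, mul_av hc, pow_succ', End.mul_apply]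
    conv_lhs => rw [show av F p c y = (p : F)⁻¹ • ∑ i ∈ Finset.range p, (c ^ i) y by simp only [av, _root_.Cfsg.Agent.BHZ.Nil.av, _root_.LinearMap.smul_apply, _root_.LinearMap.coe_sum, _root_.Finset.sum_apply]]
    rw [polar_smul_right, ← polarBilin_apply_apply, map_sum]
    simp only [polarBilin_apply_apply, h2, Finset.sum_const, Finset.card_range, nsmul_eq_mul, smul_eq_mul]
    rw [inv_mul_cancel_left₀ hF]
  intro x y
  rw [← h1, polar_comm, h1, polar_comm]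

theorem iso_cut (h : Iso Q c) (h1 : η * η = η) (h2 : Sa Q η) (h3 : Commute c η) : Iso Q (c * η + (1 - η)) := fun v => by
  have h4 : ∀ x, polar Q (η x) (v - η v) = 0 := fun x => by
    rw [h2, map_sub, ← End.mul_apply, h1, sub_self, polar_zero_right]
  have e1 : (c * η + (1 - η)) v = η (c v) + (v - η v) := by rw [h3.eq]; rfl
  have e2 : Q (η (c v)) = Q (η v) := by rw [← End.mul_apply, ← h3.eq, End.mul_apply, h]
  rw [e1, Q_add, h4, e2]
  conv_rhs => rw [← add_sub_cancel (η v) v, Q_add, h4]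

theorem cut_pow (h1 : η * η = η) (h3 : Commute c η) (n : ℕ) : (c * η + (1 - η)) ^ n = c ^ n * η + (1 - η) := by
  induction n with
  | zero => simp
  | succ n ih => rw [pow_succ, ih, cut_mul h1 h3, pow_succ]

theorem commute_ep (h : Commute η c) : Commute η (ep p c) := (Commute.one_right _).sub_right (commute_av h)

theorem ep_mul_eq_zero (hF : (p : F) ≠ 0) (hc : c ^ p = 1) : ep p c * η = 0 ↔ c * η = η := by
  rw [ep, sub_mul, one_mul, sub_eq_zero]
  exact ⟨fun h => by rw [h, ← mul_assoc, mul_av hc], fun h => (av_mul_of_fix hF h).symm⟩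

theorem ep_idem (hF : (p : F) ≠ 0) (hc : c ^ p = 1) : ep p c * ep p c = ep p c := by
  rw [ep, sub_mul, one_mul, mul_sub, mul_one, av_idem hF hc, sub_self, sub_zero]

theorem ep_mul_sub (hc : c ^ p = 1) : ep p c * (c - 1) = c - 1 := by
  rw [ep, sub_mul, one_mul, mul_sub, mul_one, ← (commute_av (Commute.refl c)).eq, mul_av hc, sub_self, sub_zero]

theorem cut_ep (hc : c ^ p = 1) : c * ep p c + (1 - ep p c) = c := by
  have h := ep_mul_sub (p := p) hc
  rw [← (commute_ep ((Commute.refl c).sub_left (Commute.one_left c))).eq, sub_mul, one_mul] at h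
  rw [← add_sub_assoc, add_comm, add_sub_assoc, h, add_sub_cancel]

theorem ep_ne_zero (hF : (p : F) ≠ 0) (hc : c ^ p = 1) (h : c ≠ 1) : ep p c ≠ 0 := fun e =>
  h (by simpa using (ep_mul_eq_zero (η := 1) hF hc).1 (by rw [e, zero_mul]))

theorem sa_ep (hF : (p : F) ≠ 0) (h : Iso Q c) (hc : c ^ p = 1) : Sa Q (ep p c) := sa_one.sub (sa_av hF h hc)

theorem exists_ep (hF : (p : F) ≠ 0) (c : End F V) : ∃ d, ep p c = (c - 1) * d := by
  refine ⟨-((p : F)⁻¹ • ∑ i ∈ Finset.range p, ∑ j ∈ Finset.range i, c ^ j), ?_⟩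
  rw [mul_neg, mul_smul_comm, Finset.mul_sum]
  simp only [mul_geom_sum, Finset.sum_sub_distrib, Finset.sum_const, Finset.card_range, smul_sub, neg_sub]
  rw [← Nat.cast_smul_eq_nsmul F, smul_smul, inv_mul_cancel₀ hF, one_smul, ep, av]

theorem range_le (h : η * c = c) : LinearMap.range c ≤ LinearMap.range η := by
  rintro _ ⟨x, rfl⟩
  exact ⟨c x, by rw [← End.mul_apply, h]⟩

theorem mul_eq_of_range (h1 : η * η = η) (h : LinearMap.range c ≤ LinearMap.range η) : η * c = c := by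
  ext x
  obtain ⟨y, hy⟩ := h ⟨x, rfl⟩
  rw [End.mul_apply, ← hy, ← End.mul_apply, h1]

theorem range_ep (hF : (p : F) ≠ 0) (hc : c ^ p = 1) : LinearMap.range (ep p c) = LinearMap.range (c - 1) := by
  refine le_antisymm ?_ (range_le (ep_mul_sub hc))
  obtain ⟨d, hd⟩ := exists_ep hF c
  rw [hd]
  exact LinearMap.range_comp_le_range _ _

theorem rk_ep (hF : (p : F) ≠ 0) (hc : c ^ p = 1) : rk (ep p c) = rk (c - 1) := by rw [rk, rk, range_ep hF hc]

theorem exists_ns (hQ : Nondeg Q) (h1 : η * η = η) (h2 : Sa Q η) (h : η ≠ 0) : ∃ v, η v = v ∧ Q v ≠ 0 := by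
  by_contra hn
  push Not at hn
  have h3 : ∀ x, Q (η x) = 0 := fun x => hn _ (by rw [← End.mul_apply, h1])
  refine h (LinearMap.ext fun x => hQ _ fun y => ?_)
  rw [← h1, End.mul_apply, h2, QuadraticMap.polar, ← map_add, h3, h3, h3, sub_zero, sub_zero]

theorem not_eig (hp2 : p ≠ 2) (hF : (p : F) ≠ 0) (h : Iso Q c) (hc : c ^ p = 1) {v : V} (h1 : ep p c v = v) (h2 : Q v ≠ 0)
    (a : F) : c v ≠ a • v := fun e => by
  have h0 : v ≠ 0 := fun e => h2 (by rw [e, map_zero])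
  have h3 : a * a = 1 := by
    have := h v
    rw [e, QuadraticMap.map_smul, smul_eq_mul] at this
    exact mul_right_cancel₀ h2 (this.trans (one_mul _).symm)
  have h4 : ∀ n : ℕ, (c ^ n) v = a ^ n • v := fun n => by
    induction n with
    | zero => simp
    | succ n ih => rw [pow_succ, End.mul_apply, e, map_smul, ih, smul_smul, pow_succ']
  have h5 : a ^ p = 1 := by
    have := h4 p
    rw [hc, End.one_apply] at this
    exact smul_left_injective F h0 (this.symm.trans (one_smul F v).symm)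
  obtain ⟨k, hk⟩ := hp.out.odd_of_ne_two hp2
  rw [hk, pow_succ, pow_mul, pow_two, h3, one_pow, one_mul] at h5
  rw [h5, one_smul] at e
  have h7 : av F p c v = v := by
    have h8 : ∀ n : ℕ, (c ^ n) v = v := fun n => by rw [h4, h5, one_pow, one_smul]
    rw [av, LinearMap.smul_apply, LinearMap.sum_apply]
    simp only [h8, Finset.sum_const, Finset.card_range]
    rw [← Nat.cast_smul_eq_nsmul F, smul_smul, inv_mul_cancel₀ hF, one_smul]
  rw [ep, LinearMap.sub_apply, h7, End.one_apply, sub_self] at h1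
  exact h0 h1.symm

variable [FiniteDimensional F V]

theorem rk_le (h : η * c = c) : rk c ≤ rk η := Submodule.finrank_mono (range_le h)

theorem rk_le_dim (c : End F V) : rk c ≤ finrank F V := Submodule.finrank_le _

theorem eq_zero_of_rk (h : rk c = 0) : c = 0 := LinearMap.range_eq_bot.1 (Submodule.finrank_eq_zero.1 h)

theorem eq_of_rk (h1 : η * η = η) (h2 : Commute η η') (h3 : η' * η = η) (h : rk η' ≤ rk η) : η = η' := by
  have h4 := Submodule.eq_of_le_of_finrank_le (range_le h3) h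
  rw [← mul_eq_of_range h1 h4.ge, h2.eq, h3]

theorem rk_conj {a : (End F V)ˣ} (h : (a : End F V) * c = c' * a) : rk c' ≤ rk c := by
  have h1 : LinearMap.range c' ≤ (LinearMap.range c).map (a : End F V) := by
    rintro _ ⟨x, rfl⟩
    exact ⟨_, ⟨(a⁻¹ : (End F V)ˣ).1 x, rfl⟩, by rw [← End.mul_apply, h, End.mul_apply, ← End.mul_apply a.1, Units.mul_inv,
      End.one_apply]⟩
  exact (Submodule.finrank_mono h1).trans (Submodule.finrank_map_le _ _)

theorem sum_rk_le {ι : Type} [Fintype ι] {E : ι → End F V} (h1 : ∀ i, E i * E i = E i) (h2 : ∀ i j, i ≠ j → E i * E j = 0)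
    (h3 : ∀ i, η * E i = E i) : ∑ i, rk (E i) ≤ rk η := by
  classical
  let φ : (∀ i, LinearMap.range (E i)) →ₗ[F] LinearMap.range η :=
    ∑ i, Submodule.inclusion (range_le (h3 i)) ∘ₗ LinearMap.proj i
  have h4 : ∀ w i, E i (φ w) = w i := fun w i => by
    have h5 : ((φ w : LinearMap.range η) : V) = ∑ j, (w j : V) := by simp only [φ, _root_.LinearMap.coe_sum, _root_.LinearMap.coe_comp, _root_.LinearMap.coe_proj, _root_.Finset.sum_apply, _root_.Function.comp_apply, _root_.Function.eval, _root_.AddSubmonoidClass.coe_finsetSum, _root_.Submodule.coe_inclusion]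
    rw [h5, map_sum, Finset.sum_eq_single i]
    · obtain ⟨x, hx⟩ := (w i).2
      rw [← hx, ← End.mul_apply, h1]
    · intro j _ hj
      obtain ⟨x, hx⟩ := (w j).2
      rw [← hx, ← End.mul_apply, h2 i j hj.symm, LinearMap.zero_apply]
    · simp only [_root_.Finset.mem_univ, _root_.not_true_eq_false, _root_.IsEmpty.forall_iff]
  have h6 : Function.Injective φ := fun w w' e => funext fun i => Subtype.ext (by rw [← h4, e, h4])
  have h7 := LinearMap.finrank_le_finrank_of_injective h6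
  rwa [finrank_pi_fintype] at h7

theorem two_le_rk (hp2 : p ≠ 2) (hF : (p : F) ≠ 0) (hQ : Nondeg Q) (h : Iso Q c) (hc : c ^ p = 1) (h1 : c ≠ 1) :
    2 ≤ rk (c - 1) := by
  obtain ⟨v, h2, h3⟩ := exists_ns hQ (ep_idem hF hc) (sa_ep hF h hc) (ep_ne_zero hF hc h1)
  have h0 : v ≠ 0 := fun e => h3 (by rw [e, map_zero])
  by_contra hn
  have h4 : Submodule.span F {v} = LinearMap.range (ep p c) :=
    Submodule.eq_of_le_of_finrank_le ((Submodule.span_singleton_le_iff_mem _ _).2 ⟨v, h2⟩) (by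
      rw [finrank_span_singleton h0]
      have := rk_ep hF hc
      unfold rk at this hn
      omega)
  have h5 : c v ∈ Submodule.span F {v} := by
    rw [h4]
    exact ⟨c v, by rw [← End.mul_apply, ← (commute_ep (Commute.refl c)).eq, End.mul_apply, h2]⟩
  obtain ⟨a, ha⟩ := Submodule.mem_span_singleton.1 h5
  exact not_eig hp2 hF h hc h2 h3 a ha.symm

/-! ### the pieces `Fk` -/

section Fk

variable {a b z : (End F V)ˣ}

theorem commute_Fk_ep (hzb : Commute z b) (k : ZMod p) : Commute (Fk F b z k) (ep p (z : End F V)) :=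
  commute_ep (commute_Fk (F := F) hzb.units_val (Commute.refl _) k).symm

theorem ep_mul_Fk (hF : (p : F) ≠ 0) (hz : z ^ p = 1) (hzb : Commute z b) (k : ZMod p) :
    ep p (z : End F V) * Fk F b z k = Fk F b z k := by
  rw [← (commute_Fk_ep hzb k).eq, Fk, mul_assoc]
  exact congrArg _ (ep_idem hF (val_pow_one hz))

theorem Fk_mul (hF : (p : F) ≠ 0) (hz : z ^ p = 1) (hzb : Commute z b) (j k : ZMod p) :
    Fk F b z j * Fk F b z k = fk F b z j * Fk F b z k := by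
  rw [Fk, mul_assoc]
  exact congrArg _ (ep_mul_Fk hF hz hzb k)

theorem sa_Fk (hF : (p : F) ≠ 0) (hb : b ^ p = 1) (hz : z ^ p = 1) (hzb : Commute z b) (h1 : Iso Q b) (h2 : Iso Q z)
    (k : ZMod p) : Sa Q (Fk F b z k) := by
  refine (sa_av hF ?_ (val_pow_one (pow_bz hb hz hzb _))).mul (sa_ep hF h2 (val_pow_one hz))
    (commute_ep (commute_fk (F := F) hzb.units_val (Commute.refl _) k).symm)
  rw [Units.val_mul, zt, Units.val_pow_eq_pow_val]
  exact h1.mul (h2.pow _)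

/-- a central commutator -/
theorem na (hF : (p : F) ≠ 0) (hb : b ^ p = 1) (hz : z ^ p = 1) (hzb : Commute z b) (hza : Commute z a)
    (hab : a * b = z * b * a) (h1 : z ≠ 1) : Fk F b z (0 : ZMod p) ≠ 0 ∧ p * rk (Fk F b z (0 : ZMod p)) ≤ rk (z.1 - 1) := by
  have h2 : ∀ (n : ℕ) (k : ZMod p), rk (Fk F b z k) ≤ rk (Fk F b z (k + (n : ZMod p))) := fun n k => by
    induction n with
    | zero => simp
    | succ n ih =>
      refine ih.trans ?_
      have := rk_conj (a_mul_Fk (F := F) hz hzb hza hab (k + ((n + 1 : ℕ) : ZMod p)))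
      rwa [Nat.cast_succ, ← add_assoc, add_sub_cancel_right, add_assoc, ← Nat.cast_succ] at this
  have h3 : ∀ k k' : ZMod p, rk (Fk F b z k) ≤ rk (Fk F b z k') := fun k k' => by
    have := h2 (k' - k).val k
    rwa [ZMod.natCast_zmod_val, add_sub_cancel] at this
  constructor
  · intro e
    refine ep_ne_zero hF (val_pow_one hz) (fun e => h1 (Units.ext e)) ((sum_Fk hF hz hzb).symm.trans ?_)
    refine Finset.sum_eq_zero fun k _ => eq_zero_of_rk (Nat.le_zero.1 ((h3 k 0).trans ?_))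
    rw [e, rk, LinearMap.range_zero, finrank_bot]
  · rw [← rk_ep hF (val_pow_one hz)]
    refine le_trans ?_ (sum_rk_le (E := fun k : ZMod p => Fk F b z k)
      (fun k => (Fk_mul hF hz hzb k k).trans (fk_mul_Fk_self hF hb hz hzb k))
      (fun j k h => (Fk_mul hF hz hzb j k).trans (fk_mul_Fk_ne hF hb hz hzb h)) (ep_mul_Fk hF hz hzb))
    have := Finset.card_nsmul_le_sum Finset.univ (fun k : ZMod p => rk (Fk F b z k)) _ fun k _ => h3 0 k
    rwa [Finset.card_univ, ZMod.card, smul_eq_mul] at this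

end Fk

/-! ### reflections -/

theorem iso_refl {v : V} (hv : Q v ≠ 0) : Iso Q (reflLin Q v) := refl_mem_O hv

theorem commute_refl (h : Iso Q c) {v : V} (hv : c v = v) : Commute (reflLin Q v) c := by
  ext x
  simp only [End.mul_apply, reflLin_apply, map_sub, map_smul, hv]
  rw [← h.polar v x, hv]

/-- a square of an isometry which commutes with `c` but not with `c'` -/
theorem nc [Fintype F] (h4 : 4 ≤ Fintype.card F) (hp2 : p ≠ 2) (hF : (p : F) ≠ 0) (hQ : Nondeg Q) (h : Iso Q c) (h' : Iso Q c')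
    (hc' : c' ^ p = 1) (h1 : c' ≠ 1) (h2 : c * ep p c' = ep p c') (h3 : rk (c - 1) + 3 ≤ finrank F V) :
    ∃ y, Iso Q y ∧ Commute (y * y) c ∧ ¬ Commute (y * y) c' := by
  classical
  obtain ⟨v, hv, hv0⟩ := exists_ns hQ (ep_idem hF hc') (sa_ep hF h' hc') (ep_ne_zero hF hc' h1)
  have h0 : v ≠ 0 := fun e => hv0 (by rw [e, map_zero])
  have hU : ∀ x, c (ep p c' x) = ep p c' x := fun x => by rw [← End.mul_apply, h2]
  have hcv : c v = v := by rw [← hv, hU]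
  let P := Submodule.span F {v, c' v}
  have hvP : v ∈ P := Submodule.subset_span (by simp)
  have hvP' : c' v ∈ P := Submodule.subset_span (by simp)
  obtain ⟨t, ht, htP, htv⟩ : ∃ t, c t = t ∧ t ∉ P ∧ polar Q v t ≠ 0 := by
    obtain ⟨t1, a1, a2⟩ : ∃ t, c t = t ∧ t ∉ P := by
      by_contra hn
      push Not at hn
      have e1 : finrank F (LinearMap.ker (c - 1)) ≤ finrank F P :=
        Submodule.finrank_mono fun x hx => hn x (sub_eq_zero.1 hx)
      have e2 : finrank F P ≤ 2 := (finrank_span_le_card _).trans (by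
        rw [Set.toFinset_insert, Set.toFinset_singleton]; exact Finset.card_le_two)
      have e3 := LinearMap.finrank_range_add_finrank_ker (c - 1)
      unfold rk at h3
      omega
    obtain ⟨y, hy⟩ := hQ.exists_polar_ne h0
    rw [← hv, sa_ep hF h' hc'] at hy
    by_cases b1 : polar Q v t1 = 0
    · by_cases b2 : ep p c' y ∈ P
      · exact ⟨t1 + ep p c' y, by rw [map_add, a1, hU], fun e => a2 ((P.add_mem_iff_left b2).1 e), by
          rwa [polar_add_right, b1, zero_add]⟩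
      · exact ⟨_, hU y, b2, hy⟩
    · exact ⟨t1, a1, a2, b1⟩
  obtain ⟨s, hs, hsP, hsv, hs0⟩ : ∃ s, c s = s ∧ s ∉ P ∧ polar Q v s ≠ 0 ∧ Q s ≠ 0 := by
    by_cases b1 : Q t = 0
    · obtain ⟨k, hk⟩ : ∃ k : F, k ∉ ({0, 1, 2⁻¹} : Finset F) := by
        by_contra hn
        push Not at hn
        have e1 := Finset.card_le_card (show Finset.univ ⊆ ({0, 1, 2⁻¹} : Finset F) from fun k _ => hn k)
        have e2 := Finset.card_le_three (a := (0 : F)) (b := 1) (c := 2⁻¹)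
        rw [Finset.card_univ] at e1
        omega
      simp only [Finset.mem_insert, Finset.mem_singleton, not_or] at hk
      refine ⟨t + (-(k * polar Q v t / Q v)) • v, by rw [map_add, map_smul, ht, hcv],
        fun e => htP ((P.add_mem_iff_left (P.smul_mem _ hvP)).1 e), ?_, ?_⟩
      · rw [polar_add_right, polar_smul_right, polar_self', smul_eq_mul]
        have e : polar Q v t + -(k * polar Q v t / Q v) * (2 * Q v) = (1 - 2 * k) * polar Q v t := by field_simp; ring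
        rw [e]
        exact mul_ne_zero (fun e => hk.2.2 (eq_inv_of_mul_eq_one_right (sub_eq_zero.1 e).symm)) htv
      · rw [Q_add, b1, polar_smul_right, QuadraticMap.map_smul, polar_comm Q t v, smul_eq_mul, smul_eq_mul]
        have e : 0 + -(k * polar Q v t / Q v) * -(k * polar Q v t / Q v) * Q v + -(k * polar Q v t / Q v) * polar Q v t =
            k * (k - 1) * polar Q v t * polar Q v t / Q v := by field_simp; ring
        rw [e]
        exact div_ne_zero (mul_ne_zero (mul_ne_zero (mul_ne_zero hk.1 (sub_ne_zero.2 hk.2.1)) htv) htv) hv0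
    · exact ⟨t, ht, htP, htv, b1⟩
  have hc := (commute_refl h hcv).mul_left (commute_refl h hs)
  refine ⟨reflLin Q v * reflLin Q s, (iso_refl hv0).mul (iso_refl hs0), hc.mul_left hc, fun hy => ?_⟩
  obtain ⟨g, hg, hg0⟩ : ∃ g : F, reflLin Q s v = v - g • s ∧ g ≠ 0 :=
    ⟨_, reflLin_apply s v, mul_ne_zero (inv_ne_zero hs0) (by rwa [polar_comm])⟩
  have e1 : ∀ x, reflLin Q s (reflLin Q v (reflLin Q s x)) = x - ((Q v)⁻¹ * polar Q (v - g • s) x) • (v - g • s) := fun x => by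
    rw [reflLin_apply v, map_sub, map_smul, reflLin_reflLin hs0, ← (iso_refl hs0).polar, reflLin_reflLin hs0, hg]
  obtain ⟨x, x1, x2⟩ : ∃ x, polar Q (v - g • s) x = 0 ∧ polar Q v x ≠ 0 := by
    by_contra hn
    push Not at hn
    have b1 : v - g • s ≠ 0 := fun e => hsP (by
      rw [show s = g⁻¹ • v by rw [sub_eq_zero.1 e, inv_smul_smul₀ hg0]]
      exact P.smul_mem _ hvP)
    obtain ⟨x0, hx0⟩ := hQ.exists_polar_eq b1 1
    have b2 : v - polar Q v x0 • (v - g • s) = 0 := hQ _ fun x => by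
      have := hn (x - polar Q (v - g • s) x • x0) (by rw [polar_sub_right, polar_smul_right, hx0, smul_eq_mul, mul_one, sub_self])
      rw [polar_sub_right, polar_smul_right, smul_eq_mul, mul_comm] at this
      rw [polar_sub_left, polar_smul_left, smul_eq_mul, this]
    have b3 : polar Q v x0 ≠ 0 := fun e => h0 (by simpa [e] using b2)
    have b4 : (polar Q v x0 * g) • s ∈ P := by
      rw [show (polar Q v x0 * g) • s = polar Q v x0 • v - v by
        rw [smul_sub, smul_smul, sub_sub_eq_add_sub, sub_eq_zero] at b2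
        rw [← b2, add_sub_cancel_left]]
      exact P.sub_mem (P.smul_mem _ hvP) hvP
    exact hsP ((P.smul_mem_iff (mul_ne_zero b3 hg0)).1 b4)
  have e2 := LinearMap.congr_fun hy.eq x
  simp only [End.mul_apply, e1, x1, mul_zero, zero_smul, sub_zero] at e2
  rw [reflLin_apply v x, reflLin_apply v, map_sub, map_smul, sub_sub, sub_right_inj] at e2
  have k0 : (Q v)⁻¹ * polar Q v x ≠ 0 := mul_ne_zero (inv_ne_zero hv0) x2
  generalize (Q v)⁻¹ * polar Q v x = k at e2 k0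
  generalize (Q v)⁻¹ * polar Q v _ = k2 at e2
  generalize (Q v)⁻¹ * polar Q (v - g • s) _ = k1 at e2
  by_cases b : k1 = 0
  · rw [b, zero_smul, zero_add] at e2
    exact not_eig hp2 hF h' hc' hv hv0 (k⁻¹ * k2) (by rw [mul_smul, e2, inv_smul_smul₀ k0])
  · have b4 : (k1 * g) • s ∈ P := by
      rw [show (k1 * g) • s = k1 • v + k2 • v - k • c' v by rw [← e2, smul_sub, smul_smul]; abel]
      exact P.sub_mem (P.add_mem (P.smul_mem _ hvP) (P.smul_mem _ hvP)) (P.smul_mem _ hvP')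
    exact hsP ((P.smul_mem_iff (mul_ne_zero b hg0)).1 b4)

end Cfsg.Agent.TO.D4A
end

-- part: TO/D4A/Loc
section
/-!
# S4817, `PΩ₈⁺(q)`: elementary abelian subgroups closed under cuts (helper37)

`St` : the setting; `Lc p D` : `D` is elementary abelian and contains the elements of order `p` of its double centralizer;
`Mn ρ D u` : the support of `u` has minimal dimension.
-/

set_option autoImplicit false
set_option linter.unusedSectionVars false

namespace Cfsg.Agent.TO.D4A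

open Module QuadraticMap Cfsg.Agent.BHZ.Nil Cfsg.Agent.LieClassical.OrthCore Subgroup

section Grp

variable {G : Type*} [Group G]

/-- the nontrivial powers -/
def Z1 (u : G) : Set G := (zpowers u : Set G) \ {1}

theorem ncard_Z1 [Finite G] {p : ℕ} (hp : 0 < p) {u : G} (h : u ^ p = 1) : (Z1 u).ncard ≤ p - 1 := by
  rw [Z1, Set.ncard_sdiff_singleton_of_mem (one_mem (zpowers u)), ← Nat.card_coe_set_eq, SetLike.coe_sort_coe, Nat.card_zpowers]
  exact Nat.sub_le_sub_right (orderOf_le_of_pow_eq_one hp h) 1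

theorem three_cases [Finite G] {Γ : Subgroup G} (h : Γ.index = 3) (B : Subgroup G) :
    (∃ β, ∀ α ∈ B, β⁻¹ * α * β ∈ Γ) ∨ Γ.relIndex B = 3 := by
  have h1 : Γ.relIndex B = (MulAction.orbit B ((1 : G) : G ⧸ Γ)).ncard := by
    rw [← MulAction.index_stabilizer, relIndex]
    congr 1
    ext x
    rw [mem_subgroupOf, ← SetLike.ext_iff.1 (MulAction.stabilizer_quotient Γ)]
    rfl
  have h2 := Set.ncard_add_ncard_compl (MulAction.orbit B ((1 : G) : G ⧸ Γ))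
  have h3 : Γ.relIndex B ≠ 0 := index_ne_zero_of_finite
  rw [← h1, ← index, h] at h2
  by_cases h4 : Γ.relIndex B = 1
  · exact .inl ⟨1, fun α hα => by simpa using relIndex_eq_one.1 h4 hα⟩
  by_cases h5 : Γ.relIndex B = 2
  · obtain ⟨c, hc⟩ := Set.ncard_eq_one.1 (show (MulAction.orbit B ((1 : G) : G ⧸ Γ))ᶜ.ncard = 1 by omega)
    obtain ⟨β, rfl⟩ := QuotientGroup.mk_surjective c
    refine .inl ⟨β, fun α hα => ?_⟩
    have h6 : ((α * β : G) : G ⧸ Γ) ∈ (MulAction.orbit B ((1 : G) : G ⧸ Γ))ᶜ := fun ⟨γ, hγ⟩ => by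
      have h7 : (β : G ⧸ Γ) ∈ (MulAction.orbit B ((1 : G) : G ⧸ Γ))ᶜ := hc ▸ rfl
      refine h7 ⟨(⟨α, hα⟩ : B)⁻¹ * γ, ?_⟩
      simp only [mul_smul] at hγ ⊢
      rw [hγ, inv_smul_eq_iff]
      rfl
    rw [hc] at h6
    rw [mul_assoc]
    exact QuotientGroup.eq.1 h6.symm
  · exact .inr (by omega)

theorem exists_three [Finite G] {H : Subgroup G} (h : H.index = 3) : ∃ α : G, ∀ j : ℤ, ¬ 3 ∣ j → α ^ j ∉ H := by
  have : Fact (Nat.Prime 3) := ⟨Nat.prime_three⟩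
  obtain ⟨P⟩ : Nonempty (Sylow 3 G) := inferInstance
  obtain ⟨α, h1, h2⟩ : ∃ α ∈ (P : Subgroup G), α ∉ H := by
    by_contra hn
    push Not at hn
    exact P.not_dvd_index (h.symm.dvd.trans (index_dvd_of_le hn))
  refine ⟨α, fun j hj h3 => h2 (zpowers_le.2 h3 (mem_zpowers_zpow_iff.2 ?_))⟩
  obtain ⟨k, hk⟩ := IsPGroup.iff_orderOf.1 P.isPGroup' ⟨α, h1⟩
  rw [← orderOf_coe] at hk
  rw [show orderOf α = 3 ^ k from hk, Int.gcd, Int.natAbs_natCast]
  exact Nat.Coprime.pow_right _ ((Nat.Prime.coprime_iff_not_dvd Nat.prime_three).2 fun e => hj (Int.natCast_dvd.2 e)).symm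

theorem orb_count [Finite G] {Ω : Type*} [MulAction G Ω] {H : Subgroup G} (h : H.index = 3) (u : Ω) :
    ∃ s, 1 ≤ s ∧ s ≤ 3 ∧ (MulAction.orbit H u).ncard * 3 = s * (MulAction.orbit G u).ncard ∧
      (s = 1 → MulAction.stabilizer G u ≤ H) := by
  refine ⟨H.relIndex (MulAction.stabilizer G u), Nat.pos_of_ne_zero index_ne_zero_of_finite, ?_, ?_, relIndex_eq_one.1⟩
  · rw [← h, ← relIndex_top_right]
    exact relIndex_le_of_le_right le_top index_ne_zero_of_finite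
  · rw [← MulAction.index_stabilizer, ← MulAction.index_stabilizer, ← h, ← inf_relIndex_right, relIndex_mul_index inf_le_right,
      ← relIndex_mul_index (inf_le_left (a := H)), inf_relIndex_left]
    rfl

end Grp

variable {F V : Type} [Field F] [AddCommGroup V] [Module F V] [FiniteDimensional F V] {Q : QuadraticForm F V} {p : ℕ}
  [hp : Fact p.Prime] {Y X : Type} [Group Y] [Group X] {ρ : Y →* End F V} {D : Subgroup Y} {η : End F V} {u u' : Y}

/-- the setting -/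
structure St (p : ℕ) (Q : QuadraticForm F V) (ρ : Y →* End F V) : Prop where
  odd : p ≠ 2
  hF : (p : F) ≠ 0
  nd : Nondeg Q
  dim : finrank F V = 8
  inj : Function.Injective ρ
  iso : ∀ y, Iso Q (ρ y)
  sq : ∀ c, Iso Q c → ∃ y, ρ y = c * c

/-- the local conditions -/
structure Lc (p : ℕ) (D : Subgroup Y) : Prop where
  pw : ∀ d ∈ D, d ^ p = 1
  comm : ∀ a ∈ D, ∀ b ∈ D, Commute a b
  syl : ∀ x, x ^ p = 1 → (∀ y, (∀ d ∈ D, Commute y d) → Commute y x) → x ∈ D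
  nc : ∀ u ∈ D, ∃ v ∈ D, v ∉ zpowers u

/-- minimal support -/
structure Mn (ρ : Y →* End F V) (D : Subgroup Y) (u : Y) : Prop where
  mem : u ∈ D
  ne : u ≠ 1
  le : ∀ v ∈ D, v ≠ 1 → rk (ρ u - 1) ≤ rk (ρ v - 1)

/-- the elements which fix `η` -/
def Fx (ρ : Y →* End F V) (η : End F V) : Subgroup Y where
  carrier := {y | ρ y * η = η}
  one_mem' := by simp only [_root_.Set.mem_ofPred_eq, _root_.map_one, _root_.one_mul]
  mul_mem' {a b} ha hb := by
    show ρ (a * b) * η = η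
    rw [map_mul, mul_assoc, hb, ha]
  inv_mem' {a} ha := by
    show ρ a⁻¹ * η = η
    conv_lhs => rw [← show ρ a * η = η from ha, ← mul_assoc, ← map_mul, inv_mul_cancel, map_one, one_mul]

theorem rho_pow (h : u ^ p = 1) : ρ u ^ p = 1 := by rw [← map_pow, h, map_one]

theorem St.ne (S : St p Q ρ) (h : u ≠ 1) : ρ u ≠ 1 := fun e => h (S.inj (e.trans (map_one ρ).symm))

theorem St.comm (S : St p Q ρ) (h : Commute (ρ u) (ρ u')) : Commute u u' := S.inj (by rw [map_mul, map_mul, h.eq])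

theorem St.not_fx (S : St p Q ρ) (h : u ^ p = 1) (h1 : u ≠ 1) : u ∉ Fx ρ (ep p (ρ u)) := fun e =>
  ep_ne_zero S.hF (rho_pow h) (S.ne h1) ((ep_idem S.hF (rho_pow h)).symm.trans ((ep_mul_eq_zero S.hF (rho_pow h)).2 e))

theorem St.cut (S : St p Q ρ) (hu : u ^ p = 1) (h1 : η * η = η) (h2 : Sa Q η) (h3 : Commute (ρ u) η)
    (h4 : ep p (ρ u) * η = η) : ∃ v : Y, v ^ p = 1 ∧ (η ≠ 0 → v ≠ 1) ∧ rk (ρ v - 1) ≤ rk η ∧
      ∀ y, Commute y u → Commute (ρ y) η → Commute y v := by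
  obtain ⟨k, hk⟩ := hp.out.odd_of_ne_two S.odd
  have h5 : (ρ u * η + (1 - η)) ^ p = 1 := by rw [cut_pow h1 h3, rho_pow hu, one_mul, add_sub_cancel]
  obtain ⟨v, hv⟩ := S.sq _ ((iso_cut (S.iso u) h1 h2 h3).pow (k + 1))
  rw [← pow_add, show k + 1 + (k + 1) = p + 1 by omega, pow_succ, h5, one_mul] at hv
  refine ⟨v, S.inj (by rw [map_pow, hv, h5, map_one]), fun h e => h ?_, rk_le ?_, fun y a1 a2 => S.comm ?_⟩
  · rw [e, map_one, ← add_sub_assoc, eq_sub_iff_add_eq, add_comm, add_left_inj] at hv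
    rw [← h4, (ep_mul_eq_zero S.hF (rho_pow hu)).2 hv.symm]
  · rw [hv, h3.eq, mul_sub, mul_add, mul_sub, ← mul_assoc, h1, mul_one]
    abel
  · rw [hv]
    exact ((a1.map ρ).mul_right a2).add_right ((Commute.one_right _).sub_right a2)

/-- central commutators -/
theorem St.na (S : St p Q ρ) {a b z : Y} (hb : b ^ p = 1) (hz : z ^ p = 1) (hzb : Commute z b) (hza : Commute z a)
    (hab : a * b = z * b * a) (h1 : z ≠ 1) : p ≤ rk (ρ z - 1) ∧ ∃ v : Y, v ^ p = 1 ∧ v ≠ 1 ∧ p * rk (ρ v - 1) ≤ 8 ∧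
      ∀ y, Commute y z → Commute y b → Commute y v := by
  have b1 : ρ.toHomUnits b ^ p = 1 := by rw [← map_pow, hb, map_one]
  have b2 : ρ.toHomUnits z ^ p = 1 := by rw [← map_pow, hz, map_one]
  have b3 := hzb.map ρ.toHomUnits
  obtain ⟨h2, h3⟩ := D4A.na S.hF b1 b2 b3 (hza.map ρ.toHomUnits) (by rw [← map_mul, hab, map_mul, map_mul])
    fun e => S.ne h1 (congrArg Units.val e)
  obtain ⟨v, v1, v2, v3, v4⟩ := S.cut hz ((Fk_mul S.hF b2 b3 0 0).trans (fk_mul_Fk_self S.hF b1 b2 b3 0))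
    (sa_Fk S.hF b1 b2 b3 (S.iso b) (S.iso z) 0) (commute_Fk b3.units_val (Commute.refl _) 0) (ep_mul_Fk S.hF b2 b3 0)
  refine ⟨le_trans (Nat.le_mul_of_pos_right _ (Nat.pos_of_ne_zero fun e => h2 (eq_zero_of_rk e))) h3, v, v1, v2 h2,
    (Nat.mul_le_mul_left _ v3).trans (h3.trans ((rk_le_dim _).trans S.dim.le)), fun y a1 a2 => v4 y a1 ?_⟩
  exact commute_Fk (a2.map ρ) (a1.map ρ) 0

variable (S : St p Q ρ) (L : Lc p D)
include S L

theorem atom (hu : Mn ρ D u) (h1 : η * η = η) (h2 : Sa Q η) (h3 : ∀ y, (∀ d ∈ D, Commute y d) → Commute (ρ y) η)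
    (h4 : ep p (ρ u) * η = η) : η = 0 ∨ η = ep p (ρ u) := by
  have h5 := h3 u (L.comm u hu.mem)
  obtain ⟨v, v1, v2, v3, v4⟩ := S.cut (L.pw u hu.mem) h1 h2 h5 h4
  refine or_iff_not_imp_left.2 fun h => eq_of_rk h1 (commute_ep h5.symm) h4 ?_
  rw [rk_ep S.hF (rho_pow (L.pw u hu.mem))]
  exact (hu.le v (L.syl v v1 fun y hy => v4 y (hy u hu.mem) (h3 y hy)) (v2 h)).trans v3

theorem act (hu : Mn ρ D u) (hd : u' ∈ D) : ∃ k : ℕ, ρ u' * ep p (ρ u) = ρ u ^ k * ep p (ρ u) := by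
  have b1 : ρ.toHomUnits u' ^ p = 1 := by rw [← map_pow, L.pw _ hd, map_one]
  have b2 : ρ.toHomUnits u ^ p = 1 := by rw [← map_pow, L.pw _ hu.mem, map_one]
  have b3 := (L.comm u hu.mem u' hd).map ρ.toHomUnits
  obtain ⟨k, -, hk⟩ := Finset.exists_ne_zero_of_sum_ne_zero
    ((sum_Fk S.hF b2 b3).trans_ne (ep_ne_zero S.hF (rho_pow (L.pw u hu.mem)) (S.ne hu.ne)))
  have h := (atom S L hu ((Fk_mul S.hF b2 b3 k k).trans (fk_mul_Fk_self S.hF b1 b2 b3 k))
    (sa_Fk S.hF b1 b2 b3 (S.iso _) (S.iso _) k) (fun y hy => commute_Fk ((hy _ hd).map ρ) ((hy _ hu.mem).map ρ) k)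
    (ep_mul_Fk S.hF b2 b3 k)).resolve_left hk
  have h2 := b_mul_Fk (F := F) b1 b2 b3 k
  rw [h, zt, Units.val_pow_eq_pow_val] at h2
  exact ⟨_, h2⟩

theorem mem_of_ep (hu : Mn ρ D u) (hd : u' ∈ D) (h : ep p (ρ u) = ep p (ρ u')) : u' ∈ zpowers u := by
  obtain ⟨k, hk⟩ := act S L hu hd
  have h1 := rho_pow (ρ := ρ) (L.pw u hu.mem)
  refine ⟨k, S.inj ?_⟩
  rw [← cut_ep (rho_pow (L.pw _ hd)), ← h, hk, ← cut_pow (ep_idem S.hF h1) (commute_ep (Commute.refl _)), cut_ep h1]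
  simp

theorem dich (hu : Mn ρ D u) (hu' : Mn ρ D u') : ep p (ρ u') * ep p (ρ u) = 0 ∨ ep p (ρ u) = ep p (ρ u') := by
  have h1 := rho_pow (ρ := ρ) (L.pw u hu.mem)
  have h2 := rho_pow (ρ := ρ) (L.pw u' hu'.mem)
  have hc : Commute (ep p (ρ u')) (ep p (ρ u)) := commute_ep (commute_ep ((L.comm _ hu.mem _ hu'.mem).map ρ)).symm
  have a1 : ep p (ρ u') * (ep p (ρ u') * ep p (ρ u)) = ep p (ρ u') * ep p (ρ u) := by rw [← mul_assoc, ep_idem S.hF h2]
  have a2 : ep p (ρ u) * (ep p (ρ u') * ep p (ρ u)) = ep p (ρ u') * ep p (ρ u) := by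
    rw [hc.eq, ← mul_assoc, ep_idem S.hF h1]
  have a3 : ep p (ρ u') * ep p (ρ u) * (ep p (ρ u') * ep p (ρ u)) = ep p (ρ u') * ep p (ρ u) := by rw [mul_assoc, a2, a1]
  have a4 := (sa_ep S.hF (S.iso u') h2).mul (sa_ep S.hF (S.iso u) h1) hc
  have a5 : ∀ y, (∀ d ∈ D, Commute y d) → Commute (ρ y) (ep p (ρ u') * ep p (ρ u)) := fun y hy =>
    (commute_ep ((hy _ hu'.mem).map ρ)).mul_right (commute_ep ((hy _ hu.mem).map ρ))
  rcases atom S L hu a3 a4 a5 a2 with h | h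
  · exact .inl h
  · exact (atom S L hu' a3 a4 a5 a1).imp_right h.symm.trans

theorem orth (hu : Mn ρ D u) (hu' : Mn ρ D u') (h : u' ∉ zpowers u) :
    ep p (ρ u') * ep p (ρ u) = 0 ∧ ep p (ρ u) * ep p (ρ u') = 0 := by
  have h1 : ep p (ρ u) ≠ ep p (ρ u') := fun e => h (mem_of_ep S L hu hu'.mem e)
  exact ⟨(dich S L hu hu').resolve_right h1, (dich S L hu' hu).resolve_right h1.symm⟩

theorem fx_of (hu : Mn ρ D u) (hu' : Mn ρ D u') (h : u' ∉ zpowers u) : u' ∈ Fx ρ (ep p (ρ u)) ∧ u ∈ Fx ρ (ep p (ρ u')) :=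
  ⟨(ep_mul_eq_zero S.hF (rho_pow (L.pw _ hu'.mem))).1 (orth S L hu hu' h).1,
    (ep_mul_eq_zero S.hF (rho_pow (L.pw _ hu.mem))).1 (orth S L hu hu' h).2⟩

/-- the rank is not constant -/
theorem not_const (h : ∀ u ∈ D, ∀ v ∈ D, u ≠ 1 → v ≠ 1 → rk (ρ u - 1) = rk (ρ v - 1)) : False := by
  have hm : ∀ u ∈ D, u ≠ 1 → Mn ρ D u := fun u h1 h2 => ⟨h1, h2, fun v h3 h4 => (h u h1 v h3 h2 h4).le⟩
  obtain ⟨u, h1, h2⟩ := L.nc 1 (one_mem D)
  have h3 : u ≠ 1 := fun e => h2 (by rw [e]; exact one_mem _)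
  obtain ⟨v, h4, h5⟩ := L.nc u h1
  have h6 : u * v ∉ zpowers u := fun e => h5 ((mul_mem_cancel_left (mem_zpowers u)).1 e)
  have h7 := (fx_of S L (hm u h1 h3) (hm v h4 fun e => h5 (e ▸ one_mem _)) h5).1
  have h8 := (fx_of S L (hm u h1 h3) (hm _ (mul_mem h1 h4) fun e => h6 (e ▸ one_mem _)) h6).1
  exact S.not_fx (L.pw u h1) h3 ((mul_mem_cancel_right h7).1 h8)

variable [Finite Y]

theorem exists_mn : ∃ u, Mn ρ D u := by
  obtain ⟨u, h1, h2⟩ := L.nc 1 (one_mem D)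
  obtain ⟨v, h3, h4⟩ := Set.exists_min_image {v | v ∈ D ∧ v ≠ 1} (fun v => rk (ρ v - 1)) (Set.toFinite _)
    ⟨u, h1, fun e => h2 (by rw [e]; exact one_mem _)⟩
  exact ⟨v, h3.1, h3.2, fun w a b => h4 w ⟨a, b⟩⟩

theorem ncard_mn : {u | Mn ρ D u}.ncard ≤ (p - 1) * 4 := by
  classical
  let s : Finset Y := (Set.toFinite {u | Mn ρ D u}).toFinset
  have hs : ∀ u, u ∈ s ↔ Mn ρ D u := fun u => Set.Finite.mem_toFinset _
  have h1 := Finset.card_le_mul_card_image (f := fun u => ep p (ρ u)) s (p - 1) fun b hb => by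
    obtain ⟨u, hu, rfl⟩ := Finset.mem_image.1 hb
    rw [hs] at hu
    rw [← Set.ncard_coe_finset]
    refine (Set.ncard_le_ncard (fun v hv => ?_)).trans (ncard_Z1 hp.out.pos (L.pw u hu.mem))
    rw [Finset.mem_coe, Finset.mem_filter, hs] at hv
    exact ⟨mem_of_ep S L hu hv.1.mem hv.2.symm, hv.1.ne⟩
  have h2 : ∀ e : ↥(s.image fun u => ep p (ρ u)), ∃ u, Mn ρ D u ∧ ep p (ρ u) = e := fun e =>
    let ⟨u, a, b⟩ := Finset.mem_image.1 e.2
    ⟨u, (hs u).1 a, b⟩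
  choose w hw hw' using h2
  have h3 := sum_rk_le (η := 1) (E := fun e : ↥(s.image fun u => ep p (ρ u)) => e.1)
    (fun e => by rw [← hw']; exact ep_idem S.hF (rho_pow (L.pw _ (hw e).mem)))
    (fun e e' h => by
      have := (dich S L (hw e') (hw e)).resolve_right fun a => h (Subtype.ext (by rw [← hw', ← hw', a]))
      rwa [hw', hw'] at this) fun _ => one_mul _
  have h4 := Finset.card_nsmul_le_sum Finset.univ (fun e : ↥(s.image fun u => ep p (ρ u)) => rk e.1) 2 fun e _ => by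
    have a := rho_pow (ρ := ρ) (L.pw _ (hw e).mem)
    rw [← hw', rk_ep S.hF a]
    exact two_le_rk S.odd S.hF S.nd (S.iso _) a (S.ne (hw e).ne)
  have h5 := (h4.trans h3).trans ((rk_le_dim _).trans S.dim.le)
  rw [Finset.card_univ, Fintype.card_coe, smul_eq_mul] at h5
  rw [Set.ncard_eq_toFinset_card _ (Set.toFinite _)]
  exact h1.trans (Nat.mul_le_mul_left _ (by omega))

theorem two (hD : Nat.card D = p ^ 2) (hu : Mn ρ D u) (hu' : Mn ρ D u') (h : u' ∉ zpowers u) :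
    D = _root_.Subgroup.closure {u, u'} ∧ ∀ w, Mn ρ D w → w ∈ zpowers u ∨ w ∈ zpowers u' := by
  have h1 : _root_.Subgroup.closure {u, u'} ≤ D := (closure_le _).2 (Set.insert_subset hu.mem (Set.singleton_subset_iff.2 hu'.mem))
  have h2 : zpowers u ≤ _root_.Subgroup.closure {u, u'} := zpowers_le.2 (_root_.Subgroup.subset_closure (by simp))
  have h3 : Nat.card (zpowers u) = p := by rw [Nat.card_zpowers, orderOf_eq_prime (L.pw u hu.mem) hu.ne]
  have h4 : D = _root_.Subgroup.closure {u, u'} := by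
    obtain ⟨k, k1, k2⟩ := (Nat.dvd_prime_pow hp.out).1 (hD ▸ card_dvd_of_le h1)
    refine (eq_of_le_of_card_ge h1 ?_).symm
    rw [hD, k2]
    refine Nat.pow_le_pow_right hp.out.pos (not_lt.1 fun k3 => h ?_)
    rw [eq_of_le_of_card_ge h2 (by
      rw [h3, k2]
      exact (Nat.pow_le_pow_right hp.out.pos (Nat.le_of_lt_succ k3)).trans (pow_one p).le)]
    exact _root_.Subgroup.subset_closure (by simp)
  refine ⟨h4, fun w hw => by_contra fun hn => S.not_fx (L.pw w hw.mem) hw.ne ?_⟩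
  rw [not_or] at hn
  have h5 : D ≤ Fx ρ (ep p (ρ w)) := h4 ▸ (closure_le _).2
    (Set.insert_subset (fx_of S L hu hw hn.1).2 (Set.singleton_subset_iff.2 (fx_of S L hu' hw hn.2).2))
  exact h5 hw.mem

theorem rk_add (hu : Mn ρ D u) (hu' : Mn ρ D u') (h : u' ∉ zpowers u) : rk (ρ u - 1) = rk (ρ u' - 1) ∧ rk (ρ u - 1) ≤ 4 := by
  have h1 := rho_pow (ρ := ρ) (L.pw u hu.mem)
  have h2 := rho_pow (ρ := ρ) (L.pw u' hu'.mem)
  have h3 := sum_rk_le (η := 1) (E := fun b : Bool => if b then ep p (ρ u) else ep p (ρ u'))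
    (fun b => by cases b <;> simp only [ep_idem S.hF, h1, h2, _root_.Bool.false_eq_true, ↓ _root_.reduceIte])
    (fun b b' hb => by cases b <;> cases b' <;> simp_all only [orth S L hu hu' h, _root_.ne_eq, _root_.not_true_eq_false, _root_.Bool.false_eq_true, _root_.not_false_eq_true, ↓ _root_.reduceIte, _root_.Bool.true_eq_false]) fun _ => one_mul _
  have h4 := h3.trans ((rk_le_dim _).trans S.dim.le)
  have h5 := le_antisymm (hu.le _ hu'.mem hu'.ne) (hu'.le _ hu.mem hu.ne)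
  simp only [Fintype.sum_bool, if_true, Bool.false_eq_true, if_false, rk_ep S.hF h1, rk_ep S.hF h2] at h4
  omega

end Cfsg.Agent.TO.D4A
end

-- part: TO/D4A/Five
section
/-!
# S4817, `PΩ₈⁺(q)`: the prime `5` (helper37)
-/

set_option autoImplicit false
set_option linter.unusedSectionVars false

namespace Cfsg.Agent.TO.D4A

open Module QuadraticMap Cfsg.Agent.BHZ.Nil Cfsg.Agent.LieClassical.OrthCore Subgroup

theorem mem_range_of_pow {F : Type} [Field F] [Fintype F] {K : Type} [Field K] [Algebra F K] {x : K}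
    (hx : x ^ Fintype.card F = x) : ∃ a : F, algebraMap F K a = x := by
  classical
  have hq := Fintype.one_lt_card (α := F)
  have hne : (Polynomial.X ^ Fintype.card F - Polynomial.X : Polynomial K) ≠ 0 := FiniteField.X_pow_card_sub_X_ne_zero K hq
  have hm : ∀ y : K, y ∈ (Polynomial.X ^ Fintype.card F - Polynomial.X : Polynomial K).roots.toFinset ↔
      y ^ Fintype.card F = y := fun y => by
    rw [Multiset.mem_toFinset, Polynomial.mem_roots hne, Polynomial.IsRoot.def]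
    simp only [Polynomial.eval_sub, Polynomial.eval_pow, Polynomial.eval_X, sub_eq_zero]
  have he : (Finset.univ.image fun a : F => algebraMap F K a) =
      (Polynomial.X ^ Fintype.card F - Polynomial.X : Polynomial K).roots.toFinset := by
    refine Finset.eq_of_subset_of_card_le (fun y hy => ?_) ?_
    · obtain ⟨a, -, rfl⟩ := Finset.mem_image.1 hy
      rw [hm, ← map_pow, FiniteField.pow_card]
    · rw [Finset.card_image_of_injective _ (algebraMap F K).injective, Finset.card_univ]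
      refine (Multiset.toFinset_card_le _).trans ((Polynomial.card_roots' _).trans ?_)
      rw [FiniteField.X_pow_card_sub_X_natDegree_eq K hq]
  obtain ⟨a, -, ha⟩ := Finset.mem_image.1 (he ▸ (hm x).2 hx)
  exact ⟨a, ha⟩

theorem exists_root {F : Type} [Field F] [Fintype F] (h : Fintype.card F % 5 = 1 ∨ Fintype.card F % 5 = 4) :
    ∃ a : F, a * a + a - 1 = 0 := by
  obtain ⟨z, hz⟩ := IsAlgClosed.exists_root (Polynomial.cyclotomic 5 (AlgebraicClosure F))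
    (Polynomial.degree_cyclotomic_pos 5 _ (by norm_num)).ne'
  have : Fact (Nat.Prime 5) := ⟨Nat.prime_five⟩
  rw [Polynomial.IsRoot.def, Polynomial.cyclotomic_prime] at hz
  simp only [Finset.sum_range_succ, Finset.range_zero, Finset.sum_empty, Polynomial.eval_add, Polynomial.eval_pow,
    Polynomial.eval_X, Polynomial.eval_zero] at hz
  have h5 : z ^ 5 = 1 := by linear_combination (z - 1) * hz
  obtain ⟨r, hr⟩ := CharP.exists F
  obtain ⟨n, hp, hn⟩ := FiniteField.card F r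
  have : Fact r.Prime := ⟨hp⟩
  have h1 : (z + z ^ 4) ^ Fintype.card F = z + z ^ 4 := by
    have e : (z + z ^ 4) ^ Fintype.card F = z ^ Fintype.card F + (z ^ Fintype.card F) ^ 4 := by
      rw [hn, add_pow_char_pow, ← pow_mul, ← pow_mul, mul_comm]
    rw [e, pow_eq_pow_mod _ h5]
    rcases h with h | h <;> rw [h]
    · rw [pow_one]
    · linear_combination (z ^ 11 + z ^ 6 + z) * h5
  obtain ⟨a, ha⟩ := mem_range_of_pow h1
  refine ⟨a, (algebraMap F (AlgebraicClosure F)).injective ?_⟩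
  rw [map_sub, map_add, map_mul, ha, map_one, map_zero]
  linear_combination hz + (2 + z ^ 3) * h5

variable {F V : Type} [Field F] [AddCommGroup V] [Module F V] [FiniteDimensional F V] {Q : QuadraticForm F V}
  [Fact (Nat.Prime 5)] {Y : Type} [Group Y] {ρ : Y →* End F V} {D : Subgroup Y} {η : End F V} {u u' w : Y} {a t t' : F}

theorem rk_four [Fintype F] (hq : Fintype.card F % 5 = 2 ∨ Fintype.card F % 5 = 3) (hV : finrank F V = 8) {c : End F V}
    (hc : c ^ 5 = 1) (h2 : 2 ≤ rk (c - 1)) (h4 : rk (c - 1) ≤ 4) : rk (c - 1) = 4 := by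
  classical
  have : Finite V := Module.finite_of_finite F
  have := Fintype.ofFinite V
  have h1 := Equiv.Perm.card_fixedPoints_modEq (α := V) (f := (c : V → V)) (p := 5) (n := 1) (by
    funext v
    exact LinearMap.congr_fun hc v)
  have h3 : Fintype.card (Function.fixedPoints (c : V → V)) = Nat.card (LinearMap.ker (c - 1)) := by
    rw [← Nat.card_eq_fintype_card]
    exact Nat.card_congr (Equiv.subtypeEquivRight fun v => sub_eq_zero.symm)
  have h5 := LinearMap.finrank_range_add_finrank_ker (c - 1)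
  rw [h3, ← Nat.card_eq_fintype_card, natCard_eq_pow_finrank (K := F) (V := V),
    natCard_eq_pow_finrank (K := F) (V := LinearMap.ker (c - 1)), hV,
    Nat.card_eq_fintype_card, Nat.ModEq, Nat.pow_mod, Nat.pow_mod _ (finrank F _)] at h1
  unfold rk at *
  have h6 : finrank F (LinearMap.ker (c - 1)) = 4 ∨ finrank F (LinearMap.ker (c - 1)) = 5 ∨
    finrank F (LinearMap.ker (c - 1)) = 6 := by omega
  rcases h6 with h6 | h6 | h6
  · omega
  all_goals rcases hq with hq | hq <;> rw [h6, hq] at h1 <;> omega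

/-- `u + u⁻¹` -/
def tr (ρ : Y →* End F V) (u : Y) : End F V := ρ u + ρ u⁻¹

theorem commute_tr (h : Commute w u) : Commute (ρ w) (tr ρ u) := (h.map ρ).add_right (h.inv_right.map ρ)

theorem tr_mul (h : Commute u w) (hw : w ∈ Fx ρ η) : tr ρ (u * w) * η = tr ρ u * η := by
  rw [tr, tr, h.mul_inv, map_mul, map_mul, add_mul, add_mul, mul_assoc, mul_assoc, hw, inv_mem hw]

theorem tr_two (u : Y) : tr ρ (u * u) = tr ρ u * tr ρ u - (2 : F) • 1 := by
  simp only [tr, mul_add, add_mul, ← map_mul, mul_inv_rev, mul_inv_cancel, inv_mul_cancel, map_one, two_smul]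
  abel

theorem tr_sq (hF : ((5 : ℕ) : F) ≠ 0) (hu : u ^ 5 = 1) :
    tr ρ u * tr ρ u * ep 5 (ρ u) = ep 5 (ρ u) - tr ρ u * ep 5 (ρ u) := by
  have h1 : (∑ i ∈ Finset.range 5, ρ u ^ i) * ep 5 (ρ u) = 0 := by
    have : av F 5 (ρ u) * ep 5 (ρ u) = 0 := by rw [ep, mul_sub, mul_one, av_idem hF (rho_pow hu), sub_self]
    rwa [av, smul_mul_assoc, smul_eq_zero_iff_right (inv_ne_zero hF)] at this
  have h2 : u⁻¹ = u ^ 4 := inv_eq_of_mul_eq_one_right (by rw [← pow_succ', hu])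
  have h3 : u⁻¹ * u⁻¹ = u ^ 3 := by rw [h2, ← pow_add, pow_eq_pow_mod _ hu]
  have h4 : ∑ i ∈ Finset.range 5, ρ u ^ i = tr ρ u * tr ρ u + tr ρ u - 1 := by
    simp only [tr, mul_add, add_mul, ← map_mul, mul_inv_cancel, inv_mul_cancel, map_one, h3]
    simp only [h2, map_pow, map_mul, Finset.sum_range_succ, Finset.range_zero, Finset.sum_empty, pow_zero, pow_one, pow_two]
    abel
  rw [h4, sub_mul, add_mul, one_mul, sub_eq_zero] at h1
  exact eq_sub_of_add_eq h1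

theorem eig {T : End F V} (h : T * η = a • η) : (T - t • 1) * (T - t' • 1) * η = ((a - t) * (a - t')) • η := by
  simp only [mul_assoc, sub_mul, mul_sub, smul_mul_assoc, mul_smul_comm, one_mul, h]
  module

theorem sep (S : St 5 Q ρ) (hu : u ^ 5 = 1) (h : Commute u w) (h1 : u ∈ Fx ρ η) (h2 : w ∈ Fx ρ (ep 5 (ρ u)))
    (h3 : w ∈ Fx ρ (1 - η)) (h4 : tr ρ u * ep 5 (ρ u) = t • ep 5 (ρ u)) (h5 : tr ρ w * η = t' • η) (h6 : t ≠ t') (h7 : t ≠ 2)
    {y : Y} (hy : Commute y (u * w)) : Commute y u := by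
  have a1 : u * w ∈ Fx ρ (1 - ep 5 (ρ u) - η) := by
    refine mul_mem ?_ ?_
    · show ρ u * _ = _
      rw [mul_sub, h1, ep, sub_sub_cancel, mul_av (rho_pow hu)]
    · show ρ w * _ = _
      rw [sub_right_comm, mul_sub, h2, h3]
  have a2 : tr ρ (u * w) * (1 - ep 5 (ρ u) - η) = (2 : F) • (1 - ep 5 (ρ u) - η) := by
    rw [tr, add_mul, a1, inv_mem a1, two_smul]
  have a3 := eig (t := t') (t' := 2) ((tr_mul h h2).trans h4)
  have a4 := eig (t := t') (t' := 2) (show tr ρ (u * w) * η = _ by rw [h.eq, tr_mul h.symm h1, h5])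
  have a5 := eig (t := t') (t' := 2) a2
  rw [sub_self, zero_mul, zero_smul] at a4
  rw [sub_self (2 : F), mul_zero, zero_smul, mul_sub, mul_sub, a3, a4, mul_one, sub_zero, sub_eq_zero] at a5
  have a6 : Commute (ρ y) (ep 5 (ρ u)) := by
    have a7 : ∀ s : F, Commute (ρ y) (tr ρ (u * w) - s • 1) := fun s =>
      (commute_tr (ρ := ρ) hy).sub_right ((Commute.one_right _).smul_right s)
    have := ((a7 t').mul_right (a7 2)).smul_right ((t - t') * (t - 2))⁻¹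
    rwa [a5, inv_smul_smul₀ (mul_ne_zero (sub_ne_zero.2 h6) (sub_ne_zero.2 h7))] at this
  refine S.comm ?_
  rw [← cut_ep (rho_pow hu), show ρ u * ep 5 (ρ u) = ρ (u * w) * ep 5 (ρ u) by rw [map_mul, mul_assoc, h2]]
  exact ((hy.map ρ).mul_right a6).add_right ((Commute.one_right _).sub_right a6)

variable (S : St 5 Q ρ) (L : Lc 5 D)
include S L

theorem ty (ha : a * a + a - 1 = 0) (hu : Mn ρ D u) :
    tr ρ u * ep 5 (ρ u) = a • ep 5 (ρ u) ∨ tr ρ u * ep 5 (ρ u) = (-1 - a) • ep 5 (ρ u) := by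
  have h0 := rho_pow (ρ := ρ) (L.pw u hu.mem)
  have hd : 2 * a + 1 ≠ 0 := fun e => S.hF (by push_cast; linear_combination (2 * a + 1) * e - 4 * ha)
  have h1 := ep_idem S.hF h0
  have hc : Commute (tr ρ u) (ep 5 (ρ u)) := commute_ep (commute_tr (ρ := ρ) (Commute.refl u)).symm
  have h2 : tr ρ u * ep 5 (ρ u) * ep 5 (ρ u) = tr ρ u * ep 5 (ρ u) := by rw [mul_assoc, h1]
  have h3 : ep 5 (ρ u) * (tr ρ u * ep 5 (ρ u)) = tr ρ u * ep 5 (ρ u) := by rw [← mul_assoc, ← hc.eq, h2]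
  have h4 : tr ρ u * ep 5 (ρ u) * (tr ρ u * ep 5 (ρ u)) = ep 5 (ρ u) - tr ρ u * ep 5 (ρ u) := by
    rw [mul_assoc, h3, ← mul_assoc, tr_sq S.hF (L.pw u hu.mem)]
  have h5 := (sa_add_inv (S.iso u) (c' := ρ u⁻¹) (by rw [← map_mul, mul_inv_cancel, map_one])).mul (sa_ep S.hF (S.iso u) h0) hc
  have h6 : ∀ y, (∀ d ∈ D, Commute y d) → Commute (ρ y) (tr ρ u * ep 5 (ρ u)) := fun y hy =>
    (commute_tr (ρ := ρ) (hy u hu.mem)).mul_right (commute_ep ((hy u hu.mem).map ρ))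
  change Sa Q (tr ρ u * ep 5 (ρ u)) at h5
  generalize tr ρ u * ep 5 (ρ u) = N at *
  have h7 : (N - (-1 - a) • ep 5 (ρ u)) * (N - (-1 - a) • ep 5 (ρ u)) = (2 * a + 1) • (N - (-1 - a) • ep 5 (ρ u)) := by
    simp only [mul_sub, sub_mul, smul_mul_assoc, mul_smul_comm, h1, h2, h3, h4]
    match_scalars
    · linear_combination -ha
    · ring
  rcases atom S L hu (η := (2 * a + 1)⁻¹ • (N - (-1 - a) • ep 5 (ρ u)))
    (by rw [smul_mul_assoc, mul_smul_comm, h7, inv_smul_smul₀ hd]) ((h5.sub ((sa_ep S.hF (S.iso u) h0).smul _)).smul _)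
    (fun y hy => ((h6 y hy).sub_right ((commute_ep ((hy u hu.mem).map ρ)).smul_right _)).smul_right _)
    (by rw [mul_smul_comm, mul_sub, mul_smul_comm, h1, h3]) with h | h
  · exact .inr (sub_eq_zero.1 ((smul_eq_zero_iff_right (inv_ne_zero hd)).1 h))
  · rw [inv_smul_eq_iff₀ hd, sub_eq_iff_eq_add, ← add_smul] at h
    exact .inl (h.trans (by congr 1; ring))

theorem five [Fintype F] [Finite Y] (hq : Fintype.card F % 5 = 1 ∨ Fintype.card F % 5 = 4)
    (hc : ∀ x ∈ D, ∀ x' ∈ D, x ≠ 1 → x' ≠ 1 → (∀ y, Commute y x → Commute y x') → ∀ y, Commute y x' → Commute y x)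
    (hu : Mn ρ D u) (hu' : Mn ρ D u') (h : u' ∉ zpowers u) : False := by
  obtain ⟨a, ha⟩ := exists_root hq
  obtain ⟨t, ht, h1⟩ : ∃ t : F, t * t + t - 1 = 0 ∧ tr ρ u * ep 5 (ρ u) = t • ep 5 (ρ u) :=
    (ty S L ha hu).elim (fun e => ⟨_, ha, e⟩) fun e => ⟨_, by linear_combination ha, e⟩
  have h5 := L.pw u' hu'.mem
  obtain ⟨w, w1, w2, w3⟩ : ∃ w ∈ zpowers u', u' ∈ zpowers w ∧ tr ρ w * ep 5 (ρ u') = (-1 - t) • ep 5 (ρ u') := by
    rcases ty S L ht hu' with e | e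
    · refine ⟨u' * u', mul_mem (mem_zpowers _) (mem_zpowers _), ⟨(3 : ℕ), ?_⟩, ?_⟩
      · simp only [zpow_natCast]
        rw [← pow_two, ← pow_mul, pow_eq_pow_mod _ h5, pow_one]
      · rw [tr_two, sub_mul, tr_sq S.hF h5, e, smul_mul_assoc, one_mul]
        module
    · exact ⟨u', mem_zpowers _, mem_zpowers _, e⟩
  have w4 : w ∈ D := zpowers_le.2 hu'.mem w1
  have w5 : u' ∈ Fx ρ (1 - ep 5 (ρ u')) := by
    show ρ u' * _ = _
    rw [ep, sub_sub_cancel, mul_av (rho_pow h5)]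
  have h2 := hc (u * w) (mul_mem hu.mem w4) u hu.mem
    (fun e => h (zpowers_le.2 (by rw [eq_inv_of_mul_eq_one_right e]; exact inv_mem (mem_zpowers u)) w2)) hu.ne
    fun y hy => sep S (L.pw u hu.mem) (L.comm u hu.mem w w4) (fx_of S L hu hu' h).2 (zpowers_le.2 (fx_of S L hu hu' h).1 w1)
      (zpowers_le.2 w5 w1) h1 w3 (fun e => S.hF (by push_cast; linear_combination (2 * t + 1) * e - 4 * ht))
      (fun e => S.hF (by push_cast; linear_combination ht - (t + 3) * e)) hy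
  have h3 := Fintype.one_lt_card (α := F)
  obtain ⟨c, c1, c2, c3⟩ := nc (by omega) S.odd S.hF S.nd (S.iso u) (S.iso u') (rho_pow h5) (S.ne hu'.ne) (fx_of S L hu hu' h).2
    (by have := (rk_add S L hu hu' h).2; rw [S.dim]; omega)
  obtain ⟨y, hy⟩ := S.sq c c1
  rw [← hy] at c2 c3
  have h6 : Commute y w := by simpa using (S.comm c2).inv_right.mul_right (h2 y (S.comm c2))
  obtain ⟨k, hk⟩ := w2
  exact c3 (Commute.map (hk ▸ h6.zpow_right k) ρ)

end Cfsg.Agent.TO.D4A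
end

-- part: TO/D4A/Pure
section
/-!
# S4817, `PΩ₈⁺(q)`: the surviving configuration in the abstract setting (helper37)
-/

set_option autoImplicit false
set_option linter.unusedSectionVars false

namespace Cfsg.Agent.TO.D4A

open Module QuadraticMap Cfsg.Agent.BHZ.Nil Cfsg.Agent.LieClassical.OrthCore Subgroup

variable {F V : Type} [Field F] [AddCommGroup V] [Module F V] [FiniteDimensional F V] {Q : QuadraticForm F V} {p : ℕ}
  [hp : Fact p.Prime] {Y X : Type} [Group Y] [Group X] [Finite Y] {ρ : Y →* End F V} {π : Y →* X} {D : Subgroup Y}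
  {A Γ : Subgroup (MulAut X)}

theorem pElt_of {x : X} (h : ∃ n, x ^ p ^ n = 1) : PElt p x :=
  let ⟨_, h⟩ := h
  let ⟨k, _, hk⟩ := (Nat.dvd_prime_pow hp.out).1 (orderOf_dvd_of_pow_eq_one h)
  ⟨k, hk⟩

theorem pElt_map {y : Y} (h : y ^ p = 1) : PElt p (π y) := pElt_of ⟨1, by rw [pow_one, ← map_pow, h, map_one]⟩

theorem pow_of_mem {G : Type} [Group G] {D : Subgroup G} (hD : IsPGroup p D) {x : G} (h : x ∈ D) : ∃ n, x ^ p ^ n = 1 :=
  let ⟨n, hn⟩ := hD ⟨x, h⟩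
  ⟨n, congrArg Subtype.val hn⟩

/-- the automorphisms in `Γ` preserve the rank -/
def Inv (p : ℕ) (ρ : Y →* End F V) (π : Y →* X) (Γ : Subgroup (MulAut X)) : Prop :=
  ∀ α ∈ Γ, ∀ y y' : Y, y ^ p = 1 → y' ^ p = 1 → α (π y) = π y' → rk (ρ y - 1) = rk (ρ y' - 1)

variable (hπ : Function.Surjective π) (C : CentPP p π)
include C

theorem eq_of (hD : IsPGroup p D) {a b : Y} (ha : a ∈ D) (hb : b ∈ D) (h : π a = π b) : a = b :=
  let ⟨_, hn⟩ := pow_of_mem hD (mul_mem ha (inv_mem hb))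
  mul_inv_eq_one.1 (C.eq_one (by rw [map_mul, map_inv, h, mul_inv_cancel]) hn)

theorem map_ne {y : Y} (h : y ^ p = 1) (h1 : y ≠ 1) : π y ≠ 1 := fun e => h1 (C.eq_one e (n := 1) (by rwa [pow_one]))

theorem comm_of {a b : Y} (h : a ^ p = 1) (h1 : Commute (π a) (π b)) : Commute a b :=
  C.comm_of_pelt (n := 1) (by rwa [pow_one]) h1.eq

theorem pw_of (hD : IsPGroup p D) (h : Pure p X A (D.map π)) (d : Y) (hd : d ∈ D) : d ^ p = 1 :=
  eq_of C hD (pow_mem hd p) (one_mem D) (by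
    rw [map_pow, map_one]
    exact h.expo _ (self_le_KK _ ⟨d, hd, rfl⟩) (pElt_of (pow_of_mem h.pg ⟨d, hd, rfl⟩)))

include hπ

theorem exists_D {P : Subgroup X} (hP : IsPGroup p P) : ∃ D : Subgroup Y, IsPGroup p D ∧ D.map π = P :=
  let ⟨D, h1, _, h2⟩ := exists_lift_pgroup hπ (IsPGroup.of_bot (G := Y)) hP (by simp only [_root_.Subgroup.map_bot, _root_.bot_le])
  ⟨D, h1, h2⟩

theorem kk (hD : IsPGroup p D) {x : Y} (h : ∀ y, (∀ d ∈ D, Commute y d) → Commute y x) : π x ∈ KK p (D.map π) :=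
  map_mem_KK hπ C.cent hD (mem_KK_iff.2 fun y hy _ => (h y fun d hd => (mem_centralizer_iff.1 hy d hd).symm).eq)

/-- `Q` is abelian -/
theorem abel (S : St p Q ρ) (hD : IsPGroup p D) (h : Pure p X A (D.map π)) : D.map π ≤ Ce (D.map π) := by
  by_contra hn
  have : Finite X := Finite.of_surjective π hπ
  obtain ⟨⟨_, a, ha, rfl⟩, ⟨_, b, hb, rfl⟩, ⟨_, c, hc, rfl⟩, h1, h2, -, h3⟩ := exists_triple h.pg fun hc => hn fun x hx =>
    mem_centralizer_iff.2 fun y hy => congrArg Subtype.val (hc.is_comm.comm ⟨y, hy⟩ ⟨x, hx⟩)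
  have h4 : ∀ d ∈ D, Commute (π c) (π d) := fun d hd => (congrArg Subtype.val (mem_center_iff.1 h1 ⟨_, d, hd, rfl⟩)).symm
  have h5 : π a * π b = π c * π b * π a := congrArg Subtype.val h3
  have h6 : π c ≠ 1 := fun e => h2 (Subtype.ext e)
  have hw := pw_of C hD h
  obtain ⟨-, v, v1, v2, v3, v4⟩ := S.na (hw b hb) (hw c hc) (comm_of C (hw c hc) (h4 b hb)) (comm_of C (hw c hc) (h4 a ha))
    (eq_of C hD (mul_mem ha hb) (mul_mem (mul_mem hc hb) ha) (by simpa only [map_mul] using h5)) fun e => h6 (by rw [e, map_one])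
  obtain ⟨α, -, hα⟩ := h.conj _ (self_le_KK _ ⟨c, hc, rfl⟩) _ (kk hπ C hD fun y hy => v4 y (hy c hc) (hy b hb))
    (pElt_map (hw c hc)) (pElt_map v1) h6 (map_ne C v1 v2)
  obtain ⟨E, hE, hE'⟩ := exists_D hπ C (h.pg.map α.toMonoidHom)
  obtain ⟨a', ha', a1⟩ : α (π a) ∈ E.map π := hE' ▸ ⟨_, ⟨a, ha, rfl⟩, rfl⟩
  obtain ⟨b', hb', b1⟩ : α (π b) ∈ E.map π := hE' ▸ ⟨_, ⟨b, hb, rfl⟩, rfl⟩
  have hv : v ∈ E := C.mem_of_pelt hE (n := 1) (by rwa [pow_one]) (hE' ▸ ⟨_, ⟨c, hc, rfl⟩, hα⟩)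
  have h7 := (S.na (a := a') (eq_of C hE (pow_mem hb' p) (one_mem E) (by
      rw [map_pow, b1, ← map_pow, ← map_pow, hw b hb, map_one, map_one])) v1
    (comm_of C v1 (by rw [b1, ← hα]; exact (h4 b hb).map α)) (comm_of C v1 (by rw [a1, ← hα]; exact (h4 a ha).map α))
    (eq_of C hE (mul_mem ha' hb') (mul_mem (mul_mem hv hb') ha') (by
      rw [map_mul, map_mul, map_mul, a1, b1, ← hα, ← map_mul, h5, map_mul, map_mul])) v2).1
  have h8 : 3 ≤ p := by
    have := hp.out.two_le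
    have := S.odd
    omega
  nlinarith

theorem lc (S : St p Q ρ) (hD : IsPGroup p D) (h : Pure p X A (D.map π)) : Lc p D := by
  have hw := pw_of C hD h
  have hc : ∀ a ∈ D, ∀ b ∈ D, Commute a b := fun a ha b hb =>
    comm_of C (hw a ha) (mem_centralizer_iff.1 (abel hπ C S hD h ⟨b, hb, rfl⟩) _ ⟨a, ha, rfl⟩)
  refine ⟨hw, hc, fun x hx hy => C.mem_of_pelt hD (n := 1) (by rwa [pow_one]) ?_, fun u hu => ?_⟩
  · obtain ⟨k, hk⟩ := pElt_map (π := π) hx
    have h1 : IsPGroup p (zpowers (π x)) := IsPGroup.of_card (by rw [Nat.card_zpowers, hk])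
    have h2 : zpowers (π x) ≤ normalizer (D.map π : Set X) := zpowers_le.2 (centralizer_le_normalizer _ (by
      rintro _ ⟨d, hd, rfl⟩
      exact ((hy d (hc d hd)).map π).eq))
    rw [← h.syl _ (h1.to_sup_of_normal_right' h.pg h2) le_sup_right (sup_le (zpowers_le.2 (kk hπ C hD hy)) (self_le_KK _))]
    exact mem_sup_left (mem_zpowers _)
  · by_contra hn
    push Not at hn
    refine h.nc ⟨⟨⟨_, u, hu, rfl⟩, ?_⟩⟩
    rintro ⟨_, v, hv, rfl⟩
    obtain ⟨k, rfl⟩ := hn v hv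
    exact ⟨k, Subtype.ext (map_zpow π u k).symm⟩

theorem cen (hD : IsPGroup p D) (h : Pure p X A (D.map π)) (x : Y) (hx : x ∈ D) (x' : Y) (hx' : x' ∈ D) (h1 : x ≠ 1)
    (h2 : x' ≠ 1) (h3 : ∀ y, Commute y x → Commute y x') (y : Y) (hy : Commute y x') : Commute y x := by
  have : Finite X := Finite.of_surjective π hπ
  have hw := pw_of C hD h
  obtain ⟨α, -, hα⟩ := h.conj _ (self_le_KK _ ⟨x, hx, rfl⟩) _ (self_le_KK _ ⟨x', hx', rfl⟩) (pElt_map (hw x hx))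
    (pElt_map (hw x' hx')) (map_ne C (hw x hx) h1) (map_ne C (hw x' hx') h2)
  have h4 : Cu (π x) = Cu (π x') := by
    refine eq_of_le_of_card_ge (fun z hz => ?_) ?_
    · obtain ⟨z, rfl⟩ := hπ z
      exact mem_centralizer_singleton_iff.2 ((h3 z (comm_of C (hw x hx) (mem_centralizer_singleton_iff.1 hz).symm).symm).map π).eq
    · refine Nat.card_le_card_of_injective (fun z => ⟨α.symm z.1, mem_centralizer_singleton_iff.2 (α.injective ?_)⟩)
        fun z z' e => Subtype.ext (α.symm.injective (congrArg Subtype.val e))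
      rw [map_mul, map_mul, hα, MulEquiv.apply_symm_apply]
      exact mem_centralizer_singleton_iff.1 z.2
  have h5 : π y ∈ Cu (π x) := h4 ▸ mem_centralizer_singleton_iff.2 (hy.map π).eq
  exact (comm_of C (hw x hx) (mem_centralizer_singleton_iff.1 h5).symm).symm

/-- the stabiliser of `Q` does not preserve the rank -/
theorem not_le (S : St p Q ρ) (hI : Inv p ρ π Γ) {P : Subgroup X} (h : Pure p X A P) : ¬ A ⊓ LA P 0 ≤ Γ := fun hle => by
  obtain ⟨D, hD, rfl⟩ := exists_D hπ C h.pg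
  have L := lc hπ C S hD h
  refine not_const S L fun u hu v hv h1 h2 => ?_
  obtain ⟨α, a1, a2, a3⟩ := h.abel (abel hπ C S hD h) _ ⟨u, hu, rfl⟩ _ ⟨v, hv, rfl⟩ (map_ne C (L.pw u hu) h1)
    (map_ne C (L.pw v hv) h2)
  exact hI α (hle ⟨a1, a2, fun _ => rfl⟩) u v (L.pw u hu) (L.pw v hv) a3

/-- **the surviving configuration** -/
theorem main [Fintype F] (S : St p Q ρ) (hΓ : Γ.index = 3) (hI : Inv p ρ π Γ) {P : Subgroup X} (h : Pure p X A P) :
    p = 5 ∧ (Fintype.card F % 5 = 2 ∨ Fintype.card F % 5 = 3) ∧ ∃ u₁ u₂ : Y, u₁ ^ 5 = 1 ∧ u₂ ^ 5 = 1 ∧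
      (ρ u₁ - 1) * (ρ u₂ - 1) = 0 ∧ (ρ u₂ - 1) * (ρ u₁ - 1) = 0 ∧ rk (ρ u₁ - 1) = 4 ∧ rk (ρ u₂ - 1) = 4 ∧
      P = _root_.Subgroup.closure {π u₁, π u₂} ∧ ∃ α ∈ A, (∀ x, α x ∈ P ↔ x ∈ P) ∧ ∀ j : ℤ, ¬ 3 ∣ j →
        (α ^ j) (π u₁) ∉ zpowers (π u₁) ∧ (α ^ j) (π u₁) ∉ zpowers (π u₂) := by
  have : Finite X := Finite.of_surjective π hπ
  have h3 : Γ.relIndex (A ⊓ LA P 0) = 3 := by
    refine (three_cases hΓ _).resolve_left fun ⟨β, hβ⟩ => ?_
    refine not_le (π := β.toMonoidHom.comp π) (Γ := Γ.comap (MulAut.conj β⁻¹).toMonoidHom) (β.surjective.comp hπ) ?_ S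
      (fun α hα y y' a1 a2 a3 => hI _ hα y y' a1 a2 ?_) h fun α hα => by simpa only [mem_comap, _root_.map_inv, _root_.MulEquiv.toMonoidHom_eq_coe, _root_.MonoidHom.coe_coe, _root_.MulAut.inv_apply, _root_.MulAut.conj_symm_apply] using hβ α hα
    · have e : (β.toMonoidHom.comp π).ker = π.ker := by
        ext x
        simp [MonoidHom.mem_ker]
      exact ⟨e ▸ C.cent, e ▸ C.cop⟩
    · have a4 : α (β (π y)) = β (π y') := a3
      simp only [a4, _root_.map_inv, _root_.MulEquiv.toMonoidHom_eq_coe, _root_.MonoidHom.coe_coe, _root_.MulAut.inv_apply, _root_.MulAut.conj_symm_apply, _root_.MulAut.mul_apply, _root_.MulEquiv.symm_apply_apply]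
  obtain ⟨D, hD, rfl⟩ := exists_D hπ C h.pg
  have L := lc hπ C S hD h
  obtain ⟨u, hu⟩ := exists_mn S L
  have hu1 := map_ne C (L.pw u hu.mem) hu.ne
  obtain ⟨s, s1, s2, s3, s4⟩ := orb_count h3 (π u)
  have o1 : MulAction.orbit ↥(A ⊓ LA (D.map π) 0) (π u) = (D.map π : Set X) \ {1} := by
    ext x
    constructor
    · rintro ⟨α, rfl⟩
      exact ⟨(α.2.2.1 _).2 ⟨u, hu.mem, rfl⟩, fun e => hu1 ((MulEquiv.map_eq_one_iff α.1).1 e)⟩
    · rintro ⟨a1, a2⟩
      obtain ⟨α, b1, b2, b3⟩ := h.abel (abel hπ C S hD h) _ ⟨u, hu.mem, rfl⟩ x a1 hu1 a2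
      exact ⟨⟨α, b1, b2, fun _ => rfl⟩, b3⟩
  have o2 : MulAction.orbit ↥(Γ.subgroupOf (A ⊓ LA (D.map π) 0)) (π u) ⊆ π '' {v | Mn ρ D v} := by
    rintro _ ⟨α, rfl⟩
    obtain ⟨⟨v, v1, v2⟩, v3⟩ : α.1 • π u ∈ (D.map π : Set X) \ {1} := o1 ▸ ⟨α.1, rfl⟩
    refine ⟨v, ⟨v1, fun e => v3 (by rw [← v2, e, map_one]; rfl), fun w w1 w2 => ?_⟩, v2⟩
    rw [← hI _ α.2 u v (L.pw u hu.mem) (L.pw v v1) v2.symm]
    exact hu.le w w1 w2
  have c1 : Nat.card (D.map π) = Nat.card D := (Nat.card_eq_of_bijective (π.subgroupMap D)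
    ⟨fun a b e => Subtype.ext (eq_of C hD a.2 b.2 (congrArg Subtype.val e)), π.subgroupMap_surjective D⟩).symm
  rw [o1, Set.ncard_sdiff_singleton_of_mem (one_mem (D.map π)), ← Nat.card_coe_set_eq (D.map π : Set X), SetLike.coe_sort_coe,
    c1] at s3
  have hp3 : 3 ≤ p := by
    have := hp.out.two_le
    have := S.odd
    omega
  have c2 : Nat.card D = p ^ 2 := by
    obtain ⟨k, hk⟩ := IsPGroup.iff_card.1 hD
    have a1 := ((Set.ncard_le_ncard o2).trans (Set.ncard_image_le (Set.toFinite _))).trans (ncard_mn S L)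
    have a2 : ¬ k ≤ 1 := fun e => by
      obtain ⟨v, v1, v2⟩ := L.nc u hu.mem
      refine v2 (eq_of_le_of_card_ge (zpowers_le.2 hu.mem) ?_ ▸ v1)
      rw [hk, Nat.card_zpowers, orderOf_eq_prime (L.pw u hu.mem) hu.ne]
      exact (Nat.pow_le_pow_right hp.out.pos e).trans (pow_one p).le
    have a3 : ¬ 3 ≤ k := fun e => by
      have a4 := Nat.pow_le_pow_right hp.out.pos e
      rw [← hk] at a4
      have a5 := Nat.le_mul_of_pos_left (Nat.card D - 1) s1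
      obtain ⟨m, rfl⟩ : ∃ m, p = m + 3 := ⟨p - 3, by omega⟩
      have a6 : (m + 3) ^ 3 = m ^ 3 + 9 * m ^ 2 + 27 * m + 27 := by ring
      (clear * - s3 a5 a1 a4 a6; omega)
    rw [hk, show k = 2 by omega]
  rw [c2] at s3
  have z1 : ∀ v, Mn ρ D v → ∀ w, v ∈ zpowers w → π v ∈ Z1 (π w) := fun v hv w ⟨k, hk⟩ =>
    ⟨⟨k, by rw [← hk]; exact (map_zpow π w k).symm⟩, map_ne C (L.pw v hv.mem) hv.ne⟩
  have z2 : ∀ w ∈ D, (Z1 (π w)).ncard ≤ p - 1 := fun w hw => ncard_Z1 hp.out.pos (by rw [← map_pow, L.pw w hw, map_one])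
  have a5 := Nat.le_mul_of_pos_left (p ^ 2 - 1) s1
  obtain ⟨m, hm⟩ : ∃ m, p = m + 3 := ⟨p - 3, by omega⟩
  have a6 : p ^ 2 = m * m + 6 * m + 9 := by rw [hm]; ring
  obtain ⟨u', hu', hn⟩ : ∃ u', Mn ρ D u' ∧ u' ∉ zpowers u := by
    by_contra hn
    push Not at hn
    have a1 := (Set.ncard_le_ncard (o2.trans (show _ ⊆ Z1 (π u) from by
      rintro _ ⟨v, hv, rfl⟩
      exact z1 v hv u (hn v hv)))).trans (z2 u hu.mem)
    omega
  obtain ⟨t1, t2⟩ := two S L c2 hu hu' hn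
  have o3 : MulAction.orbit ↥(Γ.subgroupOf (A ⊓ LA (D.map π) 0)) (π u) ⊆ Z1 (π u) ∪ Z1 (π u') := o2.trans (by
    rintro _ ⟨v, hv, rfl⟩
    exact (t2 v hv).imp (z1 v hv u) (z1 v hv u'))
  have o4 := (Set.ncard_union_le _ _).trans (Nat.add_le_add (z2 u hu.mem) (z2 u' hu'.mem))
  have o5 := Set.ncard_le_ncard o3
  have hp5 : p = 5 := by
    have a7 : m ≤ 2 := by nlinarith only [show m * m + 6 * m + 8 ≤ 6 * m + 12 by omega]
    have a8 : p ≠ 4 := fun e => absurd (e ▸ hp.out) (by decide)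
    have a9 : p ≠ 3 := fun e => by
      subst e
      omega
    omega
  subst hp5
  have hq : Fintype.card F % 5 = 2 ∨ Fintype.card F % 5 = 3 := by
    have a1 : ¬ (Fintype.card F % 5 = 1 ∨ Fintype.card F % 5 = 4) := fun e => five S L e (cen hπ C hD h) hu hu' hn
    have a2 : Fintype.card F % 5 ≠ 0 := fun e => by
      obtain ⟨r, hr⟩ := CharP.exists F
      obtain ⟨n, b1, b2⟩ := FiniteField.card F r
      have b3 := (Nat.prime_dvd_prime_iff_eq hp.out b1).1 (hp.out.dvd_of_dvd_pow (b2 ▸ Nat.dvd_of_mod_eq_zero e))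
      exact S.hF (b3 ▸ CharP.cast_eq_zero F r)
    (clear * - a1 a2; omega)
  have r1 := rho_pow (ρ := ρ) (L.pw u hu.mem)
  have r2 := rho_pow (ρ := ρ) (L.pw u' hu'.mem)
  obtain ⟨r3, r4⟩ := rk_add S L hu hu' hn
  have r5 := rk_four hq S.dim r1 (two_le_rk S.odd S.hF S.nd (S.iso u) r1 (S.ne hu.ne)) r4
  obtain ⟨α, hα⟩ := exists_three h3
  refine ⟨rfl, hq, u, u', L.pw u hu.mem, L.pw u' hu'.mem, ?_, ?_, r5, r3 ▸ r5, ?_, α.1, α.2.1, α.2.2.1, fun j hj => ?_⟩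
  · rw [← ep_mul_sub r2, ← mul_assoc, sub_mul, (fx_of S L hu hu' hn).2, one_mul, sub_self, zero_mul]
  · rw [← ep_mul_sub r1, ← mul_assoc, sub_mul, (fx_of S L hu hu' hn).1, one_mul, sub_self, zero_mul]
  · rw [t1, MonoidHom.map_closure, Set.image_pair]
  · rw [← not_or]
    intro e
    have a1 : (α ^ j) • π u ∈ Z1 (π u) ∪ Z1 (π u') := by
      have a2 : (α.1 ^ j) (π u) ≠ 1 := fun e => hu1 ((MulEquiv.map_eq_one_iff _).1 e)
      exact e.imp (fun e => ⟨e, a2⟩) fun e => ⟨e, a2⟩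
    rw [← Set.eq_of_subset_of_ncard_le o3 (by omega)] at a1
    obtain ⟨γ, hγ⟩ := a1
    have a3 : γ.1⁻¹ * α ^ j ∈ MulAction.stabilizer ↥(A ⊓ LA (D.map π) 0) (π u) := by
      rw [MulAction.mem_stabilizer_iff, mul_smul, inv_smul_eq_iff]
      exact hγ.symm
    exact hα j hj ((mul_mem_cancel_left (inv_mem γ.2)).1 (s4 (by omega) a3))

end Cfsg.Agent.TO.D4A
end

-- part: TO/D4A/Main
section
/-!
# S4817, `PΩ₈⁺(q)`: `boxD4A` (helper37)
-/

set_option autoImplicit false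
set_option linter.unusedSectionVars false

namespace Cfsg.Agent.TO

namespace D4A

open Module QuadraticMap Cfsg.Agent.BHZ.Nil Cfsg.Agent.LieClassical.OrthCore Cfsg.Agent.LieClassical.OrthTrans Subgroup
  Cfsg.Agent.AutOrth.Main Cfsg.Agent.AutOrth.SemiSim Cfsg.Agent.LieClassical.QuadForms
open scoped Matrix

/-- squares are in `E` -/
theorem sq_mem_E {F V : Type} [Field F] [AddCommGroup V] [Module F V] [FiniteDimensional F V] {Q : QuadraticForm F V}
    (hG : _root_.Cfsg.Agent.LieClassical.OrthTrans.Good Q) {g : V ≃ₗ[F] V} (hg : g ∈ O Q) : g * g ∈ E Q := by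
  have hcomm : ∀ g ∈ O Q, ∀ h ∈ O Q, g * h * g⁻¹ * h⁻¹ ∈ E Q := fun g hg h hh =>
    hG.commutator_eq_E ▸ commutator_mem_commutator hg hh
  rw [O_eq_closure hG.nondeg] at hg hcomm
  induction hg using closure_induction with
  | mem x hx =>
    rcases hx with ⟨v, hv, rfl⟩ | hx
    · rw [refl_mul_self]; exact one_mem _
    · exact mul_mem (_root_.Subgroup.subset_closure hx) (_root_.Subgroup.subset_closure hx)
  | one => rw [one_mul]; exact one_mem _
  | mul g h hg hh h1 h2 =>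
    rw [show g * h * (g * h) = (g * g) * (g⁻¹ * h * g⁻¹⁻¹ * h⁻¹) * (h * h) by group]
    exact mul_mem (mul_mem h1 (hcomm _ (inv_mem hg) _ hh)) h2
  | inv g hg h =>
    rw [← mul_inv_rev]
    exact inv_mem h

variable {ι : Type} [Fintype ι] [DecidableEq ι] {F : Type} [Field F] {p : ℕ} [hp : Fact p.Prime]

/-- the natural representation -/
noncomputable def rho (R : (ι → F) → F) : Omega F R →* End F (ι → F) where
  toFun u := Matrix.toLinAlgEquiv' (mat u)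
  map_one' := map_one (Matrix.toLinAlgEquiv' (R := F) (n := ι))
  map_mul' a b := map_mul (Matrix.toLinAlgEquiv' (R := F) (n := ι)) (mat a) (mat b)

theorem rho_sub {R : (ι → F) → F} (u : Omega F R) : rho R u - 1 = Matrix.toLinAlgEquiv' (mat u - 1) := by
  rw [map_sub, map_one]
  rfl

theorem rk_rho {R : (ι → F) → F} (u : Omega F R) : rk (rho R u - 1) = (mat u - 1).rank := by
  rw [rho_sub]
  rfl

variable {Q : QuadraticForm F (ι → F)} (hG : _root_.Cfsg.Agent.LieClassical.OrthTrans.Good Q)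
include hG

theorem rho_apply (u : Omega F ⇑Q) (v : ι → F) : rho ⇑Q u v = (oe hG u : (ι → F) ≃ₗ[F] (ι → F)) v := rfl

theorem st (hp2 : p ≠ 2) (hF : (p : F) ≠ 0) (h8 : Fintype.card ι = 8) : St p Q (rho ⇑Q) where
  odd := hp2
  hF := hF
  nd := hG.nondeg
  dim := by rw [finrank_fintype_fun_eq_card, h8]
  inj a b e := (oe hG).injective (ext_E fun v => LinearMap.congr_fun e v)
  iso y := E_le_O (oe hG y).2
  sq c hc := by
    have h1 : Function.Injective c := (injective_iff_map_eq_zero c).2 fun v hv => hG.nondeg v fun w => by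
      rw [← hc.polar, hv, polar_zero_left]
    refine ⟨(oe hG).symm ⟨_, sq_mem_E hG (g := LinearEquiv.ofInjectiveEndo c h1) hc⟩, LinearMap.ext fun v => ?_⟩
    rw [rho_apply hG, MulEquiv.apply_symm_apply]
    rfl

theorem cpp [Finite F] (S : St p Q (rho ⇑Q)) : CentPP p (QuotientGroup.mk' (center (Omega F ⇑Q))) := by
  refine ⟨(QuotientGroup.ker_mk' _).le, fun h => ?_⟩
  rw [QuotientGroup.ker_mk'] at h
  obtain ⟨z, hz⟩ := exists_prime_orderOf_dvd_card' p h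
  obtain ⟨a, ha⟩ := ClassicalGeometry.OrthAut1.center_scalar hG (z := oe hG z.1) (mem_center_iff.2 fun g => by
    obtain ⟨g, rfl⟩ := (oe hG).surjective g
    rw [← map_mul, ← map_mul, mem_center_iff.1 z.2])
  have h1 : rho ⇑Q z.1 ^ p = 1 := rho_pow (by rw [← coe_pow, ← hz, pow_orderOf_eq_one, coe_one])
  obtain ⟨v, h2, h3⟩ := exists_ns S.nd (ep_idem S.hF h1) (sa_ep S.hF (S.iso _) h1) (ep_ne_zero S.hF h1 (S.ne fun e =>
    hp.out.ne_one (by rw [← hz, orderOf_eq_one_iff]; exact Subtype.ext e)))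
  exact not_eig S.odd S.hF (S.iso _) h1 h2 h3 a (ha v)

seal _root_.Finset.sum _root_.dotProduct in
theorem inv_of [Finite F] (S : St p Q (rho ⇑Q)) {Γ : Subgroup (MulAut (POmega F ⇑Q))} (h : ∀ α ∈ Γ, AutOrth.Main.Ind ⇑Q α) :
    Inv p (rho ⇑Q) (QuotientGroup.mk' _) Γ := fun α hα y y' h1 h2 h3 => by
  obtain ⟨σ, μ, T, ⟨hμ, hs, hQ⟩, hT⟩ := h α hα
  obtain ⟨g, hg⟩ := (oe hG).surjective (conjE (⟨hμ, hs, hQ⟩ : IsSemi Q T σ μ) (oe hG y))
  have h4 := hT y g fun v => by rw [← oe_apply hG, ← oe_apply hG, hg, conjE_apply]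
  have h5 : g ^ p = 1 := (oe hG).injective (by rw [map_pow, hg, ← map_pow, ← map_pow, h1, map_one, map_one])
  have h6 : Commute g y'⁻¹ := comm_of (cpp hG S) h5 (by
    simp only [map_inv, ← h3]
    exact (h4 ▸ Commute.refl _ : Commute _ (α (QuotientGroup.mk y))).inv_right)
  have h7 : g = y' := mul_inv_eq_one.1 ((cpp hG S).eq_one (n := 1) (by
    simp only [map_mul, map_inv, ← h3]
    exact mul_inv_eq_one.2 h4.symm) (by simp only [pow_one, h6.mul_pow, h5, inv_pow, h2, inv_one, one_mul]))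
  have h8 : Nat.card (LinearMap.ker (rho ⇑Q y - 1)) = Nat.card (LinearMap.ker (rho ⇑Q y' - 1)) :=
    Nat.card_congr (T.toEquiv.subtypeEquiv fun v => by
      simp only [LinearMap.mem_ker, LinearMap.sub_apply, sub_eq_zero, End.one_apply, rho_apply hG, ← h7, hg]
      exact (T.injective.eq_iff.symm.trans (by rw [← conjE_apply (⟨hμ, hs, hQ⟩ : IsSemi Q T σ μ)]; rfl)))
  rw [natCard_eq_pow_finrank (K := F) (V := LinearMap.ker (rho ⇑Q y - 1)),
    natCard_eq_pow_finrank (K := F) (V := LinearMap.ker (rho ⇑Q y' - 1))] at h8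
  have h9 := Nat.pow_right_injective (Finite.one_lt_card (α := F)) h8
  have a1 := LinearMap.finrank_range_add_finrank_ker (rho ⇑Q y - 1)
  have a2 := LinearMap.finrank_range_add_finrank_ker (rho ⇑Q y' - 1)
  unfold rk
  omega

omit hG

theorem all [Finite F] (hp2 : p ≠ 2) (hF : (p : F) ≠ 0) (R : (Fin 4 ⊕ Fin 4 → F) → F) (hR : ⇑(plusForm 4 F) = R) :
    St p (plusForm 4 F) (rho R) ∧ CentPP p (QuotientGroup.mk' (center (Omega F R))) ∧
      ∃ Γ : Subgroup (MulAut (POmega F R)), Γ.index = 3 ∧ Inv p (rho R) (QuotientGroup.mk' _) Γ := by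
  subst hR
  have hG : _root_.Cfsg.Agent.LieClassical.OrthTrans.Good (plusForm 4 F) := good_plus (by norm_num)
  have S := st hG hp2 hF (by simp)
  obtain ⟨Γ, hΓ, hind⟩ := ClassicalGeometry.TrialityFinal.exists_index_three hG fun α x hx hx0 =>
    (ClassicalGeometry.OrthAut3.dichotomy hG (by simp) α hx hx0).imp_right And.right
  refine ⟨S, cpp hG S, Γ.comap (MulAut.congr (pe hG)).toMonoidHom, ?_, inv_of hG S fun α hα => ?_⟩
  · rw [index_comap_of_surjective _ (MulAut.congr (pe hG)).surjective, hind]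
  · exact (ind_iff_pt hG (by simp) α).2 ((hΓ _).1 hα)

/-- the statement in the simple group -/
theorem survD [Fintype F] (hF : (p : F) ≠ 0) {A : Subgroup (MulAut (POmega F (quadFormPlus 4 F)))}
    {P : Subgroup (POmega F (quadFormPlus 4 F))} (h : Pure p _ A P) : p = 5 ∧ SurvD F A P := by
  obtain ⟨S, C, Γ, h1, h2⟩ := all h.odd hF _ (coe_plusForm (F := F) 4)
  obtain ⟨a1, a2, u, u', a3, a4, a5, a6, a7, a8, a9⟩ := main (QuotientGroup.mk'_surjective _) C S h1 h2 h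
  simp only [rho_sub, rho_sub, ← map_mul, map_eq_zero_iff _ Matrix.toLinAlgEquiv'.injective] at a5 a6
  rw [rk_rho] at a7 a8
  exact ⟨a1, a2, u, u', a3, a4, a5, a6, a7, a8, a9⟩

end D4A

/-- **[D4A]** -/
theorem boxD4A (B : Blk) : BoxD4A := fun p _ _ _ _ hF G _ _ σ M b D H =>
  let ⟨h1, h2⟩ := D4A.survD hF (B.pure G p M b D _ σ H)
  ⟨h1, σ, H, h2⟩

end Cfsg.Agent.TO
end

-- part: TO/D4B/Lin
section
/-!
# S4817, `PΩ₈⁺(q)`, `q ≡ ±2 (mod 5)`: linear algebra of two elements of order five (helper92)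
-/

set_option autoImplicit false
set_option linter.unusedSectionVars false
set_option maxHeartbeats 400000

namespace Cfsg.Agent.TO.D4B

open Matrix Module

variable {ι : Type} [Fintype ι] [DecidableEq ι] {F : Type} [Field F] [Fintype F]

/-- `q ≡ ±2 (mod 5)` -/
def Q5 (F : Type) [Fintype F] : Prop := Fintype.card F % 5 = 2 ∨ Fintype.card F % 5 = 3

theorem Q5.five_ne (hq : Q5 F) : (5 : F) ≠ 0 := by
  intro h
  obtain ⟨p, hp, n, hpp, hc⟩ := FiniteField.card' F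
  have h1 : p ∣ 5 := (CharP.cast_eq_zero_iff F p 5).1 (by exact_mod_cast h)
  have h2 : p = 5 := (Nat.prime_dvd_prime_iff_eq hpp (by norm_num)).1 h1
  have h3 : 5 ∣ Fintype.card F := by
    rw [hc, h2]
    exact dvd_pow_self 5 n.ne_zero
  rcases hq with h4 | h4 <;> omega

theorem Q5.sq (hq : Q5 F) : Fintype.card F ^ 2 % 5 = 4 := by
  rcases hq with h | h <;> rw [Nat.pow_mod, h]

theorem Q5.four_dvd_of (hq : Q5 F) {d : ℕ} (h : Fintype.card F ^ d % 5 = 1) : 4 ∣ d := by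
  have h4 : Fintype.card F ^ 4 % 5 = 1 := by
    rcases hq with h | h <;> rw [Nat.pow_mod, h]
  have h5 : Fintype.card F ^ d % 5 = Fintype.card F ^ (d % 4) % 5 := by
    conv_lhs => rw [← Nat.div_add_mod d 4, pow_add, pow_mul, Nat.mul_mod, Nat.pow_mod, h4]
    simp
  rw [h5, Nat.pow_mod] at h
  have h6 : d % 4 = 0 ∨ d % 4 = 1 ∨ d % 4 = 2 ∨ d % 4 = 3 := by omega
  rcases h6 with h6 | h6 | h6 | h6
  · omega
  all_goals
    rw [h6] at h
    rcases hq with h7 | h7 <;> rw [h7] at h <;> simp at h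

/-- `5` is not a square -/
theorem Q5.not_isSquare (hq : Q5 F) (h2 : (2 : F) ≠ 0) : ¬ IsSquare (5 : F) := by
  classical
  have k1 : ∀ r : ZMod 5, ((1 : ℤ) : ZMod 5) * ((2 : ℕ) : ZMod 5) ≠ r * r := by decide
  have k2 : ∀ r : ZMod 5, ((1 : ℤ) : ZMod 5) * ((3 : ℕ) : ZMod 5) ≠ r * r := by decide
  have k3 : ∀ r : ZMod 5, ((-1 : ℤ) : ZMod 5) * ((2 : ℕ) : ZMod 5) ≠ r * r := by decide
  have k4 : ∀ r : ZMod 5, ((-1 : ℤ) : ZMod 5) * ((3 : ℕ) : ZMod 5) ≠ r * r := by decide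
  have hr : ringChar F ≠ 2 := fun h => h2 (by
    have := ringChar.spec F 2
    rw [h] at this
    exact_mod_cast this.2 dvd_rfl)
  have : Fact (Nat.Prime 5) := ⟨by norm_num⟩
  have h := FiniteField.isSquare_odd_prime_iff hr (p := 5) (by norm_num)
  rw [Nat.cast_ofNat] at h
  rw [h, not_not]
  have h4 : ((Fintype.card F : ℕ) : ZMod 5) = ((Fintype.card F % 5 : ℕ) : ZMod 5) := (ZMod.natCast_mod _ 5).symm
  have h3 : ZMod.χ₄ (Fintype.card F : ZMod 4) = 1 ∨ ZMod.χ₄ (Fintype.card F : ZMod 4) = -1 := by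
    have h6 := FiniteField.odd_card_of_char_ne_two hr
    rw [ZMod.χ₄_nat_eq_if_mod_four, if_neg (by omega)]
    split_ifs
    · exact Or.inl rfl
    · exact Or.inr rfl
  rw [quadraticChar_neg_one_iff_not_isSquare, h4]
  rintro ⟨r, hr⟩
  rcases h3 with h3 | h3 <;> rcases hq with h5 | h5 <;> rw [h3, h5] at hr
  exacts [k1 r hr, k2 r hr, k3 r hr, k4 r hr]

/-- a subspace without fixed vectors of an element of order five has dimension divisible by four -/
theorem four_dvd (hq : Q5 F) {u : Matrix ι ι F} (hu : u ^ 5 = 1) (W : Submodule F (ι → F))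
    (hW : ∀ w ∈ W, u *ᵥ w ∈ W) (hf : ∀ w ∈ W, u *ᵥ w = w → w = 0) : 4 ∣ finrank F W := by
  classical
  have : Fact (Nat.Prime 5) := ⟨by norm_num⟩
  let f : Function.End W := fun w => ⟨u *ᵥ w, hW _ w.2⟩
  have h1 : ∀ (n : ℕ) (w : W), (((f ^ n) w : W) : ι → F) = u ^ n *ᵥ w := by
    intro n
    induction n with
    | zero => intro w; simp [Function.End.one_def]
    | succ n ih =>
      intro w
      rw [pow_succ, pow_succ, ← mulVec_mulVec]
      exact ih (f w)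
  have h2 : f ^ 5 ^ 1 = 1 := by
    funext w
    apply Subtype.ext
    rw [h1, pow_one, hu, one_mulVec]
    rfl
  have : Fintype W := Fintype.ofFinite W
  have h3 := Equiv.Perm.card_fixedPoints_modEq h2
  have h4 : Fintype.card f.fixedPoints = 1 := by
    rw [Fintype.card_eq_one_iff]
    refine ⟨⟨0, Subtype.ext (mulVec_zero u)⟩, fun y => Subtype.ext (Subtype.ext (hf _ y.1.2 ?_))⟩
    exact congrArg Subtype.val y.2
  rw [h4, Module.card_eq_pow_finrank (K := F)] at h3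
  exact hq.four_dvd_of h3

/-- the sum of the powers -/
def nm (u : Matrix ι ι F) : Matrix ι ι F := 1 + u + u ^ 2 + u ^ 3 + u ^ 4

theorem mul_nm {u : Matrix ι ι F} (hu : u ^ 5 = 1) : u * nm u = nm u := by
  have : u * nm u = u + u ^ 2 + u ^ 3 + u ^ 4 + u ^ 5 := by unfold nm; noncomm_ring
  rw [this, hu]; unfold nm; abel

theorem nm_mul {u : Matrix ι ι F} (hu : u ^ 5 = 1) : nm u * u = nm u := by
  have : nm u * u = u + u ^ 2 + u ^ 3 + u ^ 4 + u ^ 5 := by unfold nm; noncomm_ring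
  rw [this, hu]; unfold nm; abel

theorem pow_mulVec_fix {u : Matrix ι ι F} {w : ι → F} (h : u *ᵥ w = w) (n : ℕ) : u ^ n *ᵥ w = w := by
  induction n with
  | zero => simp
  | succ n ih => rw [pow_succ, ← mulVec_mulVec, h, ih]

theorem nm_fix {u : Matrix ι ι F} {w : ι → F} (h : u *ᵥ w = w) : nm u *ᵥ w = (5 : F) • w := by
  unfold nm
  simp only [add_mulVec, one_mulVec, h, pow_mulVec_fix h]
  rw [show (5 : F) = 1 + 1 + 1 + 1 + 1 by norm_num]
  simp only [add_smul, one_smul]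

theorem pow_mem {u : Matrix ι ι F} {W : Submodule F (ι → F)} (hW : ∀ w ∈ W, u *ᵥ w ∈ W) {w : ι → F} (hw : w ∈ W)
    (n : ℕ) : u ^ n *ᵥ w ∈ W := by
  induction n with
  | zero => simpa using hw
  | succ n ih => rw [pow_succ', ← mulVec_mulVec]; exact hW _ ih

theorem nm_zero {u : Matrix ι ι F} (hu : u ^ 5 = 1) {W : Submodule F (ι → F)}
    (hW : ∀ w ∈ W, u *ᵥ w ∈ W) (hf : ∀ w ∈ W, u *ᵥ w = w → w = 0) {w : ι → F} (hw : w ∈ W) : nm u *ᵥ w = 0 := by
  refine hf _ ?_ (by rw [mulVec_mulVec, mul_nm hu])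
  unfold nm
  simp only [add_mulVec, one_mulVec]
  exact add_mem (add_mem (add_mem (add_mem hw (hW _ hw)) (pow_mem hW hw 2)) (pow_mem hW hw 3)) (pow_mem hW hw 4)

/-- the cyclic family -/
def cy (u : Matrix ι ι F) (w : ι → F) : Fin 4 → ι → F := fun i => u ^ (i : ℕ) *ᵥ w

/-- a four-dimensional space without fixed vectors is cyclic -/
theorem span_cy (hq : Q5 F) {u : Matrix ι ι F} (hu : u ^ 5 = 1) {W : Submodule F (ι → F)}
    (hW : ∀ w ∈ W, u *ᵥ w ∈ W) (hf : ∀ w ∈ W, u *ᵥ w = w → w = 0) (h4 : finrank F W = 4) {w : ι → F}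
    (hw : w ∈ W) (h0 : w ≠ 0) : Submodule.span F (Set.range (cy u w)) = W := by
  set S := Submodule.span F (Set.range (cy u w)) with hS
  have hle : S ≤ W := Submodule.span_le.2 (by
    rintro _ ⟨i, rfl⟩
    exact pow_mem hW hw i)
  have hm : ∀ i : Fin 4, u ^ (i : ℕ) *ᵥ w ∈ S := fun i => Submodule.subset_span ⟨i, rfl⟩
  have h5 : u ^ 4 *ᵥ w ∈ S := by
    have h6 := nm_zero hu hW hf hw
    unfold nm at h6
    simp only [add_mulVec] at h6
    have h7 : u ^ 4 *ᵥ w = -(u ^ 0 *ᵥ w + u ^ 1 *ᵥ w + u ^ 2 *ᵥ w + u ^ 3 *ᵥ w) := by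
      rw [pow_zero, pow_one]
      exact eq_neg_of_add_eq_zero_right h6
    rw [h7]
    exact neg_mem (add_mem (add_mem (add_mem (hm 0) (hm 1)) (hm 2)) (hm 3))
  have hinv : ∀ x ∈ S, u *ᵥ x ∈ S := by
    intro x hx
    induction hx using Submodule.span_induction with
    | mem x hx =>
      obtain ⟨i, rfl⟩ := hx
      unfold cy
      rw [mulVec_mulVec, ← pow_succ']
      fin_cases i
      · exact hm 1
      · exact hm 2
      · exact hm 3
      · exact h5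
    | zero => simp
    | add x y _ _ hx hy => rw [mulVec_add]; exact add_mem hx hy
    | smul c x _ hx => rw [mulVec_smul]; exact Submodule.smul_mem _ _ hx
  have h6 := four_dvd hq hu S hinv fun x hx => hf x (hle hx)
  have h7 : finrank F S ≠ 0 := by
    intro h
    have h8 : S = ⊥ := Submodule.finrank_eq_zero.1 h
    have h9 := hm 0
    rw [h8, Submodule.mem_bot] at h9
    exact h0 (by simpa using h9)
  exact Submodule.eq_of_le_of_finrank_le hle (by rw [h4]; exact Nat.le_of_dvd (Nat.pos_of_ne_zero h7) h6)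

/-- a matrix which commutes with `u` and stabilises `W` acts on `W` as a polynomial in `u` -/
theorem exists_poly (hq : Q5 F) {u : Matrix ι ι F} (hu : u ^ 5 = 1) {W : Submodule F (ι → F)}
    (hW : ∀ w ∈ W, u *ᵥ w ∈ W) (hf : ∀ w ∈ W, u *ᵥ w = w → w = 0) (h4 : finrank F W = 4) {c : Matrix ι ι F}
    (hc : Commute c u) (hcW : ∀ w ∈ W, c *ᵥ w ∈ W) :
    ∃ P ∈ Algebra.adjoin F ({u} : Set (Matrix ι ι F)), ∀ w ∈ W, c *ᵥ w = P *ᵥ w := by
  obtain ⟨w, hw, h0⟩ : ∃ w ∈ W, w ≠ 0 := by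
    apply Submodule.exists_mem_ne_zero_of_ne_bot
    intro h
    rw [h, finrank_bot] at h4
    omega
  have hs := span_cy hq hu hW hf h4 hw h0
  have h1 := hcW w hw
  rw [← hs, Submodule.mem_span_range_iff_exists_fun] at h1
  obtain ⟨x, hx⟩ := h1
  obtain ⟨P, hP0⟩ : ∃ P : Matrix ι ι F, P = ∑ i : Fin 4, x i • u ^ (i : ℕ) := ⟨_, rfl⟩
  have hP : ∀ n : ℕ, Commute P (u ^ n) := by
    intro n
    rw [hP0]
    refine Commute.sum_left _ _ _ fun i _ => ?_
    exact Commute.smul_left ((Commute.refl u).pow_pow i n) _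
  have hPw : P *ᵥ w = c *ᵥ w := by
    rw [← hx, hP0, sum_mulVec]
    refine Finset.sum_congr rfl fun i _ => ?_
    rw [smul_mulVec]
    rfl
  have hu0 : u ∈ Algebra.adjoin F ({u} : Set (Matrix ι ι F)) := Algebra.subset_adjoin (Set.mem_singleton u)
  have hPm : P ∈ Algebra.adjoin F ({u} : Set (Matrix ι ι F)) := by
    rw [hP0]
    refine Subalgebra.sum_mem _ fun i _ => ?_
    exact Subalgebra.smul_mem _ (Subalgebra.pow_mem _ hu0 _) _
  refine ⟨P, hPm, fun y hy => ?_⟩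
  rw [← hs] at hy
  induction hy using Submodule.span_induction with
  | mem y hy =>
    obtain ⟨j, rfl⟩ := hy
    unfold cy
    rw [mulVec_mulVec, mulVec_mulVec, (hc.pow_right j).eq, (hP j).eq, ← mulVec_mulVec, ← mulVec_mulVec, hPw]
  | zero => simp
  | add y z _ _ hy hz => rw [mulVec_add, mulVec_add, hy, hz]
  | smul a y _ hy => rw [mulVec_smul, mulVec_smul, hy]

/-- the fixed space -/
def fx (u : Matrix ι ι F) : Submodule F (ι → F) := LinearMap.ker (Matrix.toLin' (u - 1))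

theorem mem_fx {u : Matrix ι ι F} {v : ι → F} : v ∈ fx u ↔ u *ᵥ v = v := by
  unfold fx
  rw [LinearMap.mem_ker, Matrix.toLin'_apply, sub_mulVec, one_mulVec, sub_eq_zero]

theorem finrank_fx (u : Matrix ι ι F) : (u - 1).rank + finrank F (fx u) = Fintype.card ι := by
  have h := LinearMap.finrank_range_add_finrank_ker (Matrix.toLin' (u - 1))
  rw [Module.finrank_fintype_fun_eq_card] at h
  rw [← h, Matrix.rank, Matrix.toLin'_apply']
  rfl

theorem mem_fx_of_comm {u c : Matrix ι ι F} (h : Commute c u) {v : ι → F} (hv : v ∈ fx u) : c *ᵥ v ∈ fx u := by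
  rw [mem_fx] at hv ⊢
  rw [mulVec_mulVec, ← h.eq, ← mulVec_mulVec, hv]

/-- two commuting matrices of order five with complementary supports of dimension four -/
structure MP (a b : Matrix ι ι F) : Prop where
  q5 : Q5 F
  c8 : Fintype.card ι = 8
  p1 : a ^ 5 = 1
  p2 : b ^ 5 = 1
  z12 : (a - 1) * (b - 1) = 0
  z21 : (b - 1) * (a - 1) = 0
  r1 : (a - 1).rank = 4
  r2 : (b - 1).rank = 4

namespace MP

variable {a b : Matrix ι ι F}

theorem symm (h : MP a b) : MP b a := ⟨h.q5, h.c8, h.p2, h.p1, h.z21, h.z12, h.r2, h.r1⟩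

theorem comm (h : MP a b) : Commute a b := by
  have h1 : a * b - b * a = (a - 1) * (b - 1) - (b - 1) * (a - 1) := by noncomm_ring
  rw [h.z12, h.z21, sub_zero, sub_eq_zero] at h1
  exact h1

theorem fin1 (h : MP a b) : finrank F (fx a) = 4 := by
  have := finrank_fx a
  rw [h.r1, h.c8] at this
  omega

theorem sub_mem (h : MP a b) (v : ι → F) : (a - 1) *ᵥ v ∈ fx b := by
  unfold fx
  rw [LinearMap.mem_ker, Matrix.toLin'_apply, mulVec_mulVec, h.z21, zero_mulVec]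

theorem range_eq (h : MP a b) : LinearMap.range (Matrix.toLin' (a - 1)) = fx b := by
  apply Submodule.eq_of_le_of_finrank_le
  · rintro _ ⟨v, rfl⟩
    rw [Matrix.toLin'_apply]
    exact h.sub_mem v
  · rw [h.symm.fin1, ← h.r1, Matrix.rank, Matrix.toLin'_apply']

theorem nm_eq_zero (h : MP a b) {v : ι → F} (hv : v ∈ fx b) : nm a *ᵥ v = 0 := by
  rw [← h.range_eq] at hv
  obtain ⟨y, rfl⟩ := hv
  rw [Matrix.toLin'_apply, mulVec_mulVec, mul_sub, nm_mul h.p1, mul_one, sub_self, zero_mulVec]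

theorem disj (h : MP a b) {v : ι → F} (hv : v ∈ fx b) (hv' : a *ᵥ v = v) : v = 0 := by
  have h1 := h.nm_eq_zero hv
  rw [nm_fix hv'] at h1
  exact (smul_eq_zero.1 h1).resolve_left h.q5.five_ne

theorem dec (h : MP a b) (v : ι → F) : ∃ w₁ ∈ fx b, ∃ w₂ ∈ fx a, v = w₁ + w₂ := by
  have h1 : fx b ⊓ fx a = ⊥ := by
    rw [eq_bot_iff]
    rintro x ⟨hx, hx'⟩
    exact h.disj hx (mem_fx.1 hx')
  have h2 := Submodule.finrank_sup_add_finrank_inf_eq (fx b) (fx a)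
  rw [h1, finrank_bot, h.fin1, h.symm.fin1] at h2
  have h3 : fx b ⊔ fx a = ⊤ := Submodule.eq_top_of_finrank_eq (by
    rw [Module.finrank_fintype_fun_eq_card, h.c8]; omega)
  have h4 : v ∈ fx b ⊔ fx a := h3 ▸ Submodule.mem_top
  obtain ⟨x, hx, y, hy, hxy⟩ := Submodule.mem_sup.1 h4
  exact ⟨x, hx, y, hy, hxy.symm⟩

theorem inv (h : MP a b) : ∀ w ∈ fx b, a *ᵥ w ∈ fx b := fun _ hw => mem_fx_of_comm h.comm hw

theorem ext (h : MP a b) {x y : Matrix ι ι F} (h1 : ∀ w ∈ fx b, x *ᵥ w = y *ᵥ w)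
    (h2 : ∀ w ∈ fx a, x *ᵥ w = y *ᵥ w) : x = y := by
  apply Matrix.mulVec_injective
  funext v
  obtain ⟨w₁, m1, w₂, m2, rfl⟩ := h.dec v
  rw [mulVec_add, mulVec_add, h1 _ m1, h2 _ m2]

/-- the algebra generated by the two matrices -/
abbrev Al (a b : Matrix ι ι F) : Subalgebra F (Matrix ι ι F) := Algebra.adjoin F {a, b}

theorem a_mem : a ∈ Al a b := Algebra.subset_adjoin (Or.inl rfl)
theorem b_mem : b ∈ Al a b := Algebra.subset_adjoin (Or.inr rfl)

theorem nm_mem {S : Subalgebra F (Matrix ι ι F)} {u : Matrix ι ι F} (hu : u ∈ S) : nm u ∈ S :=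
  add_mem (add_mem (add_mem (add_mem (one_mem _) hu) (Subalgebra.pow_mem _ hu 2)) (Subalgebra.pow_mem _ hu 3))
    (Subalgebra.pow_mem _ hu 4)

/-- **the commutant is the algebra** -/
theorem mem_adjoin (h : MP a b) {c : Matrix ι ι F} (h1 : Commute c a) (h2 : Commute c b) : c ∈ Al a b := by
  obtain ⟨P, hP, hP'⟩ := exists_poly h.q5 h.p1 h.inv (fun w hw => h.disj hw) h.symm.fin1 h1
    fun w hw => mem_fx_of_comm h2 hw
  obtain ⟨R, hR, hR'⟩ := exists_poly h.q5 h.p2 h.symm.inv (fun w hw => h.symm.disj hw) h.fin1 h2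
    fun w hw => mem_fx_of_comm h1 hw
  have h5 := h.q5.five_ne
  have h3 : c = (5 : F)⁻¹ • (P * nm b + R * nm a) := by
    apply h.ext
    · intro w hw
      rw [smul_mulVec, add_mulVec, ← mulVec_mulVec, ← mulVec_mulVec, h.nm_eq_zero hw, nm_fix (mem_fx.1 hw),
        mulVec_zero, add_zero, mulVec_smul, smul_smul, inv_mul_cancel₀ h5, one_smul, hP' w hw]
    · intro w hw
      rw [smul_mulVec, add_mulVec, ← mulVec_mulVec, ← mulVec_mulVec, h.symm.nm_eq_zero hw, nm_fix (mem_fx.1 hw),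
        mulVec_zero, zero_add, mulVec_smul, smul_smul, inv_mul_cancel₀ h5, one_smul, hR' w hw]
  rw [h3]
  exact Subalgebra.smul_mem _ (add_mem
    (mul_mem (Algebra.adjoin_mono (by simp) hP) (nm_mem b_mem))
    (mul_mem (Algebra.adjoin_mono (by simp) hR) (nm_mem a_mem))) _

theorem comm_gen (h : MP a b) {x : Matrix ι ι F} (hx : x ∈ Al a b) : Commute a x ∧ Commute b x := by
  constructor
  · refine Algebra.commute_of_mem_adjoin_of_forall_mem_commute hx ?_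
    rintro y (rfl | rfl)
    · exact Commute.refl _
    · exact h.comm
  · refine Algebra.commute_of_mem_adjoin_of_forall_mem_commute hx ?_
    rintro y (rfl | rfl)
    · exact h.comm.symm
    · exact Commute.refl _

theorem comm_adj (h : MP a b) {x y : Matrix ι ι F} (hx : x ∈ Al a b) (hy : y ∈ Al a b) : Commute x y := by
  refine Algebra.commute_of_mem_adjoin_of_forall_mem_commute hy ?_
  rintro z (rfl | rfl)
  · exact (h.comm_gen hx).1.symm
  · exact (h.comm_gen hx).2.symm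

/-- induction for the Frobenius map `x ↦ x ^ (q ^ 2)` -/
theorem frob_ind (h : MP a b) (P : Matrix ι ι F → Matrix ι ι F → Prop) (ha : P a (a ^ 4)) (hb : P b (b ^ 4))
    (hs : ∀ s : F, P (s • 1) (s • 1)) (hadd : ∀ x x' y y', P x x' → P y y' → P (x + y) (x' + y'))
    (hmul : ∀ x x' y y', Commute x' y' → P x x' → P y y' → P (x * y) (x' * y')) {x : Matrix ι ι F}
    (hx : x ∈ Al a b) : P x (x ^ Fintype.card F ^ 2) := by
  obtain ⟨p, hp, n, hpp, hc⟩ := FiniteField.card' F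
  have : Fact p.Prime := ⟨hpp⟩
  have : Nonempty ι := Fintype.card_pos_iff.1 (by rw [h.c8]; norm_num)
  induction hx using Algebra.adjoin_induction with
  | mem x hx =>
    rcases hx with rfl | rfl
    · rw [pow_eq_pow_mod _ h.p1, h.q5.sq]; exact ha
    · rw [pow_eq_pow_mod _ h.p2, h.q5.sq]; exact hb
  | algebraMap s =>
    rw [← map_pow, FiniteField.pow_card_pow, Algebra.algebraMap_eq_smul_one]
    exact hs s
  | add x y hx hy ihx ihy =>
    have h1 : (x + y) ^ Fintype.card F ^ 2 = x ^ Fintype.card F ^ 2 + y ^ Fintype.card F ^ 2 := by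
      rw [hc, ← pow_mul]
      exact add_pow_char_pow_of_commute p _ (h.comm_adj hx hy)
    rw [h1]
    exact hadd _ _ _ _ ihx ihy
  | mul x y hx hy ihx ihy =>
    rw [(h.comm_adj hx hy).mul_pow]
    exact hmul _ _ _ _ ((h.comm_adj hx hy).pow_pow _ _) ihx ihy

/-- a matrix which inverts `a` and `b` acts on the algebra as the Frobenius map -/
theorem conj_frob (h : MP a b) {t : Matrix ι ι F} (ha : t * a = a ^ 4 * t) (hb : t * b = b ^ 4 * t)
    {x : Matrix ι ι F} (hx : x ∈ Al a b) : t * x = x ^ Fintype.card F ^ 2 * t := by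
  refine h.frob_ind (fun x x' => t * x = x' * t) ha hb (fun s => by simp) ?_ ?_ hx
  · intro x x' y y' h1 h2
    rw [mul_add, add_mul, h1, h2]
  · intro x x' y y' _ h1 h2
    rw [← mul_assoc, h1, mul_assoc, h2, mul_assoc]

/-- the adjoint with respect to an invariant form is the Frobenius map -/
theorem adj_frob (h : MP a b) (B : LinearMap.BilinForm F (ι → F)) (ha : ∀ v w, B (a *ᵥ v) (a *ᵥ w) = B v w)
    (hb : ∀ v w, B (b *ᵥ v) (b *ᵥ w) = B v w) {x : Matrix ι ι F} (hx : x ∈ Al a b) (v w : ι → F) :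
    B (x *ᵥ v) w = B v ((x ^ Fintype.card F ^ 2) *ᵥ w) := by
  refine h.frob_ind (fun x x' => ∀ v w, B (x *ᵥ v) w = B v (x' *ᵥ w)) ?_ ?_ ?_ ?_ ?_ hx v w
  · intro v w
    rw [← ha v, mulVec_mulVec, ← pow_succ', h.p1, one_mulVec]
  · intro v w
    rw [← hb v, mulVec_mulVec, ← pow_succ', h.p2, one_mulVec]
  · intro s v w
    simp [smul_mulVec]
  · intro x x' y y' h1 h2 v w
    rw [add_mulVec, add_mulVec, map_add, map_add, LinearMap.add_apply, h1, h2]
  · intro x x' y y' hc h1 h2 v w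
    rw [← mulVec_mulVec, h1, h2, mulVec_mulVec, hc.eq]

/-- an element of support two has no fixed vector -/
theorem fpf (h : MP a b) {i j : ℕ} (hi : ¬ 5 ∣ i) (hj : ¬ 5 ∣ j) {v : ι → F} (hv : (a ^ i * b ^ j) *ᵥ v = v) :
    v = 0 := by
  have key : ∀ {u : Matrix ι ι F} {k : ℕ} {w : ι → F}, u ^ 5 = 1 → ¬ 5 ∣ k → u ^ k *ᵥ w = w → u *ᵥ w = w := by
    intro u k w hu hk hw
    have h1 := pow_mulVec_fix hw (k ^ 3)
    rw [← pow_mul, pow_eq_pow_mod _ hu] at h1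
    have h2 : k * k ^ 3 % 5 = 1 := by
      have h3 : k % 5 = 1 ∨ k % 5 = 2 ∨ k % 5 = 3 ∨ k % 5 = 4 := by omega
      rw [← pow_succ', Nat.pow_mod]
      rcases h3 with h3 | h3 | h3 | h3 <;> rw [h3]
    rwa [h2, pow_one] at h1
  obtain ⟨w₁, m1, w₂, m2, rfl⟩ := h.dec v
  rw [mulVec_add, ← mulVec_mulVec, pow_mulVec_fix (mem_fx.1 m1), (h.comm.pow_pow i j).eq, ← mulVec_mulVec,
    pow_mulVec_fix (mem_fx.1 m2)] at hv
  have h1 : a ^ i *ᵥ w₁ - w₁ = -(b ^ j *ᵥ w₂ - w₂) := by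
    rw [neg_sub, sub_eq_sub_iff_add_eq_add, hv, add_comm]
  have h2 : a ^ i *ᵥ w₁ - w₁ ∈ fx b := _root_.sub_mem (pow_mem h.inv m1 i) m1
  have h3 : b ^ j *ᵥ w₂ - w₂ ∈ fx a := _root_.sub_mem (pow_mem h.symm.inv m2 j) m2
  have h4 : a ^ i *ᵥ w₁ - w₁ = 0 := h.disj h2 (mem_fx.1 (h1 ▸ neg_mem h3))
  have h5 : b ^ j *ᵥ w₂ - w₂ = 0 := by
    rw [h4] at h1
    exact neg_eq_zero.1 h1.symm
  rw [h.disj m1 (key h.p1 hi (sub_eq_zero.1 h4)), h.symm.disj m2 (key h.p2 hj (sub_eq_zero.1 h5)), add_zero]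

/-- the two supports are orthogonal -/
theorem orth (h : MP a b) (B : LinearMap.BilinForm F (ι → F)) (ha : ∀ v w, B (a *ᵥ v) (a *ᵥ w) = B v w)
    {v w : ι → F} (hv : v ∈ fx b) (hw : w ∈ fx a) : B v w = 0 := by
  rw [← h.range_eq] at hv
  obtain ⟨y, rfl⟩ := hv
  rw [Matrix.toLin'_apply, sub_mulVec, one_mulVec, map_sub, LinearMap.sub_apply, ← ha y w, mem_fx.1 hw, sub_self]

end MP

end Cfsg.Agent.TO.D4B
end

-- part: TO/D4B/Om
section
/-!
# S4817, `PΩ₈⁺(q)`, `q ≡ ±2 (mod 5)`: the centralizer and the normalizer of the `5²` in `Ω` (helper92)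
-/

set_option autoImplicit false
set_option linter.unusedSectionVars false
set_option maxHeartbeats 400000

namespace Cfsg.Agent.TO.D4B

open Cfsg Matrix Module QuadraticMap
open Cfsg.Agent.ClassicalGeometry.Reflection

section Grp

variable {H : Type*} [Group H]

theorem conj_pow_four {t u : H} (hu : u ^ 5 = 1) (h1 : u ≠ 1) {i : ℕ} (h : t * u * t⁻¹ = u ^ i) :
    Commute (t ^ 4) u := by
  have h2 : ∀ n : ℕ, t ^ n * u * (t ^ n)⁻¹ = u ^ i ^ n := by
    intro n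
    induction n with
    | zero => simp
    | succ n ih =>
      have h3 : t ^ (n + 1) * u * (t ^ (n + 1))⁻¹ = t * (t ^ n * u * (t ^ n)⁻¹) * t⁻¹ := by group
      rw [h3, ih, ← conj_pow, h, ← pow_mul, pow_succ']
  have h3 : ¬ 5 ∣ i := by
    rintro ⟨k, rfl⟩
    rw [pow_mul, hu, one_pow, mul_inv_eq_one, mul_eq_left] at h
    exact h1 h
  have h4 : i ^ 4 % 5 = 1 := by
    have h5 : i % 5 = 1 ∨ i % 5 = 2 ∨ i % 5 = 3 ∨ i % 5 = 4 := by omega
    rw [Nat.pow_mod]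
    rcases h5 with h5 | h5 | h5 | h5 <;> rw [h5]
  have h5 := h2 4
  rw [pow_eq_pow_mod _ hu, h4, pow_one, mul_inv_eq_iff_eq_mul] at h5
  exact h5

end Grp

variable {ι : Type} [Fintype ι] [DecidableEq ι] {F : Type} [Field F] [Fintype F] {R : (ι → F) → F}

theorem mat_mul (x y : Omega F R) : mat (x * y) = mat x * mat y := rfl
theorem mat_one : mat (1 : Omega F R) = 1 := rfl
theorem mat_inj {x y : Omega F R} (h : mat x = mat y) : x = y := Subtype.ext (Subtype.ext (Units.ext h))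

theorem mat_pow (x : Omega F R) (n : ℕ) : mat (x ^ n) = mat x ^ n := by
  induction n with
  | zero => rw [pow_zero, pow_zero, mat_one]
  | succ n ih => rw [pow_succ, pow_succ, mat_mul, ih]

theorem mat_comm {x y : Omega F R} (h : Commute x y) : Commute (mat x) (mat y) := congrArg mat h

theorem mat_inv_vec (x : Omega F R) (v : ι → F) : mat x *ᵥ (mat x⁻¹ *ᵥ v) = v := by
  rw [mulVec_mulVec, ← mat_mul, mul_inv_cancel, mat_one, one_mulVec]

theorem iso {Q : QuadraticForm F (ι → F)} (x : Omega F ⇑Q) (v w : ι → F) :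
    polarBilin Q (mat x *ᵥ v) (mat x *ᵥ w) = polarBilin Q v w :=
  polar_mulVec_of_isometry Q _ (fun y => (mem_isometryGroup_iff _ _).1 x.1.2 y) v w

/-- `R` is a nondegenerate isotropic quadratic form with perfect `Ω` -/
structure Fm (R : (ι → F) → F) : Prop where
  ex : ∃ Q : QuadraticForm F (ι → F), ⇑Q = R ∧ (polarBilin Q).Nondegenerate ∧ ∃ u : ι → F, u ≠ 0 ∧ Q u = 0
  perf : commutator (Omega F R) = ⊤

theorem fm_plus : Fm (quadFormPlus 4 F) := by
  have hn := LieClassical.OrthForms.nondeg_plusForm 4 F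
  have hc := LieClassical.OrthForms.coe_plusForm 4 F
  constructor
  · refine ⟨_, hc, ⟨fun x hx => hn x hx, fun x hx => hn x fun y => (polar_comm _ _ _).trans (hx y)⟩,
      Pi.single (Sum.inl 0) 1, by simp, ?_⟩
    rw [hc]
    simp [quadFormPlus]
  · rw [← hc]
    exact H312.Orth.omega_perfect (LieClassical.OrthFinite.good_of_finite hn
      (by rw [Module.finrank_fintype_fun_eq_card]; simp))

/-- the image in `PΩ` -/
abbrev pr (x : Omega F R) : POmega F R := QuotientGroup.mk x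

theorem pr_mul (x y : Omega F R) : pr (x * y) = pr x * pr y := rfl
theorem pr_inv (x : Omega F R) : pr x⁻¹ = (pr x)⁻¹ := rfl
theorem pr_pow (x : Omega F R) (n : ℕ) : pr (x ^ n) = pr x ^ n := QuotientGroup.mk_pow _ _ _

/-- the two elements of order five -/
structure Pair (u₁ u₂ : Omega F R) : Prop where
  fm : Fm R
  mp : MP (mat u₁) (mat u₂)

namespace Pair

variable {u₁ u₂ : Omega F R}

theorem symm (h : Pair u₁ u₂) : Pair u₂ u₁ := ⟨h.fm, h.mp.symm⟩

theorem comm (h : Pair u₁ u₂) : Commute u₁ u₂ := mat_inj h.mp.comm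

theorem p1 (h : Pair u₁ u₂) : u₁ ^ 5 = 1 := mat_inj (by rw [mat_pow, h.mp.p1, mat_one])

theorem ne1 (h : Pair u₁ u₂) : u₁ ≠ 1 := by
  rintro rfl
  have h1 := h.mp.r1
  rw [mat_one, sub_self, Matrix.rank_zero] at h1
  omega

theorem cen (h : Pair u₁ u₂) (z : Omega F R) : z ∈ Subgroup.center (Omega F R) ↔ mat z = 1 ∨ mat z = -1 := by
  obtain ⟨Q, rfl, hQ, hs⟩ := h.fm.ex
  exact LieClassical.OmegaCenter.mem_center_omega_iff Q hQ (by rw [h.mp.c8]; norm_num) hs z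

theorem cen_sq (h : Pair u₁ u₂) {z : Omega F R} (hz : z ∈ Subgroup.center (Omega F R)) : z ^ 2 = 1 := by
  apply mat_inj
  rw [mat_pow, mat_one]
  rcases (h.cen z).1 hz with h1 | h1 <;> rw [h1] <;> simp only [_root_.one_pow, _root_.even_two, _root_.Even.neg_pow]

/-- elements of order five lift uniquely -/
theorem eq_of_mk (h : Pair u₁ u₂) {x y : Omega F R} (hx : x ^ 5 = 1) (hy : y ^ 5 = 1) (e : pr x = pr y) :
    x = y := by
  have hz : x⁻¹ * y ∈ Subgroup.center (Omega F R) := QuotientGroup.eq.1 e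
  have h1 : Commute x (x⁻¹ * y) := Subgroup.mem_center_iff.1 hz x
  have h2 : (x⁻¹ * y) ^ 5 = 1 := by
    have h3 := h1.mul_pow 5
    rw [mul_inv_cancel_left, hx, hy, one_mul] at h3
    exact h3.symm
  have h3 : (x⁻¹ * y) ^ 5 = (x⁻¹ * y) ^ 2 * (x⁻¹ * y) ^ 2 * (x⁻¹ * y) := by rw [← pow_add, ← pow_succ]
  rw [h2, h.cen_sq hz, one_mul, one_mul] at h3
  exact inv_mul_eq_one.1 h3.symm

theorem conj_five {x : Omega F R} (hx : x ^ 5 = 1) (c : Omega F R) : (c * x * c⁻¹) ^ 5 = 1 := by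
  rw [conj_pow, hx, mul_one, mul_inv_cancel]

theorem comm_of_mk (h : Pair u₁ u₂) {c x : Omega F R} (hx : x ^ 5 = 1) (e : Commute (pr c) (pr x)) :
    Commute c x := by
  have h1 : c * x * c⁻¹ = x := h.eq_of_mk (conj_five hx c) hx (by
    rw [pr_mul, pr_mul, pr_inv, e.eq, mul_inv_cancel_right])
  exact mul_inv_eq_iff_eq_mul.1 h1

/-- the centralizer has exponent dividing `q² + 1` -/
theorem cent_pow (h : Pair u₁ u₂) {c : Omega F R} (h1 : Commute c u₁) (h2 : Commute c u₂) :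
    c ^ (Fintype.card F ^ 2 + 1) = 1 := by
  obtain ⟨Q, rfl, hQ, -⟩ := h.fm.ex
  have hc := h.mp.mem_adjoin (mat_comm h1) (mat_comm h2)
  apply mat_inj
  apply Matrix.mulVec_injective
  funext w
  rw [mat_one, one_mulVec, ← sub_eq_zero]
  refine hQ.2 _ fun v => ?_
  rw [map_sub, mat_pow, pow_succ, ← mulVec_mulVec,
    ← h.mp.adj_frob (polarBilin Q) (iso u₁) (iso u₂) hc, iso, sub_self]

seal _root_.Finset.sum _root_.dotProduct in
/-- an element which inverts `u₁` and `u₂` inverts their centralizer -/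
theorem inverts (h : Pair u₁ u₂) {t c : Omega F R} (t1 : t * u₁ * t⁻¹ = u₁⁻¹) (t2 : t * u₂ * t⁻¹ = u₂⁻¹)
    (h1 : Commute c u₁) (h2 : Commute c u₂) : t * c * t⁻¹ = c⁻¹ := by
  have key : ∀ {u : Omega F R}, u ^ 5 = 1 → t * u * t⁻¹ = u⁻¹ → mat t * mat u = mat u ^ 4 * mat t := by
    intro u hu ht
    have h3 : u⁻¹ = u ^ 4 := (inv_eq_of_mul_eq_one_left (by rw [← pow_succ, hu]) : _)
    rw [h3, mul_inv_eq_iff_eq_mul] at ht
    rw [← mat_pow, ← mat_mul, ← mat_mul, ht]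
  have h3 := h.mp.conj_frob (key h.p1 t1) (key h.symm.p1 t2) (h.mp.mem_adjoin (mat_comm h1) (mat_comm h2))
  rw [← mat_pow, ← mat_mul, ← mat_mul] at h3
  rw [mat_inj h3, mul_inv_cancel_right]
  exact eq_inv_of_mul_eq_one_left (by rw [← pow_succ, h.cent_pow h1 h2])

/-- the subgroup of order 25 of `PΩ` -/
abbrev QQ (u₁ u₂ : Omega F R) : Subgroup (POmega F R) := Subgroup.closure {pr u₁, pr u₂}

theorem pow_five (h : Pair u₁ u₂) (i j : ℕ) : (u₁ ^ i * u₂ ^ j) ^ 5 = 1 := by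
  rw [(h.comm.pow_pow i j).mul_pow, ← pow_mul, ← pow_mul, mul_comm i, mul_comm j, pow_mul, pow_mul, h.p1,
    h.symm.p1, one_pow, one_pow, one_mul]

theorem mem_QQ (h : Pair u₁ u₂) {x : POmega F R} (hx : x ∈ QQ u₁ u₂) : ∃ i j : ℕ, x = pr (u₁ ^ i * u₂ ^ j) := by
  induction hx using Subgroup.closure_induction with
  | mem x hx =>
    rcases hx with rfl | rfl
    · exact ⟨1, 0, by simp⟩
    · exact ⟨0, 1, by simp only [_root_.pow_zero, _root_.pow_one, _root_.one_mul]⟩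
  | one => exact ⟨0, 0, by simp⟩
  | mul x y _ _ hx hy =>
    obtain ⟨i, j, rfl⟩ := hx
    obtain ⟨k, l, rfl⟩ := hy
    refine ⟨i + k, j + l, ?_⟩
    rw [← pr_mul, pow_add, pow_add, (h.comm.symm.pow_pow j k).symm.mul_mul_mul_comm]
  | inv x _ hx =>
    obtain ⟨i, j, rfl⟩ := hx
    refine ⟨i * 4, j * 4, ?_⟩
    rw [← pr_inv, pow_mul, pow_mul, ← (h.comm.pow_pow i j).mul_pow]
    congr 1
    exact inv_eq_of_mul_eq_one_left (by rw [← pow_succ, h.pow_five])

theorem u1_mem : pr u₁ ∈ QQ u₁ u₂ := Subgroup.subset_closure (Or.inl rfl)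
theorem u2_mem : pr u₂ ∈ QQ u₁ u₂ := Subgroup.subset_closure (Or.inr rfl)

/-- a lift of order five of an element of `Q` -/
theorem lift_QQ (h : Pair u₁ u₂) {x : Omega F R} (hx : x ^ 5 = 1) (hm : pr x ∈ QQ u₁ u₂) :
    ∃ i j : ℕ, x = u₁ ^ i * u₂ ^ j := by
  obtain ⟨i, j, e⟩ := h.mem_QQ hm
  exact ⟨i, j, h.eq_of_mk hx (h.pow_five i j) e⟩

theorem QQ_comm (h : Pair u₁ u₂) {c : POmega F R} (h1 : Commute c (pr u₁)) (h2 : Commute c (pr u₂)) :
    c ∈ Subgroup.centralizer (QQ u₁ u₂ : Set (POmega F R)) := by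
  rw [Subgroup.mem_centralizer_iff]
  intro x hx
  obtain ⟨i, j, rfl⟩ := h.mem_QQ hx
  rw [pr_mul, pr_pow, pr_pow]
  exact ((h1.pow_right i).mul_right (h2.pow_right j)).symm

theorem exists_fix (h : Pair u₁ u₂) : ∃ w : ι → F, w ≠ 0 ∧ mat u₁ *ᵥ w = w := by
  obtain ⟨w, hw, h0⟩ : ∃ w ∈ fx (mat u₁), w ≠ 0 := by
    apply Submodule.exists_mem_ne_zero_of_ne_bot
    intro h1
    have h2 := h.mp.fin1
    rw [h1, finrank_bot] at h2
    omega
  exact ⟨w, h0, mem_fx.1 hw⟩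

/-- an element of `⟨u₁, u₂⟩` with a fixed vector has support one -/
theorem one_sided (h : Pair u₁ u₂) {x : Omega F R} (hx : x ^ 5 = 1) (hm : pr x ∈ QQ u₁ u₂) {w : ι → F}
    (h0 : w ≠ 0) (hw : mat x *ᵥ w = w) : (∃ i : ℕ, x = u₁ ^ i) ∨ ∃ i : ℕ, x = u₂ ^ i := by
  obtain ⟨i, j, rfl⟩ := h.lift_QQ hx hm
  by_cases hi : 5 ∣ i
  · obtain ⟨k, rfl⟩ := hi
    exact Or.inr ⟨j, by rw [pow_mul, h.p1, one_pow, one_mul]⟩
  by_cases hj : 5 ∣ j
  · obtain ⟨k, rfl⟩ := hj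
    exact Or.inl ⟨i, by rw [pow_mul, h.symm.p1, one_pow, mul_one]⟩
  rw [mat_mul, mat_pow, mat_pow] at hw
  exact absurd (h.mp.fpf hi hj hw) h0

seal _root_.Finset.sum _root_.dotProduct in
theorem conj_one_sided (h : Pair u₁ u₂) {x t : Omega F R} (hx : x ^ 5 = 1) (hm : pr (t * x * t⁻¹) ∈ QQ u₁ u₂)
    {w : ι → F} (h0 : w ≠ 0) (hw : mat x *ᵥ w = w) :
    (∃ i : ℕ, t * x * t⁻¹ = u₁ ^ i) ∨ ∃ i : ℕ, t * x * t⁻¹ = u₂ ^ i := by
  refine h.one_sided (conj_five hx t) hm (w := mat t *ᵥ w) (fun h1 => h0 ?_) ?_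
  · have h2 := mat_inv_vec t⁻¹ w
    rw [inv_inv, h1, mulVec_zero] at h2
    exact h2.symm
  · rw [mulVec_mulVec, ← mat_mul, inv_mul_cancel_right, mat_mul, ← mulVec_mulVec, hw]

theorem not_both (h : Pair u₁ u₂) {t y : Omega F R} {w : ι → F} (h0 : w ≠ 0) (hw : mat y *ᵥ w = w) {i j : ℕ}
    (h1 : t * u₁ * t⁻¹ = y ^ i) (h2 : t * u₂ * t⁻¹ = y ^ j) : False := by
  have key : ∀ {u : Omega F R} {k : ℕ}, t * u * t⁻¹ = y ^ k → mat u *ᵥ (mat t⁻¹ *ᵥ w) = mat t⁻¹ *ᵥ w := by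
    intro u k hk
    have h3 : u * t⁻¹ = t⁻¹ * y ^ k := by rw [← hk]; group
    rw [mulVec_mulVec, ← mat_mul, h3, mat_mul, mat_pow, ← mulVec_mulVec, pow_mulVec_fix hw]
  have h3 := h.mp.disj (mem_fx.2 (key h2)) (key h1)
  have h4 := mat_inv_vec t w
  rw [h3, mulVec_zero] at h4
  exact h0 h4.symm

/-- **the normalizer** -/
theorem norm (h : Pair u₁ u₂) {t : Omega F R} (h1 : pr (t * u₁ * t⁻¹) ∈ QQ u₁ u₂)
    (h2 : pr (t * u₂ * t⁻¹) ∈ QQ u₁ u₂) : (∃ i j : ℕ, t * u₁ * t⁻¹ = u₁ ^ i ∧ t * u₂ * t⁻¹ = u₂ ^ j) ∨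
      ∃ i j : ℕ, t * u₁ * t⁻¹ = u₂ ^ i ∧ t * u₂ * t⁻¹ = u₁ ^ j := by
  obtain ⟨w₁, n1, f1⟩ := h.exists_fix
  obtain ⟨w₂, n2, f2⟩ := h.symm.exists_fix
  rcases h.conj_one_sided h.p1 h1 n1 f1 with ⟨i, hi⟩ | ⟨i, hi⟩ <;>
    rcases h.conj_one_sided h.symm.p1 h2 n2 f2 with ⟨j, hj⟩ | ⟨j, hj⟩
  · exact (h.not_both n1 f1 hi hj).elim
  · exact Or.inl ⟨i, j, hi, hj⟩
  · exact Or.inr ⟨i, j, hi, hj⟩
  · exact (h.not_both n2 f2 hi hj).elim

theorem pow_eight (h : Pair u₁ u₂) {t : Omega F R} (h1 : pr (t * u₁ * t⁻¹) ∈ QQ u₁ u₂)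
    (h2 : pr (t * u₂ * t⁻¹) ∈ QQ u₁ u₂) : Commute (t ^ 8) u₁ ∧ Commute (t ^ 8) u₂ := by
  rcases h.norm h1 h2 with ⟨i, j, hi, hj⟩ | ⟨i, j, hi, hj⟩
  · have e : t ^ 8 = (t ^ 4) ^ 2 := by rw [← pow_mul]
    rw [e]
    exact ⟨(conj_pow_four h.p1 h.ne1 hi).pow_left 2, (conj_pow_four h.symm.p1 h.symm.ne1 hj).pow_left 2⟩
  · have e : t ^ 8 = (t ^ 2) ^ 4 := by rw [← pow_mul]
    have key : ∀ {x y : Omega F R} {k l : ℕ}, t * x * t⁻¹ = y ^ k → t * y * t⁻¹ = x ^ l →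
        t ^ 2 * x * (t ^ 2)⁻¹ = x ^ (l * k) := by
      intro x y k l hk hl
      have h3 : t ^ 2 * x * (t ^ 2)⁻¹ = t * (t * x * t⁻¹) * t⁻¹ := by rw [pow_two]; group
      rw [h3, hk, ← conj_pow, hl, ← pow_mul]
    rw [e]
    exact ⟨conj_pow_four h.p1 h.ne1 (key hi hj), conj_pow_four h.symm.p1 h.symm.ne1 (key hj hi)⟩

end Pair

end Cfsg.Agent.TO.D4B
end

-- part: TO/D4B/Odd
section
/-!
# S4817, `PΩ₈⁺(q)`, `q ≡ ±2 (mod 5)`: involutions in the centralizers of elements of order five (helper92)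
-/

set_option autoImplicit false
set_option linter.unusedSectionVars false
set_option maxHeartbeats 400000

namespace Cfsg.Agent.TO.D4B

open Cfsg Matrix Module QuadraticMap
open Cfsg.Agent.ClassicalGeometry.Reflection Cfsg.Agent.H932

variable {ι : Type} [Fintype ι] [DecidableEq ι] {F : Type} [Field F] [Fintype F] {R : (ι → F) → F}

theorem det_toep (x y : F) :
    (!![-2 * x - 2 * y, x, y, y; x, -2 * x - 2 * y, x, y; y, x, -2 * x - 2 * y, x; y, y, x, -2 * x - 2 * y] :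
      Matrix (Fin 4) (Fin 4) F).det = 5 * (x ^ 2 + 3 * x * y + y ^ 2) ^ 2 := by
  simp only [Matrix.det_succ_row_zero, Fin.sum_univ_succ, Fin.succAbove, _root_.neg_mul, _root_.Matrix.det_succ_row_zero, _root_.Nat.succ_eq_add_one, _root_.Nat.reduceAdd, _root_.Fin.isValue, _root_.Matrix.of_apply, _root_.Matrix.cons_val', _root_.Matrix.cons_val_fin_one, _root_.Matrix.cons_val_zero, _root_.Matrix.submatrix_apply, _root_.Fin.succ_zero_eq_one, _root_.Fin.succAbove, _root_.Matrix.cons_val_one, _root_.Matrix.submatrix_submatrix, _root_.Function.comp_apply, _root_.Fin.succ_one_eq_two, _root_.Matrix.cons_val, _root_.Matrix.det_unique, _root_.Fin.default_eq_zero, _root_.Fin.reduceSucc, _root_.Fin.castSucc_zero, _root_.Fin.sum_univ_succ, _root_.Fin.coe_ofNat_eq_mod, _root_.Nat.zero_mod, _root_.pow_zero, _root_.one_mul, _root_.lt_self_iff_false, ↓ _root_.reduceIte, _root_.Fin.castSucc_one, _root_.Finset.univ_unique,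 _root_.Fin.val_succ, _root_.Fin.val_eq_zero, _root_.zero_add, _root_.pow_one, _root_.Fin.castSucc_succ, _root_.Fin.succ_pos, _root_.Finset.sum_neg_distrib, _root_.Finset.sum_singleton, _root_.not_lt_zero, _root_.Fin.reduceCastSucc, _root_.even_two, _root_.Even.neg_pow, _root_.one_pow, _root_.Fin.reduceLT, _root_.Matrix.cons_val_succ, _root_.Fin.lt_one_iff, _root_.Fin.reduceEq]
  ring

/-- the Gram matrix of a cyclic family -/
theorem gram_cy {Q : QuadraticForm F (ι → F)} {u : Omega F ⇑Q} (hu : u ^ 5 = 1) {w : ι → F}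
    (hw : nm (mat u) *ᵥ w = 0) : ∃ x y : F, Spinor.gram (⇑Q) (cy (mat u) w) =
      !![-2 * x - 2 * y, x, y, y; x, -2 * x - 2 * y, x, y; y, x, -2 * x - 2 * y, x; y, y, x, -2 * x - 2 * y] := by
  obtain ⟨β, hβ⟩ : ∃ β : ℕ → ℕ → F, ∀ i j, β i j = polarBilin Q (mat u ^ i *ᵥ w) (mat u ^ j *ᵥ w) :=
    ⟨_, fun _ _ => rfl⟩
  have hs : ∀ i j, β (i + 1) (j + 1) = β i j := by
    intro i j
    rw [hβ, hβ, pow_succ', pow_succ', ← mulVec_mulVec, ← mulVec_mulVec, iso]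
  have hc : ∀ i j, β i j = β j i := by
    intro i j
    rw [hβ, hβ]
    exact polar_comm _ _ _
  have h5 : ∀ i, β i 5 = β i 0 := by
    intro i
    rw [hβ, hβ, ← mat_pow u 5, hu, mat_one, pow_zero]
  have h0 : β 0 0 + β 0 1 + β 0 2 + β 0 3 + β 0 4 = 0 := by
    have h1 : polarBilin Q (mat u ^ 0 *ᵥ w) (nm (mat u) *ᵥ w) = 0 := by rw [hw, map_zero]
    unfold nm at h1
    simp only [add_mulVec, map_add] at h1
    rw [hβ, hβ, hβ, hβ, hβ, pow_one]
    simpa only [_root_.pow_zero, _root_.Matrix.one_mulVec, _root_.QuadraticMap.polarBilin_apply_apply, _root_.QuadraticMap.polar_self, _root_.nsmul_eq_mul, _root_.Nat.cast_ofNat] using h1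
  have h3 : β 0 3 = β 0 2 := by rw [← hs 0 3, ← hs 1 4, h5, hc]
  have h4 : β 0 4 = β 0 1 := by rw [← hs 0 4, h5, hc]
  have h00 : β 0 0 = -2 * β 0 1 - 2 * β 0 2 := by rw [h3, h4] at h0; linear_combination h0
  have e11 : β 1 1 = β 0 0 := hs 0 0
  have e22 : β 2 2 = β 0 0 := (hs 1 1).trans e11
  have e33 : β 3 3 = β 0 0 := (hs 2 2).trans e22
  have e12 : β 1 2 = β 0 1 := hs 0 1
  have e23 : β 2 3 = β 0 1 := (hs 1 2).trans e12
  have e13 : β 1 3 = β 0 2 := hs 0 2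
  refine ⟨β 0 1, β 0 2, ?_⟩
  ext i j
  change polarBilin Q (mat u ^ (i : ℕ) *ᵥ w) (mat u ^ (j : ℕ) *ᵥ w) = _
  rw [← hβ]
  fin_cases i <;> fin_cases j
  · exact h00
  · rfl
  · rfl
  · exact h3
  · exact hc 1 0
  · exact e11.trans h00
  · exact e12
  · exact e13
  · exact hc 2 0
  · exact (hc 2 1).trans e12
  · exact e22.trans h00
  · exact e23
  · exact (hc 3 0).trans h3
  · exact (hc 3 1).trans e13
  · exact (hc 3 2).trans e23
  · exact e33.trans h00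

theorem comm_refl {Q : QuadraticForm F (ι → F)} {a : ι → F} (ha : Q a ≠ 0) (g : isometryGroup F ⇑Q)
    (hg : Spinor.ac g a = a) : Commute g (reflIso Q a ha) := by
  classical
  apply isometryGroup_ext
  intro x
  change Spinor.ac (g * reflIso Q a ha) x = Spinor.ac (reflIso Q a ha * g) x
  have h1 := Spinor.polar_ac Q g a x
  rw [hg] at h1
  rw [Spinor.ac_mul, Spinor.ac_mul, Spinor.ac_reflIso, Spinor.ac_reflIso, h1, sub_eq_add_neg, Spinor.ac_add,
    ← neg_smul, Spinor.ac_smul, hg, neg_smul, ← sub_eq_add_neg]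

namespace Pair

variable {u₁ u₂ : Omega F R}

/-- an involution of `Ω` which commutes with a fixed point free element of order five is central -/
theorem inv_central (h : Pair u₁ u₂) (h2 : (2 : F) ≠ 0) {u e : Omega F R} (hu : u ^ 5 = 1)
    (hf : ∀ v, mat u *ᵥ v = v → v = 0) (he : e ^ 2 = 1) (hc : Commute e u) :
    e ∈ Subgroup.center (Omega F R) := by
  classical
  rw [h.cen]
  obtain ⟨Q, rfl, hQ, -⟩ := h.fm.ex
  have hu' : mat u ^ 5 = 1 := by rw [← mat_pow, hu, mat_one]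
  have hee : ∀ v, mat e *ᵥ (mat e *ᵥ v) = v := fun v => by
    rw [mulVec_mulVec, ← mat_mul, ← pow_two, he, mat_one, one_mulVec]
  obtain ⟨E, hE⟩ : ∃ E, E = Spinor.em e.1 := ⟨_, rfl⟩
  have hm : ∀ v, v ∈ E ↔ mat e *ᵥ v = -v := fun v => by rw [hE]; exact Iff.rfl
  have hinv : ∀ w ∈ E, mat u *ᵥ w ∈ E := by
    intro w hw
    rw [hm] at hw ⊢
    rw [mulVec_mulVec, (mat_comm hc).eq, ← mulVec_mulVec, hw, mulVec_neg]
  have hsub : ∀ v, v - mat e *ᵥ v ∈ E := fun v => by rw [hm, mulVec_sub, hee, neg_sub]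
  have h4 := four_dvd h.mp.q5 hu' E hinv fun w _ => hf w
  have h8 : finrank F E ≤ 8 := by
    have := Submodule.finrank_le E
    rwa [Module.finrank_fintype_fun_eq_card, h.mp.c8] at this
  have hcs : finrank F E = 0 ∨ finrank F E = 8 ∨ finrank F E = 4 := by omega
  rcases hcs with h0 | h0 | h0
  · left
    apply Matrix.mulVec_injective
    funext v
    have h1 := hsub v
    rw [Submodule.finrank_eq_zero.1 h0, Submodule.mem_bot, sub_eq_zero] at h1
    rw [one_mulVec, ← h1]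
  · right
    apply Matrix.mulVec_injective
    funext v
    have h1 : E = ⊤ := Submodule.eq_top_of_finrank_eq (by rw [Module.finrank_fintype_fun_eq_card, h.mp.c8, h0])
    rw [neg_mulVec, one_mulVec]
    exact (hm v).1 (h1 ▸ Submodule.mem_top)
  exfalso
  obtain ⟨w, hw, w0⟩ : ∃ w ∈ E, w ≠ 0 := by
    apply Submodule.exists_mem_ne_zero_of_ne_bot
    intro h1
    rw [h1, finrank_bot] at h0
    omega
  have hsp := span_cy h.mp.q5 hu' hinv (fun w _ => hf w) h0 hw w0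
  obtain ⟨x, y, hG⟩ := gram_cy hu (nm_zero hu' hinv (fun w _ => hf w) hw)
  have h5 := h.mp.q5.not_isSquare h2
  have hs : x ^ 2 + 3 * x * y + y ^ 2 ≠ 0 := by
    intro hs
    have hy : y = 0 := by
      by_contra hy
      refine h5 ⟨(2 * x + 3 * y) / y, ?_⟩
      field_simp
      linear_combination (-4) * hs
    have hx : x = 0 := by
      rw [hy] at hs
      simpa using hs
    have h6 : ∀ j, polarBilin Q w (cy (mat u) w j) = 0 := by
      intro j
      have h7 := congrFun (congrFun hG 0) j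
      have h8 : Spinor.gram (⇑Q) (cy (mat u) w) 0 j = polarBilin Q w (cy (mat u) w j) := by
        change polarBilin Q (mat u ^ 0 *ᵥ w) _ = _
        rw [pow_zero, one_mulVec]
      rw [← h8, h7, hx, hy]
      (revert j; simp only [_root_.Fin.forall_fin_succ, Fin.isValue, _root_.neg_mul, _root_.Matrix.of_apply, _root_.Matrix.cons_val', _root_.Matrix.cons_val_fin_one, _root_.Matrix.cons_val_zero, _root_.QuadraticMap.polarBilin_apply_apply, _root_.MulZeroClass.mul_zero, _root_.sub_self, _root_.implies_true, _root_.Matrix.cons_val_succ, _root_.Fin.succ_zero_eq_one, _root_.Fin.succ_one_eq_two, _root_.and_self])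
    have h7 : ∀ v ∈ E, polarBilin Q w v = 0 := by
      intro v hv
      rw [← hsp] at hv
      induction hv using Submodule.span_induction with
      | mem v hv => obtain ⟨j, rfl⟩ := hv; exact h6 j
      | zero => simp
      | add a b _ _ ha hb => rw [map_add, ha, hb, add_zero]
      | smul c a _ ha => rw [map_smul, ha, smul_zero]
    refine w0 (hQ.1 w fun v => ?_)
    have h9 : polarBilin Q w (v + mat e *ᵥ v) = 0 :=
      Spinor.polar_em_ep h2 Q (g := e.1) (hE ▸ hw) (by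
        change mat e *ᵥ (v + mat e *ᵥ v) = v + mat e *ᵥ v
        rw [mulVec_add, hee, add_comm])
    have h10 := h7 _ (hsub v)
    rw [map_sub] at h10
    rw [map_add] at h9
    have h11 : 2 * polarBilin Q w v = 0 := by linear_combination h9 + h10
    exact (mul_eq_zero.1 h11).resolve_left h2
  have hD : (Spinor.gram (⇑Q) (cy (mat u) w)).det = 5 * (x ^ 2 + 3 * x * y + y ^ 2) ^ 2 := by rw [hG, det_toep]
  have hee' : e.1 * e.1 = 1 := by
    have := congrArg Subtype.val he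
    rwa [pow_two] at this
  obtain ⟨-, r, hr⟩ := Spinor.isSquare_of_mem h2 Q hQ (by rw [h.mp.c8]; norm_num) e.1 ⟨e.1, e.2, rfl⟩ hee'
    (cy (mat u) w) (fun i => (hm _).1 (pow_mem hinv hw i))
    (by rw [hD]; exact mul_ne_zero h.mp.q5.five_ne (pow_ne_zero _ hs)) (by rw [← hE, h0])
  rw [hD] at hr
  generalize x ^ 2 + 3 * x * y + y ^ 2 = s at hs hr
  refine h5 ⟨r / s, ?_⟩
  field_simp
  linear_combination hr

/-- the centralizer of `Q` has odd exponent -/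
theorem odd_exp (h : Pair u₁ u₂) :
    ∃ m, Odd m ∧ ∀ c : Omega F R, Commute c u₁ → Commute c u₂ → pr c ^ m = 1 := by
  by_cases h2 : (2 : F) = 0
  · have h3 : Fintype.card F % 2 = 0 := FiniteField.even_card_iff_char_two.1 (by
      have : CharP F 2 := (CharP.charP_iff_prime_eq_zero Nat.prime_two).2 (by exact_mod_cast h2)
      exact ringChar.eq F 2)
    refine ⟨Fintype.card F ^ 2 + 1, Even.add_one (Nat.even_pow.2 ⟨Nat.even_iff.2 h3, by norm_num⟩),
      fun c h1 h4 => ?_⟩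
    rw [← pr_pow, h.cent_pow h1 h4]
    rfl
  · have hr : ringChar F ≠ 2 := fun h3 => h2 (by
      have := ringChar.spec F 2
      rw [h3] at this
      exact_mod_cast this.2 dvd_rfl)
    obtain ⟨k, hk⟩ : Odd (Fintype.card F) := Nat.odd_iff.2 (FiniteField.odd_card_of_char_ne_two hr)
    refine ⟨2 * (k ^ 2 + k) + 1, ⟨_, rfl⟩, fun c h1 h4 => ?_⟩
    rw [← pr_pow]
    refine (QuotientGroup.eq_one_iff _).2 (h.inv_central h2 (u := u₁ ^ 1 * u₂ ^ 1) (h.pow_five 1 1) (fun v hv => ?_) ?_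
      (((h1.pow_right 1).mul_right (h4.pow_right 1)).pow_left _))
    · rw [mat_mul, mat_pow, mat_pow] at hv
      exact h.mp.fpf (by norm_num) (by norm_num) hv
    · rw [← pow_mul, ← h.cent_pow h1 h4, hk]
      congr 1
      ring

/-- a non-central involution which commutes with `u₁` -/
theorem exists_inv (h : Pair u₁ u₂) (h2 : (2 : F) ≠ 0) :
    ∃ g : Omega F R, g ^ 2 = 1 ∧ Commute g u₁ ∧ g ∉ Subgroup.center (Omega F R) := by
  classical
  simp only [h.cen]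
  obtain ⟨Q, rfl, hQ, -⟩ := h.fm.ex
  obtain ⟨W, hW⟩ : ∃ W, W = fx (mat u₁) := ⟨_, rfl⟩
  have h4 : finrank F W = 4 := by rw [hW]; exact h.mp.fin1
  have hinv : Invertible (2 : F) := invertibleOfNonzero h2
  let B : LinearMap.BilinForm F W := (polarBilin Q).compl₁₂ W.subtype W.subtype
  have hB : ∀ x y : W, B x y = polarBilin Q (x : ι → F) y := fun x y => rfl
  have hsymm : LinearMap.IsSymm B := ⟨fun x y => by
    change B x y = B y x
    rw [hB, hB]
    exact polar_comm _ _ _⟩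
  obtain ⟨w, hw'⟩ := LinearMap.BilinForm.exists_orthogonal_basis (B := B) hsymm
  have hw : ∀ i j, i ≠ j → polarBilin Q (w i : ι → F) (w j) = 0 := fun i j hij => hw' hij
  have hort : ∀ (x : W), ∀ v ∈ fx (mat u₂), polarBilin Q (x : ι → F) v = 0 := fun x v hv =>
    h.mp.symm.orth (polarBilin Q) (iso u₂) (hW ▸ x.2) hv
  have hq : ∀ i, Q (w i) ≠ 0 := by
    intro i hi
    have h1 : ∀ j, B (w i) (w j) = 0 := by
      intro j
      by_cases hij : i = j
      · subst hij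
        rw [hB]
        change polar (⇑Q) _ _ = 0
        rw [polar_self', hi, mul_zero]
      · exact hw i j hij
    have h3 : B (w i) = 0 := w.ext fun j => h1 j
    refine w.ne_zero i (Subtype.ext (hQ.1 _ fun v => ?_))
    obtain ⟨v₁, m1, v₂, m2, rfl⟩ := h.mp.dec v
    rw [map_add, hort _ _ m1, zero_add]
    have h5 := hB (w i) ⟨v₂, hW ▸ m2⟩
    rw [h3] at h5
    exact h5.symm
  obtain ⟨i, j, hij, hsq⟩ : ∃ i j, i ≠ j ∧ (IsSquare (Q (w i) * Q (w j)) :) := by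
    have key : ∀ i j, quadraticChar F (Q (w i)) = quadraticChar F (Q (w j)) → IsSquare (Q (w i) * Q (w j)) := by
      intro i j e
      rw [← quadraticChar_one_iff_isSquare (mul_ne_zero (hq i) (hq j)), map_mul, e, ← pow_two,
        quadraticChar_sq_one (hq j)]
    let i0 : Fin (finrank F W) := ⟨0, by omega⟩
    let i1 : Fin (finrank F W) := ⟨1, by omega⟩
    let i2 : Fin (finrank F W) := ⟨2, by omega⟩
    have n01 : i0 ≠ i1 := fun e => absurd (congrArg Fin.val e) (by simp [i0, i1])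
    have n02 : i0 ≠ i2 := fun e => absurd (congrArg Fin.val e) (by simp [i0, i2])
    have n12 : i1 ≠ i2 := fun e => absurd (congrArg Fin.val e) (by simp [i1, i2])
    rcases quadraticChar_dichotomy (hq i0) with a | a <;> rcases quadraticChar_dichotomy (hq i1) with b | b <;>
      rcases quadraticChar_dichotomy (hq i2) with c | c <;>
      first
        | exact ⟨i0, i1, n01, key _ _ (a.trans b.symm)⟩
        | exact ⟨i0, i2, n02, key _ _ (a.trans c.symm)⟩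
        | exact ⟨i1, i2, n12, key _ _ (b.trans c.symm)⟩
  have hmem : reflIso Q (w i) (hq i) * reflIso Q (w j) (hq j) ∈ Omega F ⇑Q := by
    change _ ∈ commutator _
    rw [← Abelianization.ker_of, MonoidHom.mem_ker, map_mul,
      ClassicalGeometry.OmegaIndex.abelianization_of_reflIso_eq h2 Q (hq i) (hq j) hsq, ← map_mul,
      reflIso_mul_self, map_one]
  have hfix : ∀ (k : Fin (finrank F W)) (v : ι → F), polarBilin Q (w k : ι → F) v = 0 →
      Spinor.ac (reflIso Q (w k) (hq k)) v = v := fun k v hv =>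
    reflectionMatrix_mulVec_of_polar_eq_zero Q _ v hv
  have hu : ∀ k, Commute u₁.1 (reflIso Q (w k) (hq k)) := fun k =>
    comm_refl (hq k) u₁.1 (mem_fx.1 (hW ▸ (w k).2))
  have hcm : Commute (reflIso Q (w j) (hq j)) (reflIso Q (w i) (hq i)) :=
    comm_refl (hq i) _ (hfix j _ (hw j i hij.symm))
  have hac : ∀ v, mat (⟨_, hmem⟩ : Omega F ⇑Q) *ᵥ v =
      Spinor.ac (reflIso Q (w i) (hq i)) (Spinor.ac (reflIso Q (w j) (hq j)) v) := fun v => Spinor.ac_mul _ _ v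
  have hneg : ∀ v : ι → F, -v = v → v = 0 := by
    intro v hv
    have h5 : (2 : F) • v = 0 := by
      rw [two_smul]
      nth_rewrite 1 [← hv]
      exact neg_add_cancel v
    exact (smul_eq_zero.1 h5).resolve_left h2
  refine ⟨⟨_, hmem⟩, Subtype.ext ?_, Subtype.ext ((hu i).mul_right (hu j)).symm.eq, ?_⟩
  · change (reflIso Q (w i) (hq i) * reflIso Q (w j) (hq j)) ^ 2 = 1
    rw [hcm.symm.mul_pow, pow_two, pow_two, reflIso_mul_self, reflIso_mul_self, one_mul]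
  · rintro (e | e)
    · have h5 := hac (w i)
      rw [e, one_mulVec, hfix j _ (hw j i hij.symm)] at h5
      have h6 : Spinor.ac (reflIso Q (w i) (hq i)) (w i) = -(w i : ι → F) := reflectionMatrix_mulVec_self Q _ (hq i)
      rw [h6] at h5
      exact w.ne_zero i (Subtype.ext (hneg _ h5.symm))
    · obtain ⟨v, v0, hv⟩ := h.symm.exists_fix
      have h5 := hac v
      rw [e, neg_mulVec, one_mulVec, hfix j v (hort _ _ (mem_fx.2 hv)), hfix i v (hort _ _ (mem_fx.2 hv))] at h5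
      exact v0 (hneg _ h5)

/-- for odd `q` an automorphism of `Ω` does not move `u₁` to an element of support two -/
theorem aut_one_sided (h : Pair u₁ u₂) (h2 : (2 : F) ≠ 0) (β : MulAut (Omega F R)) (hm : pr (β u₁) ∈ QQ u₁ u₂) :
    (∃ i : ℕ, β u₁ = u₁ ^ i) ∨ ∃ i : ℕ, β u₁ = u₂ ^ i := by
  have h5 : β u₁ ^ 5 = 1 := by rw [← map_pow, h.p1, map_one]
  by_contra hn
  obtain ⟨g, g2, gc, gn⟩ := h.exists_inv h2
  have h1 := h.inv_central h2 (e := β g) h5 (fun v hv => by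
    by_contra h0
    exact hn (h.one_sided h5 hm h0 hv)) (by rw [← map_pow, g2, map_one]) (gc.map β)
  refine gn (Subgroup.mem_center_iff.2 fun x => β.injective ?_)
  rw [map_mul, map_mul]
  exact Subgroup.mem_center_iff.1 h1 (β x)

end Pair

end Cfsg.Agent.TO.D4B
end

-- part: TO/D4B/Lift
section
/-!
# Multiplier of order four: the square of an automorphism which lifts to a double cover (helper92)
-/

set_option autoImplicit false
set_option maxHeartbeats 400000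

namespace Cfsg.Agent.TO.D4B

open Cfsg Subgroup

/-- two lifts from a perfect group agree -/
theorem hom_unique {U G X : Type*} [Group U] [Group G] [Group X] (hU : commutator U = ⊤) {σ : G →* X}
    (hc : σ.ker ≤ center G) {f g : U →* G} (h : ∀ x, σ (f x) = σ (g x)) (x : U) : f x = g x := by
  have h1 : commutator U ≤ f.eqLocus g := by
    refine Subgroup.commutator_le.2 fun a _ b _ => ?_
    have key : ∀ y, ∃ z ∈ center G, f y = z * g y := fun y =>
      ⟨f y * (g y)⁻¹, hc (by rw [MonoidHom.mem_ker, map_mul, map_inv, h, mul_inv_cancel]), by group⟩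
    obtain ⟨z, hz, ha⟩ := key a
    obtain ⟨w, hw, hb⟩ := key b
    have hz' := Subgroup.mem_center_iff.1 hz
    have hw' := Subgroup.mem_center_iff.1 hw
    change f _ = g _
    rw [map_commutatorElement, map_commutatorElement, ha, hb, commutatorElement_def, commutatorElement_def]
    calc z * g a * (w * g b) * (z * g a)⁻¹ * (w * g b)⁻¹
        = z * (g a * (w * g b) * (g a)⁻¹) * z⁻¹ * (w * g b)⁻¹ := by group
      _ = g a * (w * g b) * (g a)⁻¹ * (w * g b)⁻¹ := by rw [← hz', mul_inv_cancel_right]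
      _ = (g a * w) * (g b * (g a)⁻¹ * (g b)⁻¹) * w⁻¹ := by group
      _ = w * (g a * (g b * (g a)⁻¹ * (g b)⁻¹)) * w⁻¹ := by rw [hw']; group
      _ = g a * g b * (g a)⁻¹ * (g b)⁻¹ := by rw [← hw', mul_inv_cancel_right]; group
  exact h1 (hU ▸ Subgroup.mem_top x)

theorem fix_of_card_two {U : Type*} [Group U] {K : Subgroup U} (hK : Nat.card K = 2) {f : U →* U}
    (hf : Function.Injective f) (hm : ∀ x ∈ K, f x ∈ K) {x : U} (hx : x ∈ K) : f x = x ∧ x * x = 1 := by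
  constructor
  · by_cases h1 : x = 1
    · rw [h1, map_one]
    · obtain ⟨y, -, hy⟩ := (Nat.card_eq_two_iff' (1 : K)).1 hK
      have h2 := hy ⟨x, hx⟩ (fun e => h1 (congrArg Subtype.val e))
      have h3 := hy ⟨f x, hm x hx⟩ (fun e => h1 (hf ((congrArg Subtype.val e).trans (map_one f).symm)))
      exact congrArg Subtype.val (h3.trans h2.symm)
  · have h1 := pow_card_eq_one' (x := (⟨x, hx⟩ : K))
    rw [hK, pow_two] at h1
    exact congrArg Subtype.val h1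

theorem card_ker_mul {U G : Type*} [Group U] [Group G] {f : U →* G} (hf : Function.Surjective f) :
    Nat.card f.ker * Nat.card G = Nat.card U := by
  rw [← Subgroup.card_mul_index f.ker, Subgroup.index_ker, MonoidHom.range_eq_top.2 hf, Subgroup.card_top]

universe u

/-- the lift of `α²` to the universal cover fixes the kernel pointwise -/
theorem exists_fix {X : Type u} [Group X] [Finite X] {A : Type*} [CommGroup A] (hA : HasSchurMultiplier X A)
    (h4 : Nat.card A = 4) {G : Type*} [Group G] [Finite G] {σ : G →* X} (hG : commutator G = ⊤)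
    (hs : Function.Surjective σ) (hc : σ.ker ≤ center G) (h2 : Nat.card σ.ker = 2) {α : MulAut X} {a : MulAut G}
    (h : ∀ g, σ (a g) = α (σ g)) : ∃ (U : Type u) (_ : Group U) (_ : Finite U) (ρ : U →* X) (γ : MulAut U),
      commutator U = ⊤ ∧ IsStemExtension ρ ∧ Nat.card ρ.ker = 4 ∧ (∀ x, ρ (γ x) = α (α (ρ x))) ∧
        ∀ z, ρ z = 1 → γ z = z := by
  have : Finite A := Nat.finite_of_card_ne_zero (by omega)
  have hX : commutator X = ⊤ := by
    have h1 : (commutator G).map σ = ⁅σ.range, σ.range⁆ := map_commutator_eq G σ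
    rw [hG, ← MonoidHom.range_eq_map, MonoidHom.range_eq_top.2 hs] at h1
    rw [commutator_def]; exact h1.symm
  obtain ⟨U, _, _, ρ, hρ, ⟨e⟩⟩ := hA.1
  have hU := H95.StemCover.perfect_of_stem hX hρ
  have hk : Nat.card ρ.ker = Nat.card A := Nat.card_congr e.toEquiv
  obtain ⟨φ, hφ, hφ'⟩ := H95.StemCover.exists_cover' hX hA ρ hρ hk hG σ hs hc
  have hker : (α.toMonoidHom.comp ρ).ker = ρ.ker := by
    ext x
    simp [MonoidHom.mem_ker]
  obtain ⟨τ, hτ, hτ'⟩ := H95.StemCover.exists_cover hX hA (α.toMonoidHom.comp ρ)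
    ⟨α.surjective.comp hρ.1, hker ▸ hρ.2.1, hker ▸ hρ.2.2⟩ (hker ▸ hk) ρ hρ
  have hτ2 : ∀ x, ρ (τ x) = α (ρ x) := hτ'
  have hinj : Function.Injective τ := Finite.injective_iff_surjective.2 hτ
  have hcomm : ∀ x, φ (τ x) = a (φ x) := fun x =>
    hom_unique hU hc (f := φ.comp τ) (g := a.toMonoidHom.comp φ) (fun y => by
      change σ (φ (τ y)) = σ (a (φ y))
      rw [hφ', hτ2, h, hφ']) x
  have hK : Nat.card φ.ker = 2 := by
    have h5 := card_ker_mul hφ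
    have h6 := card_ker_mul hs
    have h7 := card_ker_mul hρ.1
    rw [hk, h4] at h7
    rw [h2] at h6
    have h8 : 0 < Nat.card X := Nat.card_pos
    rw [← h6, ← h7] at h5
    have h9 : Nat.card φ.ker * 2 * Nat.card X = 4 * Nat.card X := by rw [← h5]; ring
    have := Nat.eq_of_mul_eq_mul_right h8 h9
    omega
  let τ' : MulAut U := MulEquiv.ofBijective τ ⟨hinj, hτ⟩
  refine ⟨U, inferInstance, inferInstance, ρ, τ' * τ', hU, hρ, hk.trans h4, fun x => ?_, fun z hz => ?_⟩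
  · change ρ (τ (τ x)) = _
    rw [hτ2, hτ2]
  · change τ (τ z) = z
    have h5 : a (φ z) = φ z := (fix_of_card_two h2 (f := a.toMonoidHom) a.injective (fun x hx => by
      change σ (a x) = 1
      rw [h, MonoidHom.mem_ker.1 hx, map_one]) (x := φ z) (by rw [MonoidHom.mem_ker, hφ', hz])).1
    have h6 : z⁻¹ * τ z ∈ φ.ker := by rw [MonoidHom.mem_ker, map_mul, map_inv, hcomm, h5, inv_mul_cancel]
    obtain ⟨h7, h8⟩ := fix_of_card_two hK hinj (fun x hx => by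
      rw [MonoidHom.mem_ker, hcomm, MonoidHom.mem_ker.1 hx, map_one]) h6
    have h9 : τ z = z * (z⁻¹ * τ z) := by group
    calc τ (τ z) = τ z * (z⁻¹ * τ z) := by rw [← h7, ← map_mul, ← h9]
      _ = z * ((z⁻¹ * τ z) * (z⁻¹ * τ z)) := by group
      _ = z := by rw [h8, mul_one]

/-- **`α²` lifts to every perfect central extension** -/
theorem lift_sq {X : Type u} [Group X] [Finite X] {A : Type*} [CommGroup A] (hA : HasSchurMultiplier X A)
    (h4 : Nat.card A = 4) {G : Type*} [Group G] [Finite G] {σ : G →* X} (hG : commutator G = ⊤)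
    (hs : Function.Surjective σ) (hc : σ.ker ≤ center G) (h2 : Nat.card σ.ker = 2) {α : MulAut X} {a : MulAut G}
    (h : ∀ g, σ (a g) = α (σ g)) {Γ : Type*} [Group Γ] [Finite Γ] {π : Γ →* X} (hΓ : commutator Γ = ⊤)
    (hπ : Function.Surjective π) (hπc : π.ker ≤ center Γ) : ∃ β : MulAut Γ, ∀ y, π (β y) = α (α (π y)) := by
  have : Finite A := Nat.finite_of_card_ne_zero (by omega)
  have hX : commutator X = ⊤ := by
    have h1 : (commutator G).map σ = ⁅σ.range, σ.range⁆ := map_commutator_eq G σ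
    rw [hG, ← MonoidHom.range_eq_map, MonoidHom.range_eq_top.2 hs] at h1
    rw [commutator_def]; exact h1.symm
  obtain ⟨U, _, _, ρ, γ, -, hρ, hk, h5, h6⟩ := exists_fix hA h4 hG hs hc h2 h
  obtain ⟨φ, hφ, hφ'⟩ := H95.StemCover.exists_cover' hX hA ρ hρ (hk.trans h4.symm) hΓ π hπ hπc
  have hle : φ.ker ≤ (φ.comp γ.toMonoidHom).ker := fun z hz => by
    change φ (γ z) = 1
    rw [h6 z (by rw [← hφ', MonoidHom.mem_ker.1 hz, map_one]), MonoidHom.mem_ker.1 hz]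
  let β := φ.liftOfSurjective hφ ⟨φ.comp γ.toMonoidHom, hle⟩
  have hβ : ∀ x, β (φ x) = φ (γ x) := fun x => φ.liftOfRightInverse_comp_apply _ _ ⟨φ.comp γ.toMonoidHom, hle⟩ x
  have hsurj : Function.Surjective β := fun y => by
    obtain ⟨x, rfl⟩ := hφ y
    exact ⟨φ (γ.symm x), by rw [hβ, MulEquiv.apply_symm_apply]⟩
  refine ⟨MulEquiv.ofBijective β ⟨Finite.injective_iff_surjective.2 hsurj, hsurj⟩, fun y => ?_⟩
  obtain ⟨x, rfl⟩ := hφ y
  change π (β (φ x)) = _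
  rw [hβ, hφ', hφ', h5]

end Cfsg.Agent.TO.D4B
end

-- part: TO/D4B/Com
section
/-!
# S4817, `PΩ₈⁺(q)`, `q ≡ ±2 (mod 5)`: the centre of the cover is not trivial (helper92)
-/

set_option autoImplicit false
set_option linter.unusedSectionVars false
set_option maxHeartbeats 400000

namespace Cfsg.Agent.TO.D4B

open Cfsg Pair
open Cfsg.Agent.BHZ.Nil (CentPP)

variable {ι : Type} [Fintype ι] [DecidableEq ι] {F : Type} [Field F] [Fintype F] {R : (ι → F) → F}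
  {G : Type} [Group G] [Finite G] {σ : G →* POmega F R} {M : Ideal AlgInt} {b : Set (IrrCharacter G)}
  {D : Subgroup G} {u₁ u₂ : Omega F R}

/-- the situation -/
structure Sit (σ : G →* POmega F R) (M : Ideal AlgInt) (b : Set (IrrCharacter G)) (D : Subgroup G)
    (u₁ u₂ : Omega F R) : Prop where
  H : Hyp 5 M b D σ
  P : Pair u₁ u₂
  eq : D.map σ = QQ u₁ u₂

namespace Sit

theorem cpp (S : Sit σ M b D u₁ u₂) : CentPP 5 σ := ⟨S.H.ker.le, by rw [S.H.ker]; exact S.H.zp⟩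

theorem mem_Ce (S : Sit σ M b D u₁ u₂) {g : G} (h1 : Commute (σ g) (pr u₁)) (h2 : Commute (σ g) (pr u₂)) :
    g ∈ Ce D := by
  have : Fact (Nat.Prime 5) := ⟨by norm_num⟩
  refine S.cpp.mem_centralizer (BHZ.Nil.isPGroup_defect S.H.hD) ?_
  rw [S.eq]
  exact S.P.QQ_comm h1 h2

theorem of_mem_Ce (S : Sit σ M b D u₁ u₂) {g : G} (hg : g ∈ Ce D) {c : Omega F R} (hc : pr c = σ g) :
    Commute c u₁ ∧ Commute c u₂ := by
  have h1 := BHZ.Nil.map_mem_centralizer (π := σ) hg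
  rw [S.eq, ← hc, Subgroup.mem_centralizer_iff] at h1
  exact ⟨S.P.comm_of_mk S.P.p1 (h1 _ u1_mem).symm, S.P.comm_of_mk S.P.symm.p1 (h1 _ u2_mem).symm⟩

theorem ab (S : Sit σ M b D u₁ u₂) : D ≤ Ce D := by
  intro d hd
  obtain ⟨i, j, e⟩ := S.P.mem_QQ (S.eq ▸ Subgroup.mem_map_of_mem σ hd)
  have h1 : Commute (pr u₁) (pr u₂) := congrArg pr S.P.comm
  refine S.mem_Ce ?_ ?_ <;> rw [e, pr_mul, pr_pow, pr_pow]
  · exact ((Commute.refl _).pow_left i).mul_left (h1.symm.pow_left j)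
  · exact (h1.pow_left i).mul_left ((Commute.refl _).pow_left j)

seal _root_.Finset.sum _root_.dotProduct in
theorem conj_mem (S : Sit σ M b D u₁ u₂) {t : G} (ht : ∀ x ∈ D, t * x * t⁻¹ ∈ D) {s : Omega F R}
    (hs : pr s = σ t) {u : Omega F R} (hu : pr u ∈ QQ u₁ u₂) : pr (s * u * s⁻¹) ∈ QQ u₁ u₂ := by
  rw [← S.eq] at hu ⊢
  obtain ⟨d, hd, e⟩ := hu
  refine ⟨t * d * t⁻¹, ht d hd, ?_⟩
  rw [map_mul, map_mul, map_inv, e, ← hs, pr_mul, pr_mul, pr_inv]

/-- some element of the inertia group inverts `D` -/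
theorem neg (S : Sit σ M b D u₁ u₂) (B : Blk) {θ : G → ℂ} (h : Can 5 M b D θ) :
    ∃ t ∈ In D θ, ∀ d ∈ D, t * d * t⁻¹ = d⁻¹ := by
  have : Fact (Nat.Prime 5) := ⟨by norm_num⟩
  refine B.neg G 5 M b D θ S.H.toTwo h (Or.inl fun t ht => ⟨3, ?_⟩)
  have ht' : ∀ x ∈ D, t * x * t⁻¹ ∈ D := fun x hx => (ht.1 x).2 hx
  obtain ⟨s, hs⟩ : ∃ s, pr s = σ t := QuotientGroup.mk_surjective _
  obtain ⟨h1, h2⟩ := S.P.pow_eight (S.conj_mem ht' hs u1_mem) (S.conj_mem ht' hs u2_mem)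
  have e : σ (t ^ 2 ^ 3) = pr (s ^ 8) := by rw [map_pow, ← hs, pr_pow]; norm_num
  refine S.mem_Ce ?_ ?_ <;> rw [e]
  · exact congrArg pr h1
  · exact congrArg pr h2

seal _root_.Finset.sum _root_.dotProduct in
/-- **the centre is not trivial** -/
theorem center_ne_bot (S : Sit σ M b D u₁ u₂) (B : Blk) : Subgroup.center G ≠ ⊥ := by
  intro hZ
  have : Fact (Nat.Prime 5) := ⟨by norm_num⟩
  have hinj : Function.Injective σ := (MonoidHom.ker_eq_bot_iff σ).1 (S.H.ker.trans hZ)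
  obtain ⟨θ, hθ⟩ := B.can0 G 5 M b D S.H.hM S.H.hb S.H.hD S.ab
  obtain ⟨t, ht, hti⟩ := S.neg B hθ
  obtain ⟨s, hs⟩ : ∃ s, pr s = σ t := QuotientGroup.mk_surjective _
  have hsi : ∀ u : Omega F R, u ^ 5 = 1 → pr u ∈ QQ u₁ u₂ → s * u * s⁻¹ = u⁻¹ := by
    intro u hu hm
    rw [← S.eq] at hm
    obtain ⟨d, hd, e⟩ := hm
    refine S.P.eq_of_mk (conj_five hu s) (by rw [inv_pow, hu, inv_one]) ?_
    rw [pr_mul, pr_mul, pr_inv, pr_inv, hs, ← e, ← map_inv, ← map_inv, ← map_mul, ← map_mul, hti d hd]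
  obtain ⟨m, hm, hm'⟩ := S.P.odd_exp
  have key : ∀ g ∈ Ce D, t * g * t⁻¹ = g⁻¹ ∧ g ^ m = 1 := by
    intro g hg
    obtain ⟨c, hc⟩ : ∃ c, pr c = σ g := QuotientGroup.mk_surjective _
    obtain ⟨h1, h2⟩ := S.of_mem_Ce hg hc
    constructor
    · apply hinj
      rw [map_mul, map_mul, map_inv, map_inv, ← hs, ← hc, ← pr_inv, ← pr_mul, ← pr_mul,
        S.P.inverts (hsi _ S.P.p1 u1_mem) (hsi _ S.P.symm.p1 u2_mem) h1 h2, pr_inv]
    · apply hinj
      rw [map_pow, ← hc, hm' c h1 h2, map_one]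
  have hab : IsMulCommutative (Ce D) := ⟨⟨fun x y => Subtype.ext (by
    have h1 := (key _ (mul_mem x.2 y.2)).1
    have h2 : t * (x * y) * t⁻¹ = (t * x * t⁻¹) * (t * y * t⁻¹) := by group
    rw [h2, (key _ x.2).1, (key _ y.2).1, ← mul_inv_rev, inv_inj] at h1
    exact h1.symm)⟩⟩
  obtain ⟨ω, hω⟩ := OddOrderCharacters.PrimeTI.exists_hom_of_comm hab hθ.irr
  refine B.np G 5 M b D S.H.toTwo S.H.perf ((B.can1 G 5 M b D θ hθ).prin fun c hc => ?_)
  have h1 : θ c = ω ⟨c, hc⟩ := congrFun hω ⟨c, hc⟩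
  have h2 : θ c⁻¹ = ω ⟨c, hc⟩⁻¹ := congrFun hω ⟨c, hc⟩⁻¹
  have h3 : θ (t * c * t⁻¹) = θ c := ht.2 c
  rw [(key c hc).1, h1, h2, map_inv, Units.val_inj] at h3
  have h4 : ω ⟨c, hc⟩ ^ m = 1 := by
    rw [← map_pow, show (⟨c, hc⟩ : Ce D) ^ m = 1 from Subtype.ext (key c hc).2, map_one]
  obtain ⟨k, rfl⟩ := hm
  have h5 : ω ⟨c, hc⟩ * ω ⟨c, hc⟩ = 1 := eq_inv_iff_mul_eq_one.1 h3.symm
  rw [pow_succ, pow_mul, pow_two, h5, one_pow, one_mul] at h4
  rw [h1, h4, Units.val_one]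

/-- multiplier of exponent two: the centre has order two -/
theorem card_ker (S : Sit σ M b D u₁ u₂) (B : Blk) {A : Type*} [CommGroup A]
    (hA : HasSchurMultiplier (POmega F R) A) (h2 : ∀ a : A, a ^ 2 = 1) : Nat.card σ.ker = 2 := by
  obtain ⟨f, hf⟩ := H95.StemCover.exists_surj_ker hA S.H.perf σ S.H.surj S.H.ker.le
  have hc : IsCyclic σ.ker := S.H.ker ▸ S.H.cyc
  have h1 : Nat.card σ.ker ∣ 2 := by
    rw [← IsCyclic.exponent_eq_card]
    refine Monoid.exponent_dvd_of_forall_pow_eq_one fun x => ?_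
    obtain ⟨a, rfl⟩ := hf x
    rw [← map_pow, h2, map_one]
  rcases (Nat.dvd_prime Nat.prime_two).1 h1 with h3 | h3
  · exact absurd (S.H.ker.symm.trans (Subgroup.card_eq_one.1 h3)) (S.center_ne_bot B)
  · exact h3

end Sit

end Cfsg.Agent.TO.D4B
end

-- part: TO/D4B/Main
section
/-!
# S4817: the boxes D4B and D4C (helper92)
-/

set_option autoImplicit false
set_option linter.unusedSectionVars false
set_option maxHeartbeats 400000

namespace Cfsg.Agent.TO.D4B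

open Cfsg Pair

variable {F : Type} [Field F] [Fintype F] {G : Type} [Group G] [Finite G] {σ : G →* POmega F (quadFormPlus 4 F)}
  {M : Ideal AlgInt} {b : Set (IrrCharacter G)} {D : Subgroup G}

theorem of_surv (H : Hyp 5 M b D σ) (h : SurvD F (Ind σ b) (D.map σ)) :
    ∃ (u₁ u₂ : Omega F (quadFormPlus 4 F)) (α : MulAut (POmega F (quadFormPlus 4 F))) (a : MulAut G),
      Sit σ M b D u₁ u₂ ∧ (∀ g, σ (a g) = α (σ g)) ∧ α (α (pr u₁)) ∈ QQ u₁ u₂ ∧ α (α (pr u₂)) ∈ QQ u₁ u₂ ∧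
        ∀ x, pr x = α (α (pr u₁)) → ((∃ i : ℕ, x = u₁ ^ i) ∨ ∃ i : ℕ, x = u₂ ^ i) → False := by
  obtain ⟨hq, u₁, u₂, p1, p2, z12, z21, r1, r2, hQ, α, ⟨a, -, ha⟩, hα, hj⟩ := h
  have hα' : ∀ x ∈ QQ u₁ u₂, α x ∈ QQ u₁ u₂ := fun x hx => by
    have h1 := (hα x).2 (hQ ▸ hx)
    rwa [hQ] at h1
  refine ⟨u₁, u₂, α, a, ⟨H, ⟨fm_plus, hq, by simp, ?_, ?_, z12, z21, r1, r2⟩, hQ⟩, ha,
    hα' _ (hα' _ u1_mem), hα' _ (hα' _ u2_mem), fun x hx hi => ?_⟩
  · rw [← mat_pow, p1, mat_one]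
  · rw [← mat_pow, p2, mat_one]
  · obtain ⟨h1, h2⟩ := hj 2 (by norm_num)
    have e : (α ^ (2 : ℤ)) (pr u₁) = pr x := by simp only [hx, zpow_two]; rfl
    rcases hi with ⟨i, rfl⟩ | ⟨i, rfl⟩
    · exact h1 (by
        change (α ^ (2 : ℤ)) (pr u₁) ∈ _
        simp only [e, pr_pow]
        exact Subgroup.npow_mem_zpowers _ i)
    · exact h2 (by
        change (α ^ (2 : ℤ)) (pr u₁) ∈ _
        simp only [e, pr_pow]
        exact Subgroup.npow_mem_zpowers _ i)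

theorem four_sq : ∀ a : Multiplicative (ZMod 2 × ZMod 2), a ^ 2 = 1 := by decide

theorem four_card : Nat.card (Multiplicative (ZMod 2 × ZMod 2)) = 4 := by simp

/-- **[D4B]** -/
theorem boxD4B (B : Blk) : BoxD4B := by
  intro F _ _ hodd G _ _ σ M b D H h
  obtain ⟨u₁, u₂, α, a, S, ha, m1, -, hn⟩ := of_surv H h
  have h2 : (2 : F) ≠ 0 := by
    intro h2
    have h3 : Fintype.card F % 2 = 0 := FiniteField.even_card_iff_char_two.1 (by
      have : CharP F 2 := (CharP.charP_iff_prime_eq_zero Nat.prime_two).2 (by exact_mod_cast h2)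
      exact ringChar.eq F 2)
    have := Nat.odd_iff.1 hodd
    omega
  have hA := S2097.result (F := F) rfl 4 le_rfl (by decide) (fun h3 => by
    rw [h3.2] at hodd
    exact absurd hodd (by decide))
  have hg : Nat.gcd 2 (Fintype.card F ^ 4 - 1) = 2 :=
    Nat.gcd_eq_left (Nat.Odd.sub_odd (hodd.pow (n := 4)) odd_one).two_dvd
  rw [hg] at hA
  obtain ⟨β, hβ⟩ := lift_sq hA four_card H.perf H.surj H.ker.le (S.card_ker B hA four_sq) ha
    (π := QuotientGroup.mk' (Subgroup.center (Omega F (quadFormPlus 4 F)))) S.P.fm.perf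
    (QuotientGroup.mk'_surjective _) (QuotientGroup.ker_mk' _).le
  have e : pr (β u₁) = α (α (pr u₁)) := hβ u₁
  exact hn _ e (S.P.aut_one_sided h2 β (e ▸ m1))

/-- **[D4C]** -/
theorem boxD4C (B : Blk) : BoxD4C := by
  intro F _ _ hev G _ _ σ M b D H h
  obtain ⟨u₁, u₂, α, a, S, ha, m1, m2, hn⟩ := of_surv H h
  by_cases hq : Fintype.card F = 2
  · have hA := S2098.result hq
    obtain ⟨U, _, _, ρ, γ, hU, hρ, hk, h5, h6⟩ :=
      exists_fix hA four_card H.perf H.surj H.ker.le (S.card_ker B hA four_sq) ha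
    obtain ⟨k, hk'⟩ := KFacts.Mult.OEightInner.inner hq hU hρ.1 hρ.2.1
      (IsPGroup.of_card (n := 2) hk) hk γ h6
    obtain ⟨s, hs⟩ : ∃ s, pr s = ρ k := QuotientGroup.mk_surjective _
    have e : ∀ u, pr (s * u * s⁻¹) = α (α (pr u)) := by
      intro u
      obtain ⟨x, hx⟩ := hρ.1 (pr u)
      simp_rw [← hx, ← h5 x, hk' x, map_mul ρ (k * x) (k⁻¹), map_mul ρ k x, map_inv ρ k, ← hs, hx, pr_mul (s * u) (s⁻¹), pr_mul s u, pr_inv s]
    refine hn _ (e u₁) ?_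
    rcases S.P.norm ((e u₁).symm ▸ m1) ((e u₂).symm ▸ m2) with ⟨i, -, hi, -⟩ | ⟨i, -, hi, -⟩
    · exact Or.inl ⟨i, hi⟩
    · exact Or.inr ⟨i, hi⟩
  · have hA := S2097.result (F := F) rfl 4 le_rfl (by decide) (fun h3 => hq h3.2)
    have hg : Nat.gcd 2 (Fintype.card F ^ 4 - 1) = 1 := by
      have h1 : 0 < Fintype.card F ^ 4 := pow_pos Fintype.card_pos 4
      have h2 : Even (Fintype.card F ^ 4) := Nat.even_pow.2 ⟨hev, by norm_num⟩
      exact Nat.coprime_two_left.2 (Nat.Even.sub_odd h1 h2 odd_one)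
    rw [hg] at hA
    have h1 := H95.StemCover.card_ker_dvd hA H.perf σ H.surj H.ker.le
    have h2 : Nat.card (Multiplicative (ZMod 1 × ZMod 1)) = 1 := by simp
    rw [h2, Nat.dvd_one] at h1
    exact S.center_ne_bot B (H.ker.symm.trans (Subgroup.card_eq_one.1 h1))

end Cfsg.Agent.TO.D4B
end

private theorem dce_c7d79d068fed : _root_.True := by
  try have : _root_.True := by simp only [_root_.Cfsg.Agent.AutOrth.Main.oe.congr_simp]
  try have : _root_.True := by simp only [_root_.Cfsg.Agent.TO.D4A.tr.eq_1]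
  try have : _root_.True := by simp only [_root_.Cfsg.Agent.TO.D4A.ep.eq_1]
  try have : _root_.True := by simp only [_root_.Cfsg.Agent.AutOrth.SemiSim.conjE.congr_simp]
  try have : _root_.True := by simp only [_root_.Cfsg.Agent.TO.D4A.rk.eq_1]
  try have : _root_.True := by simp only [_root_.Cfsg.Agent.TO.D4A.Z1.eq_1]
  exact _root_.True.intro
end

-- part: TO/X7F/Lin
section
prune_inst 0xa0504400532200000000800412001c13d70004200008040084a20b460f8a782809c22060f9200c048a0000850035004811100090424000000e000000011d05810800100451c10008800090800080000000000000000000000000000000051000200000000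
set_option linter.all false
open scoped Cfsg.Agent.FastGrp

/-!
# S4817, `F₄` at the prime seven: linear algebra and the lattice (helper3)
-/

set_option autoImplicit false
set_option linter.unusedSectionVars false
set_option linter.style.haveILetI false

namespace Cfsg.Agent.TO.X7F

open Matrix Module Cfsg.Agent.TO.X Cfsg.Agent.TO.X.Big

variable {p : ℕ} [hp : Fact p.Prime]

theorem scalar_or_zero (hd : 4 ∣ p + 1) {a : M2 (ZMod p)} {k : ℕ} (hk : a ^ 2 ^ k = 1) (t3 : (a ^ 3).trace = a.trace)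
    (t5 : (a ^ 5).trace = a.trace) : (∃ c : ZMod p, a = c • 1) ∨ a.trace = 0 := by
  have h2p := hp.out.two_le
  have h20 : (2 : ZMod p) ≠ 0 := by
    intro e
    have h1 : p ∣ 2 := (ZMod.natCast_eq_zero_iff 2 p).1 (by exact_mod_cast e)
    have h2 := Nat.le_of_dvd two_pos h1
    omega
  have h1 : a.det ^ 2 ^ k = 1 := by rw [← det_pow, hk, det_one]
  have hdet : a.det ≠ 0 := fun e => by
    rw [e, zero_pow (by positivity)] at h1
    exact zero_ne_one h1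
  have h3 := ZMod.pow_card_sub_one_eq_one hdet
  have h4 : a.det ^ 2 = 1 := by
    obtain ⟨m, hm⟩ : ∃ m, p - 1 = 2 * (2 * m + 1) := ⟨(p - 3) / 4, by omega⟩
    rw [hm, pow_mul] at h3
    refine (pow_eq_one_iff_of_coprime (Nat.Coprime.pow_left k (show Nat.Coprime 2 (2 * m + 1) by simp))).1 ⟨?_, h3⟩
    rw [← pow_mul, mul_comm, pow_mul, h1, one_pow]
  have c2 := ch a
  have t1 : (1 : M2 (ZMod p)).trace = 2 := by simp
  have e3 : a ^ 3 = (a.trace ^ 2 - a.det) • a - (a.trace * a.det) • (1 : M2 (ZMod p)) := by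
    rw [pow_succ, pow_two, c2, sub_mul, smul_mul_assoc, c2, smul_mul_assoc, one_mul]
    module
  have e5 : a ^ 5 = (a.trace ^ 4 - 3 * a.trace ^ 2 * a.det + a.det ^ 2) • a -
      (a.trace ^ 3 * a.det - 2 * a.trace * a.det ^ 2) • (1 : M2 (ZMod p)) := by
    rw [show a ^ 5 = a ^ 3 * (a * a) by rw [← pow_two, ← pow_add], e3, c2]
    simp only [sub_mul, mul_sub, smul_mul_assoc, mul_smul_comm, one_mul, mul_one, c2]
    module
  rw [e3, trace_sub, trace_smul, trace_smul, t1] at t3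
  rw [e5, trace_sub, trace_smul, trace_smul, t1] at t5
  simp only [smul_eq_mul] at t3 t5
  by_cases h0 : a.trace = 0
  · exact Or.inr h0
  left
  have h6 : a.trace ^ 2 = 1 + 3 * a.det := mul_left_cancel₀ h0 (by linear_combination t3)
  have h7 : a.trace ^ 4 - 5 * a.trace ^ 2 * a.det + 5 * a.det ^ 2 = 1 := mul_left_cancel₀ h0 (by linear_combination t5)
  rcases sq_eq_one_iff.1 h4 with h8 | h8
  · rw [h8] at h6
    refine ⟨a.trace / 2, eq_of_double (n := 2 ^ k) (by field_simp) ?_ (by exact_mod_cast pow_ne_zero k h20) hk⟩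
    rw [h8, div_pow, h6]
    have : (2 : ZMod p) ^ 2 ≠ 0 := pow_ne_zero _ h20
    field_simp
    norm_num
  · exfalso
    rw [h8] at h6 h7
    apply h20
    linear_combination (-1) * h7 + (a.trace ^ 2 + 3) * h6

variable {N : Type*} [Group N] [Finite N]

/-- a transitive group with rational traces on a subgroup of index at most two -/
theorem anti_idx {τ : N →* M2 (ZMod p)} (hd : 8 ∣ p + 1) (htr : Tr2 τ) (N' : Subgroup N)
    (hi : ∀ a b, a ∉ N' → b ∉ N' → a * b ∈ N') {n : ℕ} (hn : n ≠ 0)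
    (hR : ∀ h ∈ N', ∀ j : ℕ, j.Coprime n → (∀ a : (ZMod p)ˣ, a ^ j = a) → (τ (h ^ j)).trace = (τ h).trace) :
    ∃ a ∈ N', ∃ b ∈ N', τ (b * a) = -τ (a * b) := by
  classical
  haveI : Fact (Nat.Prime 2) := ⟨Nat.prime_two⟩
  obtain ⟨P⟩ : Nonempty (Sylow 2 N) := inferInstance
  have h2p := hp.out.two_le
  have key : ∀ h ∈ (P : Subgroup N), h ∈ N' → (∃ c : ZMod p, τ h = c • 1) ∨ (τ h).trace = 0 := by
    intro h hh hh'
    obtain ⟨k, hk⟩ := P.isPGroup' ⟨h, hh⟩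
    have hk' : h ^ 2 ^ k = 1 := congrArg Subtype.val hk
    have h1 : ∀ j, ¬ 2 ∣ j → (τ h ^ j).trace = (τ h).trace := fun j hj => by
      obtain ⟨j', h3, h4, h5⟩ := exists_exp (p := p) (e := (p - 1) / 2) Nat.prime_two (by omega)
        (Or.inr ⟨rfl, Dvd.intro 1 (by omega)⟩) hj k hn
      rw [← map_pow, pow_eq_pow_iff_modEq.2 (h3.symm.of_dvd (orderOf_dvd_of_pow_eq_one hk')), hR h hh' j' h4 h5]
    exact scalar_or_zero (dvd_trans (by norm_num) hd) (by rw [← map_pow, hk', map_one]) (h1 3 (by norm_num))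
      (h1 5 (by norm_num))
  have fin : ∀ a : N, (∀ h ∈ (P : Subgroup N), h ∈ N' → ∃ x ∈ ({1, a} : Finset N), ∃ c : ZMod p, τ h = c • τ x) → False := by
    intro a h2
    by_cases h3 : ∃ g ∈ (P : Subgroup N), g ∉ N'
    · obtain ⟨g, hg, hg'⟩ := h3
      have := le_of_cover htr P (a := 3) hd {1, a, g⁻¹, a * g⁻¹} fun h hh => by
        by_cases h4 : h ∈ N'
        · obtain ⟨x, hx, e⟩ := h2 h hh h4
          exact ⟨x, by simp only [Finset.mem_insert, Finset.mem_singleton] at hx ⊢; tauto, e⟩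
        · obtain ⟨x, hx, c, e⟩ := h2 (h * g) (mul_mem hh hg) (hi h g h4 hg')
          refine ⟨x * g⁻¹, ?_, c, by rw [← mul_inv_cancel_right h g, map_mul, e, map_mul, smul_mul_assoc]⟩
          simp only [Finset.mem_insert, Finset.mem_singleton] at hx ⊢
          rcases hx with rfl | rfl <;> simp
      have h5 : ({1, a, g⁻¹, a * g⁻¹} : Finset N).card ≤ 4 := Finset.card_le_four
      omega
    · have := le_of_cover htr P (a := 3) hd {1, a} fun h hh => h2 h hh (by_contra fun h4 => h3 ⟨h, hh, h4⟩)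
      have h5 : ({1, a} : Finset N).card ≤ 2 := Finset.card_le_two
      omega
  by_cases ha : ∃ a ∈ (P : Subgroup N), a ∈ N' ∧ ¬ ∃ c : ZMod p, τ a = c • 1
  swap
  · exact (fin 1 fun h hh hh' => ⟨1, by simp, by rw [map_one]; exact by_contra fun e => ha ⟨h, hh, hh', e⟩⟩).elim
  obtain ⟨a, ha, ha', ha1⟩ := ha
  by_cases hb : ∃ b ∈ (P : Subgroup N), b ∈ N' ∧ (¬ ∃ c : ZMod p, τ b = c • 1) ∧ ¬ ∃ c : ZMod p, τ b = c • τ a
  swap
  · refine (fin a fun h hh hh' => ?_).elim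
    by_cases h1 : ∃ c : ZMod p, τ h = c • 1
    · exact ⟨1, by simp, by rw [map_one]; exact h1⟩
    · exact ⟨a, by simp, by_contra fun h2 => hb ⟨h, hh, hh', h1, h2⟩⟩
  obtain ⟨b, hb, hb', hb1, hb2⟩ := hb
  have ta := (key a ha ha').resolve_left ha1
  have h2 := (key _ (mul_mem (inv_mem ha) hb) (mul_mem (inv_mem ha') hb')).resolve_left fun ⟨c, e⟩ =>
    hb2 ⟨c, by rw [← mul_inv_cancel_left a b, map_mul, e, mul_smul_comm, mul_one]⟩
  have h3 : τ a * τ b = (-(τ a).det) • τ (a⁻¹ * b) := by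
    have h4 := ch (τ a)
    rw [ta, zero_smul, zero_sub, ← neg_smul] at h4
    conv_lhs => rw [← mul_inv_cancel_left a b, map_mul, ← mul_assoc, h4, smul_mul_assoc, one_mul]
  exact ⟨a, ha', b, hb', by
    rw [map_mul, map_mul]
    exact anti ta ((key b hb hb').resolve_left hb1) (by rw [h3, trace_smul, h2, smul_zero])⟩

theorem anti_end {U : Type*} [AddCommGroup U] [Module (ZMod p) U] [FiniteDimensional (ZMod p) U]
    (h2 : finrank (ZMod p) U = 2) {ρ : N →* Module.End (ZMod p) U} (hd : 8 ∣ p + 1)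
    (htr : ∀ s s' : U, s ≠ 0 → s' ≠ 0 → ∃ h, s' = ρ h s) (N' : Subgroup N)
    (hi : ∀ a b, a ∉ N' → b ∉ N' → a * b ∈ N') {n : ℕ} (hn : n ≠ 0)
    (hR : ∀ h ∈ N', ∀ j : ℕ, j.Coprime n → (∀ a : (ZMod p)ˣ, a ^ j = a) →
      LinearMap.trace (ZMod p) U (ρ (h ^ j)) = LinearMap.trace (ZMod p) U (ρ h)) :
    ∃ a ∈ N', ∃ b ∈ N', ρ (b * a) = -ρ (a * b) := by
  classical
  let b := Module.finBasisOfFinrankEq (ZMod p) U h2
  let τ : N →* M2 (ZMod p) := (LinearMap.toMatrixAlgEquiv b).toMonoidHom.comp ρ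
  have hτ : ∀ h, τ h = LinearMap.toMatrix b b (ρ h) := fun _ => rfl
  have h1 : Tr2 τ := fun s s' h0 h0' => by
    obtain ⟨h, e⟩ := htr (b.equivFun.symm s) (b.equivFun.symm s') (fun e => h0 (b.equivFun.symm.map_eq_zero_iff.1 e))
      fun e => h0' (b.equivFun.symm.map_eq_zero_iff.1 e)
    refine ⟨h, 1, ?_⟩
    have e2 := LinearMap.toMatrix_mulVec_repr b b (ρ h) (b.equivFun.symm s)
    rw [← Basis.equivFun_apply, ← Basis.equivFun_apply, LinearEquiv.apply_symm_apply] at e2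
    rw [hτ, e2, ← e, LinearEquiv.apply_symm_apply, one_smul]
  obtain ⟨x, hx, y, hy, e⟩ := anti_idx hd h1 N' hi hn fun h hh j h3 h4 => by
    rw [hτ, hτ, ← LinearMap.trace_eq_matrix_trace, ← LinearMap.trace_eq_matrix_trace]
    exact hR h hh j h3 h4
  refine ⟨x, hx, y, hy, ?_⟩
  rwa [hτ, hτ, ← map_neg, (LinearMap.toMatrix b b).injective.eq_iff] at e

/-! ### the lattice -/

open Cfsg.Lie Cfsg.Agent.Nodes.RGDChev Cfsg.Agent.KZ.DatX Cfsg.Agent.KZ.Exc Cfsg.Agent.TO.X.Lat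

/-- the number of roots that vanish on a vector -/
def nv (a b c d : ℕ) : ℕ :=
  ((List.range 48).filter fun r =>
    (vec chevF4 4 r 0 * a + vec chevF4 4 r 1 * b + vec chevF4 4 r 2 * c + vec chevF4 4 r 3 * d) % 7 == 0).length

private noncomputable def nvF (a b c d : ℕ) (T : List (ℕ × ℕ × ℕ × ℕ)) : ℕ :=
  List.rec 0 (fun e _ ih => Prod.rec (fun x e => Prod.rec (fun y e => Prod.rec (fun z w =>
    @Bool.rec (fun _ => ℕ) ih (Nat.succ ih) (Nat.beq (Nat.mod (Nat.add (Nat.add (Nat.add (Nat.mul x a) (Nat.mul y b))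
      (Nat.mul z c)) (Nat.mul w d)) 7) 0)) e) e) e) T

private def nvT : List (ℕ × ℕ × ℕ × ℕ) := (fun q : ℕ → ℕ → ℕ → ℕ → ℕ × ℕ × ℕ × ℕ =>
  [q 5 3 4 5, q 5 3 4 6, q 5 3 5 6, q 5 4 5 6, q 5 5 5 6, q 5 5 6 6, q 5 5 6 0, q 6 4 5 6, q 6 5 5 6, q 6 5 6 6, q 6
    5 6 0, q 6 6 6 6, q 6 6 6 0, q 6 6 0 0, q 6 0 0 0, q 0 5 5 6, q 0 5 6 6, q 0 5 6 0, q 0 6 6 6, q 0 6 6 0, q 0 6
    0 0, q 0 0 6 6, q 0 0 6 0, q 0 0 0 6, q 0 0 0 1, q 0 0 1 0, q 0 0 1 1, q 0 1 0 0, q 0 1 1 0, q 0 1 1 1, q 0 2 1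
    0, q 0 2 1 1, q 0 2 2 1, q 1 0 0 0, q 1 1 0 0, q 1 1 1 0, q 1 1 1 1, q 1 2 1 0, q 1 2 1 1, q 1 2 2 1, q 1 3 2 1,
    q 2 2 1 0, q 2 2 1 1, q 2 2 2 1, q 2 3 2 1, q 2 4 2 1, q 2 4 3 1, q 2 4 3 2]) fun x y z w => (x, y, z, w)

private theorem nvF_eq (f g h k : ℕ → ℤ) (a b c d : ℕ) (L : List ℕ) :
    (L.filter fun r => (f r * a + g r * b + h r * c + k r * d) % 7 == 0).length =
      nvF a b c d (L.map fun r => ((f r % 7).toNat, (g r % 7).toNat, (h r % 7).toNat, (k r % 7).toNat)) := by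
  induction L with
  | nil => rfl
  | cons r L ih =>
    have e : ((f r * a + g r * b + h r * c + k r * d) % 7 == 0) = Nat.beq (((f r % 7).toNat * a + (g r % 7).toNat * b +
        (h r % 7).toNat * c + (k r % 7).toNat * d) % 7) 0 := by
      have t : ∀ x : ℤ, (((x % 7).toNat : ℕ) : ℤ) ≡ x [ZMOD 7] := fun x => by
        rw [Int.toNat_of_nonneg (Int.emod_nonneg x (by decide))]
        exact Int.mod_modEq x 7
      have u := ((((t (f r)).mul_right a).add ((t (g r)).mul_right b)).add ((t (h r)).mul_right c)).add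
        ((t (k r)).mul_right d)
      rw [Bool.eq_iff_iff, beq_iff_eq, Nat.beq_eq, ← u.eq]
      norm_cast
    show _ = @Bool.rec (fun _ => ℕ) (nvF a b c d _) (Nat.succ (nvF a b c d _)) (Nat.beq (((f r % 7).toNat * a +
      (g r % 7).toNat * b + (h r % 7).toNat * c + (k r % 7).toNat * d) % 7) 0)
    rw [List.filter_cons, e, ← ih]
    cases Nat.beq _ 0 <;> rfl

private theorem nv_eq (a b c d : ℕ) : nv a b c d = nvF a b c d nvT :=
  (nvF_eq _ _ _ _ a b c d _).trans (congrArg _ (by decide +kernel))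

theorem nv_le : ((List.range 7).all fun a => (List.range 7).all fun b => (List.range 7).all fun c =>
    (List.range 7).all fun d => (a + b + c + d == 0) || decide (nv a b c d ≤ 18)) = true := by
  simp only [nv_eq]
  decide +kernel

theorem card_RR : (RR chevF4 4).card = 48 := by
  rw [Finset.card_eq_sum_ones, sum_RR hpF4, Finset.sum_const, Finset.card_range]
  rfl

theorem zero_le [Fact (Nat.Prime 7)] {s : Fin 4 → ZMod 7} (hs : s ≠ 0) (T : Finset (RR chevF4 4))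
    (hT : ∀ α ∈ T, evm 7 (RR chevF4 4) α s = 0) : T.card ≤ 18 := by
  classical
  have h := nv_le
  simp only [List.all_eq_true, List.mem_range, Bool.or_eq_true, beq_iff_eq, decide_eq_true_eq] at h
  rcases h _ (ZMod.val_lt (s 0)) _ (ZMod.val_lt (s 1)) _ (ZMod.val_lt (s 2)) _ (ZMod.val_lt (s 3)) with h1 | h1
  · refine absurd (funext fun i => (ZMod.val_eq_zero _).1 ?_) hs
    fin_cases i
    · exact Nat.eq_zero_of_le_zero (show (s 0).val ≤ 0 by omega)
    · exact Nat.eq_zero_of_le_zero (show (s 1).val ≤ 0 by omega)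
    · exact Nat.eq_zero_of_le_zero (show (s 2).val ≤ 0 by omega)
    · exact Nat.eq_zero_of_le_zero (show (s 3).val ≤ 0 by omega)
  refine le_trans ?_ ((List.toFinset_card_le _).trans h1)
  choose f hf1 hf2 using fun α : RR chevF4 4 => mem_RR.1 α.2
  refine Finset.card_le_card_of_injOn f (fun α hα => ?_) fun α _ β _ e => Subtype.ext (by rw [← hf2, ← hf2, e])
  simp only [List.coe_toFinset, List.mem_filter, List.mem_range, beq_iff_eq, Set.mem_ofPred_eq]
  refine ⟨hf1 α, Int.emod_eq_zero_of_dvd ((ZMod.intCast_zmod_eq_zero_iff_dvd _ 7).1 ?_)⟩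
  have h2 := hT α hα
  rw [evm_eq, ← hf2, vl, Fin.sum_univ_four] at h2
  simpa using h2

theorem two_ne : (2 : ZMod 7) ≠ 0 := by decide

/-- a transitive eigenspace is a regular plane -/
theorem lat7 [Fact (Nat.Prime 7)] {B : Submodule (ZMod 7) (Fin 4 → ZMod 7)} {w : CoxeterMatrix.F₄.Group}
    {A₀ : Matrix (Fin 4) (Fin 4) ℤ} (h : Lt hpF4 [1, GamF] B w A₀) :
    finrank (ZMod 7) B = 2 ∧ ∀ a, X.Rt chevF4 4 a → ¬ ∀ s ∈ B, vl a s = 0 := by
  classical
  haveI := finite_W hpF4 CoxeterMatrix.F₄.toCoxeterSystem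
  have hR : Big.Rt (red 7 (wm hpF4)) (evm 7 (RR chevF4 4)) := rt_RR hpF4 kil_F4 (by norm_num)
  have h2 := h.two
  have hB : B ≠ ⊥ := by
    rintro rfl
    simp at h2
  obtain ⟨s0, hs0, hs0'⟩ := Submodule.exists_mem_ne_zero_of_ne_bot hB
  have hm := fun s hs hs' => van_eqP hR (h.trP (by norm_num)) hs0 (s' := s) hs hs0' hs'
  have h4 := points_dvd hm (by omega)
  have h5 := (out_nonempty hR hB).card_pos
  have hc : Fintype.card (RR chevF4 4) = 48 := by rw [Fintype.card_coe, card_RR]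
  have h6 : (out (evm 7 (RR chevF4 4)) B).card ≤ 48 := (Finset.card_le_univ _).trans hc.le
  have h3 : finrank (ZMod 7) B = 2 := by
    by_contra h3
    by_cases h8 : finrank (ZMod 7) B = 3
    · rw [h8] at h4
      omega
    · have h9 := Nat.le_of_dvd (by omega) h4
      have h10 : 7 ^ 4 ≤ 7 ^ finrank (ZMod 7) B := Nat.pow_le_pow_right (by omega) (by omega)
      omega
  refine ⟨h3, fun a ha => ?_⟩
  have h7 := cnt_two hm h3
  obtain ⟨r, hr⟩ := even_van (S := B) two_ne hR s0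
  have h8 := zero_le hs0' ((out (evm 7 (RR chevF4 4)) B)ᶜ ∪ van (evm 7 (RR chevF4 4)) B s0) fun α hα => by
    rcases Finset.mem_union.1 hα with h9 | h9
    · exact not_not.1 (mem_out.not.1 (Finset.mem_compl.1 h9)) s0 hs0
    · exact (mem_van.1 h9).2
  rw [Finset.card_union_of_disjoint (Finset.disjoint_left.2 fun α h9 h10 =>
    Finset.mem_compl.1 h9 (mem_out.2 (mem_van.1 h10).1)), Finset.card_compl, hc] at h8
  have h9 := Finset.eq_univ_of_card (out (evm 7 (RR chevF4 4)) B) (by omega)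
  exact mem_out.1 (h9 ▸ Finset.mem_univ (⟨a, mem_RR.2 ha⟩ : RR chevF4 4))

theorem gam_sM : ∀ i : Fin 4, GamF * sM chevF4 4 i = sM chevF4 4 (piF i) * GamF := by decide +kernel

theorem gam_sq : GamF * GamF = (2 : ℤ) • (1 : Matrix (Fin 4) (Fin 4) ℤ) := by decide +kernel

theorem gam_wm (w : CoxeterMatrix.F₄.Group) : ∃ w', GamF * wm hpF4 w = wm hpF4 w' * GamF := by
  obtain ⟨L, rfl⟩ := CoxeterMatrix.F₄.toCoxeterSystem.wordProd_surjective w
  induction L with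
  | nil => exact ⟨1, by rw [CoxeterSystem.wordProd_nil, map_one, mul_one, one_mul]⟩
  | cons i L ih =>
    obtain ⟨w', e⟩ := ih
    exact ⟨CoxeterMatrix.F₄.toCoxeterSystem.simple (piF i) * w', by
      rw [CoxeterSystem.wordProd_cons, map_mul, map_mul, wm_simple, wm_simple, ← mul_assoc, gam_sM, mul_assoc, e, mul_assoc]⟩

end Cfsg.Agent.TO.X7F
end

-- part: TO/E6/LatI
section
prune_inst 0xb1506544776202000018859633003c77b70004b0004b0400f5a20b4607cffc68a9c327616ba019168a5e1e4510350048111001c0424000000e003000411f05a180024000c3c9010ca60099801082000000000000000000000000000000051004200000000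
set_option linter.all false
open scoped Cfsg.Agent.FastGrp
private noncomputable def lq26aa9589f5c7 {T : Sort _} (f :
    (type_of% @_root_.List.cons.{0}) →
    (type_of% @_root_.Int.negSucc) →
    (type_of% @_root_.List.nil.{0}) →
    (type_of% @_root_.Int.ofNat) →
    ((List (List Int)) → (List (List Int))) → T) : T :=
  f (@_root_.List.cons.{0}) (@_root_.Int.negSucc) (@_root_.List.nil.{0}) (@_root_.Int.ofNat) (fun x => x)

-- part: TO/X/Stab
section
/-!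
# S4817, exceptional rows: a verified search for the matrices which permute the roots (helper51)

* `RA C l A` : `A` maps roots to roots (`a ᵥ* A`) and preserves the form `Gm C l`; `RA.Wm`, `RA.word`, `RA.mul`, `RA.neg`;
* `Sys`, `Sys.Ok` : the tables `sG2 sB2 sD4 sF4 sE6 sE7 sE8` (file `StabTab`);
* `stab`, `stabZ` : `A u = u'` modulo `p` for the pairs of a list; `nrm2` : `A` maps the plane spanned by `u`, `x` into itself.
  The conclusion: `A = S.mat l rs` and `leaf rs = true`, `rs` = the indices of the rows of `A`.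
-/

set_option autoImplicit false
set_option linter.unusedSectionVars false

namespace Cfsg.Agent.TO.X.Stab

open Cfsg Cfsg.Lie Matrix
open Cfsg.Agent.ChevalleyStructure.CoxeterGeom Cfsg.Agent.ChevalleyStructure.CoxeterGeomTypes
open Cfsg.Agent.Tits.Roots Cfsg.Agent.Nodes Cfsg.Agent.Nodes.RGDChev Cfsg.Agent.KZ.DatX

/-! ### matrices which permute the roots -/

/-- the roots -/
def IsRt (C : ChevalleyDatum) (l : ℕ) (a : Fin l → ℤ) : Prop := ∃ r < C.nroots, RGDChev.vec C l r = a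

/-- half the squared length of a simple root -/
def dl (C : ChevalleyDatum) (i : ℕ) : ℤ :=
  if C.nroots = 12 then (if i = 1 then 3 else 1) else if C.nroots = 8 then (if i = 1 then 2 else 1)
  else if C.nroots = 48 then (if 2 ≤ i then 2 else 1) else 1

/-- the invariant form on the root lattice -/
def Gm (C : ChevalleyDatum) (l : ℕ) : Matrix (Fin l) (Fin l) ℤ := Matrix.of fun i j => dl C i * cartanOf C l i j

/-- `A` maps roots to roots and preserves the form -/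
structure RA (C : ChevalleyDatum) (l : ℕ) (A : Matrix (Fin l) (Fin l) ℤ) : Prop where
  rt : ∀ a, IsRt C l a → IsRt C l (a ᵥ* A)
  fm : A * Gm C l * Aᵀ = Gm C l

variable {C : ChevalleyDatum} {l : ℕ} {M : CoxeterMatrix (Fin l)} {A B : Matrix (Fin l) (Fin l) ℤ}

private noncomputable def _root_.Cfsg.Agent.LsF.f921deb_0 : {f // @Cfsg.Agent.TO.X.Stab.dl = f} := ⟨_, by first | (delta Cfsg.Agent.TO.X.Stab.dl; rewrite [Cfsg.Agent.LsF.instDecEq_eq, Cfsg.Agent.LsF.decLe_eq, Cfsg.Agent.LsF.ite_eq]; exact rfl) | exact rfl⟩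
private noncomputable def _root_.Cfsg.Agent.LsF.f921deb_1 : {f // @Cfsg.Lie.ChevalleyDatum.cartan = f} := ⟨_, by first | (delta Cfsg.Lie.ChevalleyDatum.cartan; rewrite [Cfsg.Agent.LsF.agetD_eq]; exact rfl) | exact rfl⟩
private noncomputable def _root_.Cfsg.Agent.LsF.f921deb_2 : {f // @Cfsg.Lie.ChevalleyDatum.simple = f} := ⟨_, by first | (delta Cfsg.Lie.ChevalleyDatum.simple; rewrite [Cfsg.Agent.LsF.agetD_eq]; exact rfl) | exact rfl⟩
private noncomputable def _root_.Cfsg.Agent.LsF.f921deb_3 : {f // @Cfsg.Agent.ChevalleyStructure.CoxeterGeomTypes.cartanOf = f} := ⟨_, by first | (delta Cfsg.Agent.ChevalleyStructure.CoxeterGeomTypes.cartanOf; rewrite [Cfsg.Agent.LsF.f921deb_1.2, Cfsg.Agent.LsF.f921deb_2.2]; exact rfl) | exact rfl⟩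
theorem Gm_symm (hp : IsType C l M) : (Gm C l)ᵀ = Gm C l := by
  have h : ∀ x ∈ typeList, ∀ i j : Fin x.2.1, dl x.1 j * cartanOf x.1 x.2.1 j i = dl x.1 i * cartanOf x.1 x.2.1 i j := by
    intro x hx
    simp only [typeList, List.mem_cons, List.not_mem_nil, or_false] at hx
    rcases hx with rfl | rfl | rfl | rfl | rfl | rfl | rfl <;> dsimp only <;> (refine of_decide_eq_true ?_; (try rewrite [Cfsg.Agent.LsF.f921deb_0.2]); (try rewrite [Cfsg.Agent.LsF.f921deb_3.2]); (try rewrite [Cfsg.Agent.LsF.imul_pat]); (try rewrite [Cfsg.Agent.LsF.instIDecEq_eq]); (try rewrite [Cfsg.Agent.LsF.dForallFin_eq]); (try rewrite [Cfsg.Agent.LsF.decide_eq]); decide +kernel)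
  ext i j
  exact h _ hp i j

theorem RA.one : RA C l 1 := ⟨fun a h => by rwa [vecMul_one], by rw [one_mul, transpose_one, mul_one]⟩

theorem RA.mul (h : RA C l A) (h' : RA C l B) : RA C l (A * B) :=
  ⟨fun a ha => by rw [← vecMul_vecMul]; exact h'.rt _ (h.rt a ha), by
    rw [transpose_mul, mul_assoc A B, mul_assoc A, ← mul_assoc _ Bᵀ, h'.fm, ← mul_assoc, h.fm]⟩

theorem RA.pow (h : RA C l A) : ∀ n : ℕ, RA C l (A ^ n)
  | 0 => by rw [pow_zero]; exact RA.one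
  | n + 1 => by rw [pow_succ]; exact (RA.pow h n).mul h

theorem IsRt.neg (hp : IsType C l M) {a : Fin l → ℤ} (h : IsRt C l a) : IsRt C l (-a) := by
  obtain ⟨r, hr, rfl⟩ := h
  exact ⟨C.neg r, ChevalleyStructure.NPerm.neg_lt hp.inList hr, vec_neg hp hr⟩

theorem IsRt.sr (hp : IsType C l M) (i : Fin l) : IsRt C l (sr i) :=
  (isRoot_iff hp M.toCoxeterSystem _).1 (isRoot_sr _ _ i)

theorem RA.neg (hp : IsType C l M) (h : RA C l A) : RA C l (-A) :=
  ⟨fun a ha => by rw [vecMul_neg]; exact (h.rt a ha).neg hp, by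
    rw [transpose_neg, neg_mul, neg_mul_neg, h.fm]⟩

theorem sM_eq (i : Fin l) : sM C l i = 1 - vecMulVec (cartanOf C l i) (sr i) := by
  ext a b
  simp only [sM, Matrix.of_apply, Matrix.sub_apply, Matrix.one_apply, vecMulVec_apply, Tits.Roots.sr, Pi.single_apply,
    mul_ite, mul_one, mul_zero]

theorem RA.sM (hp : IsType C l M) (i : Fin l) : RA C l (sM C l i) := by
  refine ⟨fun a ha => ?_, ?_⟩
  · obtain ⟨r, hr, rfl⟩ := ha
    have h1 := rep_vec hp M.toCoxeterSystem i hr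
    rw [rep_simple_eq] at h1
    refine ⟨_, ChevalleyStructure.NPerm.reflectRoot_lt hp.inList (lt_rank hp i) hr, h1.symm.trans ?_⟩
    rw [sM_eq, vecMul_sub, vecMul_one, vecMul_vecMulVec, dotProduct_comm]
    rfl
  · have h1 : Tits.Roots.sr i ᵥ* Gm C l = dl C i • cartanOf C l i := by
      rw [Tits.Roots.sr, single_one_vecMul]
      rfl
    have h2 : Gm C l *ᵥ Tits.Roots.sr i = dl C i • cartanOf C l i := by rw [← h1, ← vecMul_transpose, Gm_symm hp]
    have h3 : cartanOf C l i ⬝ᵥ Tits.Roots.sr i = 2 := by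
      rw [Tits.Roots.sr, dotProduct_single, mul_one]
      exact hp.isCartan.diag i
    rw [sM_eq, transpose_sub, transpose_one, transpose_vecMulVec, sub_mul, one_mul, vecMulVec_mul, h1, mul_sub, mul_one,
      sub_mul, mul_vecMulVec, h2, vecMulVec_mul, vecMul_vecMulVec, smul_dotProduct, h3]
    ext a b
    simp only [Matrix.sub_apply, vecMulVec_apply, Pi.smul_apply, smul_eq_mul]
    ring

theorem RA.word (hp : IsType C l M) : ∀ L : List (Fin l), RA C l (L.map (KZ.DatX.sM C l)).prod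
  | [] => RA.one
  | i :: L => by rw [List.map_cons, List.prod_cons]; exact (RA.sM hp i).mul (RA.word hp L)

theorem RA.Wm {hp : IsType C l M} {p : ℕ} [Fact p.Prime] {k : Type} [Field k] [CharP k p] [IsAlgClosed k]
    {Mx : Matrix (Fin l) (Fin l) ℤ} (X : XF hp p k Mx) (w : X.D.W) : RA C l (X.D.Wm w) := by
  obtain ⟨L, -, h⟩ := X.exists_word w
  exact h ▸ RA.word hp L

theorem RA.row (hp : IsType C l M) (h : RA C l A) (i : Fin l) : IsRt C l (A i) := by
  have h1 := h.rt _ (IsRt.sr hp i)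
  rwa [Tits.Roots.sr, single_one_vecMul] at h1

theorem RA.form (h : RA C l A) (i j : Fin l) : A i ᵥ* Gm C l ⬝ᵥ A j = Gm C l i j := by
  rw [← congrFun (congrFun h.fm i) j]
  rfl

/-! ### loops for the kernel -/

/-- evaluate `x` first -/
noncomputable def frc (x : ℕ) (f : ℕ → Bool) : Bool := Nat.rec (f 0) (fun m _ => f m) (Nat.add x 1)

theorem frc_eq (x : ℕ) (f : ℕ → Bool) : frc x f = f x := rfl

/-- evaluate the list first -/
noncomputable def frcL (L : List ℕ) : (List ℕ → Bool) → Bool :=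
  List.rec (fun f => f []) (fun a _ ih f => frc a fun a' => ih fun L' => f (a' :: L')) L

theorem frcL_eq : ∀ (L : List ℕ) (f : List ℕ → Bool), frcL L f = f L
  | [], _ => rfl
  | a :: L, f => (frc_eq a fun a' => frcL L fun L' => f (a' :: L')).trans (frcL_eq L fun L' => f (a :: L'))

/-- all numbers below `n` -/
noncomputable def allN (n : ℕ) (f : ℕ → Bool) : Bool := Nat.rec true (fun m ih => f m && ih) n

theorem allN_spec {f : ℕ → Bool} : ∀ {n : ℕ}, allN n f = true → ∀ i < n, f i = true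
  | 0, _, _, h => absurd h (Nat.not_lt_zero _)
  | n + 1, h, i, hi => by
    have h1 : (f n && allN n f) = true := h
    rw [Bool.and_eq_true] at h1
    rcases Nat.lt_succ_iff_lt_or_eq.1 hi with h2 | rfl
    · exact allN_spec h1.2 i h2
    · exact h1.1

/-- all members of a list, with their positions -/
noncomputable def allI {α : Type} (f : α → ℕ → Bool) (L : List α) : ℕ → Bool :=
  List.rec (fun _ => true) (fun a _ ih r => f a r && frc (Nat.succ r) ih) L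

theorem allI_spec {α : Type} {f : α → ℕ → Bool} (d : α) : ∀ {L : List α} {r : ℕ}, allI f L r = true →
    ∀ j < L.length, f (L.getD j d) (r + j) = true
  | [], _, _, _, h => absurd h (Nat.not_lt_zero _)
  | a :: L, r, h, j, hj => by
    have h1 : (f a r && frc (r + 1) (allI f L)) = true := h
    rw [Bool.and_eq_true, frc_eq] at h1
    cases j with
    | zero => exact h1.1
    | succ j =>
      have h2 := allI_spec d h1.2 j (Nat.lt_of_succ_lt_succ hj)
      rwa [Nat.add_right_comm] at h2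

/-- the first argument only changes the hash of the term -/
def slt {α : Type} (_ : α) (x : ℕ) : ℕ := x

/-- the exponent of a power of two below `2 ^ 256` -/
def lg (z : ℕ) : ℕ := Nat.land 255 (Nat.shiftRight
  0x8687f3884af49989544b60f5089ab78aef55594c00612af60e09c19b35b87d8bcdf05d56be5a754d42007862182ba6f7ac0f500a3ec2249cc63645b9927e678cd8ce00f1975eb55728bf7b5b7376a44e22436500b379a263a0191b2ceaa71df800ad2e108351ec0bca3fa9c3d5251f9dfdc7fa37e24600ba3a93af7fde68308de5d912cf6c0085f24998535f07b6ee5800290dc0347ccc5cbd74417717a5ab4f3d23c5449166d70096b4277a72a32164b2a19f1ae91cff2d82ebc9a8d41efcf9e10039aedd2fe4116b84485206ed000c33cbbc4016aa3cc490d695267120b19ee8fe81c8d3fbe038dce36a47050032bb153b8f9470b0e780d2dfdb690431148e6fe6d1da03136ed0026d010000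
  (Nat.mul 8 (Nat.mod z 269)))

/-- all bits of a number -/
noncomputable def loop (f : ℕ → Bool) (N : ℕ) : ℕ → Bool :=
  Nat.rec (fun x => Nat.beq x 0)
    (fun _ ih x0 => frc x0 fun x => Nat.rec true
      (fun _ _ => frc (lg (slt ih (Nat.gcd x 0x10000000000000000000000000000000000000000000000000000000000000000))) fun b =>
        f b && ih (slt ih (Nat.xor x (Nat.shiftLeft 1 b)))) x) N

theorem loop_spec {f : ℕ → Bool} : ∀ {N x : ℕ}, loop f N x = true → ∀ s, x.testBit s = true → f s = true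
  | 0, x, h, s, hs => by
    rw [Nat.eq_of_beq_eq_true (show Nat.beq x 0 = true from h), Nat.zero_testBit] at hs
    exact absurd hs Bool.false_ne_true
  | N + 1, 0, _, s, hs => by
    rw [Nat.zero_testBit] at hs
    exact absurd hs Bool.false_ne_true
  | N + 1, m + 1, h, s, hs => by
    obtain ⟨b, h1⟩ : ∃ b, (f b && loop f N ((m + 1) ^^^ (1 <<< b))) = true := ⟨_, h⟩
    rw [Bool.and_eq_true] at h1
    by_cases e : b = s
    · exact e ▸ h1.1
    · refine loop_spec h1.2 s ?_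
      rw [Nat.testBit_xor, hs, Nat.one_shiftLeft, Nat.testBit_two_pow_of_ne e]
      rfl

/-- a list as a vector -/
def tv (l : ℕ) (a : List ℤ) : Fin l → ℤ := fun i => a.getD i 0

/-- a list as a vector modulo `p` -/
def tz (p l : ℕ) (a : List ℤ) : Fin l → ZMod p := fun i => (a.getD i 0 : ℤ)

/-- the scalar product of lists -/
noncomputable def dot (a : List ℤ) : List ℤ → ℤ :=
  List.rec (fun _ => 0) (fun x _ ih b => List.rec 0 (fun y t _ => Int.add (Int.mul x y) (ih t)) b) a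

theorem dot_eq : ∀ (l : ℕ) (a b : List ℤ), a.length = l → dot a b = tv l a ⬝ᵥ tv l b
  | 0, [], _, _ => by simp [dot, dotProduct]
  | l + 1, x :: a, [], _ => by simp [dot, dotProduct, tv]
  | l + 1, x :: a, y :: b, h => by
    have h1 : dot (x :: a) (y :: b) = x * y + dot a b := rfl
    rw [h1, dot_eq l a b (Nat.succ.inj h), dotProduct, dotProduct, Fin.sum_univ_succ]
    rfl

/-! ### the tables -/

/-- the tables of a type -/
structure Sys where
  n : ℕ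
  k : ℕ
  G : List (List ℤ)
  css : List (List ℕ)
  NM : List ℕ
  RL : List (List ℤ)
  GR : List (List ℤ)
  TT : ℕ

namespace Sys

variable (S : Sys)

/-- the tables are correct -/
structure Ok (C : ChevalleyDatum) (l : ℕ) : Prop where
  hn : S.n = C.nroots
  len : S.RL.length = S.n
  rl : ∀ r < S.n, (S.RL.getD r []).length = l ∧ tv l (S.RL.getD r []) = RGDChev.vec C l r
  tt : ∀ r < S.n, ∀ s < S.n, ∀ c < S.k, RGDChev.vec C l r ᵥ* Gm C l ⬝ᵥ RGDChev.vec C l s = -(c : ℤ) →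
    S.TT.testBit (S.n * (S.k * r + c) + s) = true
  nm : ∀ i : Fin l, ∀ r < S.n, RGDChev.vec C l r ᵥ* Gm C l ⬝ᵥ RGDChev.vec C l r = Gm C l i i →
    (S.NM.getD i 0).testBit r = true
  css : ∀ i : Fin l, ∀ x ∈ (S.css.getD i []).zip (List.range i).reverse, x.1 < S.k ∧ ∃ j : Fin l, j.1 = x.2 ∧
    Gm C l j i = -(x.1 : ℤ)

/-- the check of the large table, rows `GR` with the first index `r0` -/
noncomputable def chkT (GR : List (List ℤ)) (r0 : ℕ) : Bool :=
  allI (fun g r => allI (fun b s => Int.rec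
    (fun m => Nat.rec (S.TT.testBit (Nat.add (Nat.mul S.n (Nat.mul S.k r)) s)) (fun _ _ => true) m)
    (fun m => Nat.ble S.k (Nat.succ m) || S.TT.testBit (Nat.add (Nat.mul S.n (Nat.add (Nat.mul S.k r) (Nat.succ m))) s))
    (dot g b)) S.RL 0) GR r0

/-- the small checks -/
def Sm (C : ChevalleyDatum) (l : ℕ) : Prop :=
  S.n = C.nroots ∧ S.RL.length = S.n ∧ S.GR = S.RL.map (fun a => S.G.map (dot a)) ∧ S.G.length = l ∧
  (∀ i j : Fin l, (S.G.getD j []).getD i 0 = Gm C l i j) ∧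
  allI (fun a r => decide (a.length = l ∧ ∀ i : Fin l, a.getD i 0 = RGDChev.vec C l r i)) S.RL 0 = true ∧
  (∀ i : Fin l, allI (fun a r => decide (dot (S.G.map (dot a)) a = Gm C l i i → (S.NM.getD i 0).testBit r = true))
    S.RL 0 = true) ∧
  ∀ i : Fin l, ∀ x ∈ (S.css.getD i []).zip (List.range i).reverse, x.1 < S.k ∧ ∃ j : Fin l, j.1 = x.2 ∧
    Gm C l j i = -(x.1 : ℤ)

variable {S}

theorem ok_of (h : S.Sm C l) (ht : S.chkT S.GR 0 = true) : S.Ok C l := by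
  obtain ⟨h1, h2, h3, h4, h5, h6, h7, h8⟩ := h
  have rl : ∀ r < S.n, (S.RL.getD r []).length = l ∧ tv l (S.RL.getD r []) = RGDChev.vec C l r := fun r hr => by
    have h9 := allI_spec [] h6 r (h2 ▸ hr)
    rw [zero_add, decide_eq_true_iff] at h9
    exact ⟨h9.1, funext h9.2⟩
  have gl : ∀ r < S.n, ∀ b, dot (S.G.map (dot (S.RL.getD r []))) b = RGDChev.vec C l r ᵥ* Gm C l ⬝ᵥ tv l b :=
    fun r hr b => by
      rw [dot_eq l _ _ (by rw [List.length_map, h4])]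
      congr 1
      funext j
      have hj : j.1 < S.G.length := h4 ▸ j.2
      rw [tv, List.getD_eq_getElem _ _ (by rwa [List.length_map]), List.getElem_map, dot_eq l _ _ (rl r hr).1,
        (rl r hr).2, ← List.getD_eq_getElem _ [] hj]
      exact congrArg _ (funext fun i => h5 i j)
  refine ⟨h1, h2, rl, fun r hr s hs c hc e => ?_, fun i r hr e => ?_, h8⟩
  · have h9 := allI_spec [] (allI_spec [] ht r (by rw [h3, List.length_map, h2]; exact hr)) s (h2 ▸ hs)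
    have h10 : S.GR.getD r [] = S.G.map (dot (S.RL.getD r [])) := by
      have h11 : r < S.RL.length := h2 ▸ hr
      rw [h3, List.getD_eq_getElem _ _ (by rwa [List.length_map]), List.getElem_map, ← List.getD_eq_getElem _ [] h11]
    rw [h10, gl r hr, (rl s hs).2, e, zero_add, zero_add] at h9
    cases c with
    | zero => exact h9
    | succ c =>
      have h11 : (Nat.ble S.k (c + 1) || S.TT.testBit (S.n * (S.k * r + (c + 1)) + s)) = true := h9
      rw [Bool.or_eq_true, Nat.ble_eq] at h11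
      exact h11.resolve_left (by omega)
  · have h9 := allI_spec [] (h7 i) r (h2 ▸ hr)
    rw [zero_add, decide_eq_true_iff, gl r hr, (rl r hr).2] at h9
    exact h9 e

variable (S)

/-- the matrix with the rows `rs` -/
def mat (l : ℕ) (rs : List ℕ) : Matrix (Fin l) (Fin l) ℤ := Matrix.of fun i => tv l (S.RL.getD (rs.getD i 0) [])

/-- the candidates which have the right products with the rows already chosen -/
noncomputable def inter (cs : List ℕ) : List ℕ → ℕ → ℕ :=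
  List.rec (fun _ x => x) (fun c _ ih rs x => List.rec x
    (fun r t _ => Nat.land (ih t x) (Nat.shiftRight S.TT (Nat.mul S.n (Nat.add (Nat.mul S.k r) c)))) rs) cs

/-- the search -/
noncomputable def srch (leaf : List ℕ → Bool) (xs : List ℕ) : List (List ℕ) → List ℕ → Bool :=
  List.rec (fun _ rs => frcL rs.reverse leaf) (fun x _ ih css rs => List.rec false
    (fun cs t _ => loop (fun r => ih t (r :: rs)) S.n (S.inter cs rs x)) css) xs

variable {S}

theorem inter_spec {s x : ℕ} (hx : x.testBit s = true) : ∀ (cs rs : List ℕ),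
    (∀ y ∈ cs.zip rs, S.TT.testBit (S.n * (S.k * y.2 + y.1) + s) = true) → (S.inter cs rs x).testBit s = true
  | [], _, _ => hx
  | _ :: _, [], _ => hx
  | c :: cs, r :: rs, h => by
    have h1 : S.inter (c :: cs) (r :: rs) x = S.inter cs rs x &&& S.TT >>> (S.n * (S.k * r + c)) := rfl
    rw [h1, Nat.testBit_and, inter_spec hx cs rs fun y hy => h y (List.mem_cons_of_mem _ hy), Nat.testBit_shiftRight,
      h (c, r) List.mem_cons_self]
    rfl

theorem srch_spec {leaf : List ℕ → Bool} (ρ : ℕ → ℕ) : ∀ (xs : List ℕ) (css : List (List ℕ)) (i : ℕ),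
    (∀ j < xs.length, (xs.getD j 0).testBit (ρ (i + j)) = true ∧
      ∀ y ∈ (css.getD j []).zip ((List.range (i + j)).reverse.map ρ),
        S.TT.testBit (S.n * (S.k * y.2 + y.1) + ρ (i + j)) = true) →
    S.srch leaf xs css ((List.range i).reverse.map ρ) = true → leaf ((List.range (i + xs.length)).map ρ) = true
  | [], _, i, _, h => by
    have h1 : frcL ((List.range i).reverse.map ρ).reverse leaf = true := h
    rwa [frcL_eq, ← List.map_reverse, List.reverse_reverse] at h1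
  | _ :: _, [], _, _, h => absurd h Bool.false_ne_true
  | x :: xs, cs :: css, i, h0, h => by
    have h1 : loop (fun r => S.srch leaf xs css (r :: (List.range i).reverse.map ρ)) S.n
      (S.inter cs ((List.range i).reverse.map ρ) x) = true := h
    obtain ⟨h2, h3⟩ := h0 0 (Nat.succ_pos _)
    have h4 := loop_spec h1 (ρ i) (inter_spec h2 _ _ h3)
    have h5 : ρ i :: (List.range i).reverse.map ρ = (List.range (i + 1)).reverse.map ρ := by
      rw [List.range_succ, List.reverse_append]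
      rfl
    rw [h5] at h4
    have h6 := srch_spec ρ xs css (i + 1) (fun j hj => by
      have h7 := h0 (j + 1) (Nat.succ_lt_succ hj)
      rwa [← Nat.add_assoc, Nat.add_right_comm] at h7) h4
    rwa [Nat.add_right_comm] at h6

/-- **the search with arbitrary candidate sets** `x i` (bit sets of root indices) -/
theorem core (hS : S.Ok C l) (hp : IsType C l M) (hA : RA C l A) (x : ℕ → ℕ)
    (hx : ∀ i : Fin l, ∀ r < S.n, RGDChev.vec C l r = A i → (S.NM.getD i 0).testBit r = true → (x i).testBit r = true)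
    {leaf : List ℕ → Bool} (h : frcL ((List.range l).map x) (fun xs => S.srch leaf xs S.css []) = true) :
    ∃ rs, A = S.mat l rs ∧ leaf rs = true := by
  choose f h1 h2 using fun i => hA.row hp i
  let ρ : ℕ → ℕ := fun i => if h : i < l then f ⟨i, h⟩ else 0
  have h3 : ∀ i : Fin l, ρ i = f i := fun i => dif_pos i.2
  have h4 : ∀ i, f i < S.n := fun i => hS.hn ▸ h1 i
  rw [frcL_eq] at h
  have h5 := srch_spec ρ _ S.css 0 (fun j hj => ?_) h
  · rw [List.length_map, List.length_range, zero_add] at h5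
    refine ⟨_, ?_, h5⟩
    ext i : 1
    have h6 : ((List.range l).map ρ).getD i 0 = f i := by
      rw [List.getD_eq_getElem _ _ (by simp), List.getElem_map, List.getElem_range, h3]
    rw [← h2 i, ← (hS.rl _ (h4 i)).2, ← h6]
    rfl
  · rw [List.length_map, List.length_range] at hj
    rw [zero_add, List.getD_eq_getElem _ _ (by simpa using hj), List.getElem_map, List.getElem_range,
      show ρ j = f ⟨j, hj⟩ from h3 ⟨j, hj⟩]
    refine ⟨hx ⟨j, hj⟩ _ (h4 _) (h2 _) (hS.nm ⟨j, hj⟩ _ (h4 _) (by rw [h2, hA.form])), fun y hy => ?_⟩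
    rw [List.zip_map_right, List.mem_map] at hy
    obtain ⟨z, hz, rfl⟩ := hy
    obtain ⟨h6, j', h7, h8⟩ := hS.css ⟨j, hj⟩ z hz
    show S.TT.testBit (S.n * (S.k * ρ z.2 + z.1) + _) = true
    rw [← h7, h3]
    exact hS.tt _ (h4 _) _ (h4 _) _ h6 (by rw [h2, h2, hA.form, h8])

/-! ### colourings -/

variable (S)

/-- the table of the colour classes of `u` modulo `p` -/
noncomputable def tbA (p : ℕ) (u : List ℤ) (L : List (List ℤ)) : ℕ → ℕ :=
  List.rec (fun _ => 0) (fun a _ ih r =>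
    Nat.lor (Nat.shiftLeft 1 (Nat.add (Nat.mul S.n (Int.emod (dot a u) (Int.ofNat p)).toNat) r)) (ih (Nat.succ r))) L

/-- the table of the colour classes of `u` modulo `p` -/
noncomputable def tb (p : ℕ) (u : List ℤ) : ℕ := S.tbA p u S.RL 0

/-- the candidates for the row `i` -/
noncomputable def cand (p : ℕ) (ts : List (ℕ × List ℤ)) (i : ℕ) : ℕ :=
  List.rec (S.NM.getD i 0) (fun e _ ih =>
    Nat.land ih (Nat.shiftRight e.1 (Nat.mul S.n (Int.emod (e.2.getD i 0) (Int.ofNat p)).toNat))) ts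

/-- the search, given the tables -/
noncomputable def go (l p : ℕ) (ts : List (ℕ × List ℤ)) (leaf : List ℕ → Bool) : Bool :=
  frcL ((List.range l).map (S.cand p ts)) fun xs => S.srch leaf xs S.css []

/-- the search for the matrices with `A u = u'` modulo `p` for all pairs of the list -/
noncomputable def run (l p : ℕ) (us : List (List ℤ × List ℤ)) (leaf : List ℕ → Bool) : Bool :=
  frcL (us.map fun e => S.tb p e.1) fun tl => S.go l p (tl.zip (us.map Prod.snd)) leaf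

variable {S}

theorem tbA_spec (p : ℕ) (u : List ℤ) : ∀ (L : List (List ℤ)) (r j : ℕ), j < L.length →
    (S.tbA p u L r).testBit (S.n * (dot (L.getD j []) u % p).toNat + (r + j)) = true
  | [], _, _, h => absurd h (Nat.not_lt_zero _)
  | a :: L, r, j, h => by
    have h1 : S.tbA p u (a :: L) r = 1 <<< (S.n * (dot a u % p).toNat + r) ||| S.tbA p u L (r + 1) := rfl
    rw [h1, Nat.testBit_or, Bool.or_eq_true]
    cases j with
    | zero =>
      left
      rw [Nat.one_shiftLeft]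
      exact Nat.testBit_two_pow_self
    | succ j =>
      right
      have h2 := tbA_spec p u L (r + 1) j (Nat.lt_of_succ_lt_succ h)
      rwa [Nat.add_right_comm r] at h2

theorem go_spec (hS : S.Ok C l) (hp : IsType C l M) (hA : RA C l A) {p : ℕ} {ts : List (ℕ × List ℤ)}
    (ht : ∀ e ∈ ts, ∃ u, e.1 = S.tb p u ∧ ∀ i, (A *ᵥ tv l u) i ≡ tv l e.2 i [ZMOD p]) {leaf : List ℕ → Bool}
    (h : S.go l p ts leaf = true) : ∃ rs, A = S.mat l rs ∧ leaf rs = true := by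
  refine core hS hp hA _ (fun i r hr e h0 => ?_) h
  clear h
  induction ts with
  | nil => exact h0
  | cons t ts ih =>
    have h1 : S.cand p (t :: ts) i = S.cand p ts i &&& t.1 >>> (S.n * (t.2.getD i 0 % p).toNat) := rfl
    obtain ⟨u, h2, h3⟩ := ht t List.mem_cons_self
    have h4 := tbA_spec (S := S) p u S.RL 0 r (hS.len ▸ hr)
    have h5 : A i ⬝ᵥ tv l u % p = t.2.getD i 0 % p := h3 i
    rw [dot_eq l _ _ (hS.rl r hr).1, (hS.rl r hr).2, e, h5, zero_add] at h4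
    rw [h1, Nat.testBit_and, ih fun e he => ht e (List.mem_cons_of_mem _ he), Nat.testBit_shiftRight, h2]
    exact h4

end Sys

open Sys

variable {S : Sys}

theorem modEq_of_tz {p : ℕ} {u v : List ℤ} (h : A.map (Int.cast : ℤ → ZMod p) *ᵥ tz p l u = tz p l v) (i : Fin l) :
    (A *ᵥ tv l u) i ≡ tv l v i [ZMOD p] := by
  rw [← ZMod.intCast_eq_intCast_iff]
  refine Eq.trans ?_ (congrFun h i)
  simp only [mulVec, dotProduct, Int.cast_sum, Int.cast_mul, Matrix.map_apply]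
  rfl

/-- **matrices with prescribed images modulo `p`** -/
theorem stab (hS : S.Ok C l) (hp : IsType C l M) (hA : RA C l A) (p : ℕ) (us : List (List ℤ × List ℤ))
    (h : ∀ e ∈ us, ∀ i, (A *ᵥ tv l e.1) i ≡ tv l e.2 i [ZMOD p]) {leaf : List ℕ → Bool}
    (hs : S.run l p us leaf = true) : ∃ rs, A = S.mat l rs ∧ leaf rs = true := by
  rw [Sys.run, frcL_eq, List.zip_map'] at hs
  refine go_spec hS hp hA (fun e he => ?_) hs
  obtain ⟨x, hx, rfl⟩ := List.mem_map.1 he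
  exact ⟨x.1, rfl, h x hx⟩

/-- the same over `ZMod p` -/
theorem stabZ (hS : S.Ok C l) (hp : IsType C l M) (hA : RA C l A) (p : ℕ) (us : List (List ℤ × List ℤ))
    (h : ∀ e ∈ us, A.map (Int.cast : ℤ → ZMod p) *ᵥ tz p l e.1 = tz p l e.2) {leaf : List ℕ → Bool}
    (hs : S.run l p us leaf = true) : ∃ rs, A = S.mat l rs ∧ leaf rs = true :=
  stab hS hp hA p us (fun e he => modEq_of_tz (h e he)) hs

end Cfsg.Agent.TO.X.Stab
end

-- part: TO/X/StabTab
section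
/-!
# The tables for the search `TO.X.Stab` (generated by notes/TO/stab/gen.py)
-/

set_option autoImplicit false
set_option maxRecDepth 100000
set_option Elab.async false
set_option backward.isDefEq.respectTransparency false

namespace Cfsg.Agent.TO.X.Stab

open Cfsg Cfsg.Lie

/-- the tables of type E6 -/
def sE6 : Sys where
  n := 72
  k := 2
  G := (beta% delta% lq26aa9589f5c7 fun vqc0 vqc1 vqc2 vqc3 _ =>
      (vqc0 (vqc0 (vqc3 2) (vqc0 (vqc3 0) (vqc0 (vqc1 0) (vqc0 (vqc3 0) (vqc0 (vqc3 0) (vqc0 (vqc3 0) vqc2)))))) (vqc0 (vqc0 (vqc3 0) (vqc0 (vqc3 2) (vqc0 (vqc3 0) (vqc0 (vqc1 0) (vqc0 (vqc3 0) (vqc0 (vqc3 0) vqc2)))))) (vqc0 (vqc0 (vqc1 0) (vqc0 (vqc3 0) (vqc0 (vqc3 2) (vqc0 (vqc1 0) (vqc0 (vqc3 0) (vqc0 (vqc3 0) vqc2)))))) (vqc0 (vqc0 (vqc3 0) (vqc0 (vqc1 0) (vqc0 (vqc1 0) (vqc0 (vqc3 2) (vqc0 (vqc1 0) (vqc0 (vqc3 0) vqc2)))))) (vqc0 (vqc0 (vqc3 0) (vqc0 (vqc3 0) (vqc0 (vqc3 0) (vqc0 (vqc1 0) (vqc0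 (vqc3 2) (vqc0 (vqc1 0) vqc2)))))) (vqc0 (vqc0 (vqc3 0) (vqc0 (vqc3 0) (vqc0 (vqc3 0) (vqc0 (vqc3 0) (vqc0 (vqc1 0) (vqc0 (vqc3 2) vqc2)))))) vqc2)))))))
  css := (beta% delta% lq26aa9589f5c7 fun vqc0 _ vqc2 _ _ =>
      (vqc0 vqc2 (vqc0 (vqc0 0 vqc2) (vqc0 (vqc0 0 (vqc0 1 vqc2)) (vqc0 (vqc0 1 (vqc0 1 (vqc0 0 vqc2))) (vqc0 (vqc0 1 (vqc0 0 (vqc0 0 (vqc0 0 vqc2)))) (vqc0 (vqc0 1 (vqc0 0 (vqc0 0 (vqc0 0 (vqc0 0 vqc2))))) vqc2)))))))
  NM := [0xffffffffffffffffff, 0xffffffffffffffffff, 0xffffffffffffffffff, 0xffffffffffffffffff, 0xffffffffffffffffff, 0xffffffffffffffffff]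
  RL := (beta% delta% lq26aa9589f5c7 fun vqc0 vqc1 vqc2 vqc3 vqc4 =>
      (let vqy1 : type_of% (vqc4 _) := (let vqy2 : type_of% (vqc4 _) := (let vqy3 : type_of% (vqc4 _) := (let vqy4 : type_of% (vqc4 _) := (vqc0 (vqc0 (vqc3 1) (vqc0 (vqc3 1) (vqc0 (vqc3 2) (vqc0 (vqc3 2) (vqc0 (vqc3 1) (vqc0 (vqc3 0) vqc2)))))) (vqc0 (vqc0 (vqc3 1) (vqc0 (vqc3 1) (vqc0 (vqc3 2) (vqc0 (vqc3 2) (vqc0 (vqc3 1) (vqc0 (vqc3 1) vqc2)))))) (vqc0 (vqc0 (vqc3 1) (vqc0 (vqc3 1) (vqc0 (vqc3 2) (vqc0 (vqc3 2) (vqc0 (vqc3 2) (vqc0 (vqc3 1) vqc2)))))) (vqc0 (vqc0 (vqc3 1) (vqc0 (vqc3 1) (vqc0 (vqc3 2) (vqc0 (vqc3 3) (vqc0 (vqc3 2) (vqc0 (vqc3 1) vqc2)))))) (vqc0 (vqc0 (vqc3 1) (vqc0 (vqc3 2) (vqc0 (vqc3 2) (vqc0 (vqc3 3) (vqc0 (vqc3 2) (vqc0 (vqc3 1) vqc2)))))) vqc2)))));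
      (vqc0 (vqc0 (vqc3 1) (vqc0 (vqc3 1) (vqc0 (vqc3 1) (vqc0 (vqc3 1) (vqc0 (vqc3 1) (vqc0 (vqc3 1) vqc2)))))) (vqc0 (vqc0 (vqc3 1) (vqc0 (vqc3 1) (vqc0 (vqc3 1) (vqc0 (vqc3 2) (vqc0 (vqc3 1) (vqc0 (vqc3 0) vqc2)))))) (vqc0 (vqc0 (vqc3 1) (vqc0 (vqc3 1) (vqc0 (vqc3 1) (vqc0 (vqc3 2) (vqc0 (vqc3 1) (vqc0 (vqc3 1) vqc2)))))) (vqc0 (vqc0 (vqc3 1) (vqc0 (vqc3 1) (vqc0 (vqc3 1) (vqc0 (vqc3 2) (vqc0 (vqc3 2) (vqc0 (vqc3 1) vqc2)))))) vqy4)))));
      (let vqy5 : type_of% vqy3 := (vqc0 (vqc0 (vqc3 1) (vqc0 (vqc3 0) (vqc0 (vqc3 1) (vqc0 (vqc3 1) (vqc0 (vqc3 0) (vqc0 (vqc3 0) vqc2)))))) (vqc0 (vqc0 (vqc3 1) (vqc0 (vqc3 0) (vqc0 (vqc3 1) (vqc0 (vqc3 1) (vqc0 (vqc3 1) (vqc0 (vqc3 0) vqc2)))))) (vqc0 (vqc0 (vqc3 1) (vqc0 (vqc3 0) (vqc0 (vqc3 1) (vqc0 (vqc3 1) (vqc0 (vqc3 1) (vqc0 (vqc3 1) vqc2)))))) (vqc0 (vqc0 (vqc3 1) (vqc0 (vqc3 1) (vqc0 (vqc3 1) (vqc0 (vqc3 1) (vqc0 (vqc3 0) (vqc0 (vqc3 0) vqc2)))))) (vqc0 (vqc0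 (vqc3 1) (vqc0 (vqc3 1) (vqc0 (vqc3 1) (vqc0 (vqc3 1) (vqc0 (vqc3 1) (vqc0 (vqc3 0) vqc2)))))) vqy3)))));
      (vqc0 (vqc0 (vqc3 0) (vqc0 (vqc3 1) (vqc0 (vqc3 1) (vqc0 (vqc3 2) (vqc0 (vqc3 1) (vqc0 (vqc3 1) vqc2)))))) (vqc0 (vqc0 (vqc3 0) (vqc0 (vqc3 1) (vqc0 (vqc3 1) (vqc0 (vqc3 2) (vqc0 (vqc3 2) (vqc0 (vqc3 1) vqc2)))))) (vqc0 (vqc0 (vqc3 1) (vqc0 (vqc3 0) (vqc0 (vqc3 0) (vqc0 (vqc3 0) (vqc0 (vqc3 0) (vqc0 (vqc3 0) vqc2)))))) (vqc0 (vqc0 (vqc3 1) (vqc0 (vqc3 0) (vqc0 (vqc3 1) (vqc0 (vqc3 0) (vqc0 (vqc3 0) (vqc0 (vqc3 0) vqc2)))))) vqy5))))));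
      (let vqy6 : type_of% vqy2 := (let vqy7 : type_of% vqy2 := (vqc0 (vqc0 (vqc3 0) (vqc0 (vqc3 1) (vqc0 (vqc3 0) (vqc0 (vqc3 1) (vqc0 (vqc3 1) (vqc0 (vqc3 1) vqc2)))))) (vqc0 (vqc0 (vqc3 0) (vqc0 (vqc3 1) (vqc0 (vqc3 1) (vqc0 (vqc3 1) (vqc0 (vqc3 0) (vqc0 (vqc3 0) vqc2)))))) (vqc0 (vqc0 (vqc3 0) (vqc0 (vqc3 1) (vqc0 (vqc3 1) (vqc0 (vqc3 1) (vqc0 (vqc3 1) (vqc0 (vqc3 0) vqc2)))))) (vqc0 (vqc0 (vqc3 0) (vqc0 (vqc3 1) (vqc0 (vqc3 1) (vqc0 (vqc3 1) (vqc0 (vqc3 1) (vqc0 (vqc3 1) vqc2)))))) (vqc0 (vqc0 (vqc3 0) (vqc0 (vqc3 1) (vqc0 (vqc3 1) (vqc0 (vqc3 2) (vqc0 (vqc3 1) (vqc0 (vqc3 0) vqc2)))))) vqy2)))));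
      (vqc0 (vqc0 (vqc3 0) (vqc0 (vqc3 0) (vqc0 (vqc3 1) (vqc0 (vqc3 1) (vqc0 (vqc3 1) (vqc0 (vqc3 1) vqc2)))))) (vqc0 (vqc0 (vqc3 0) (vqc0 (vqc3 1) (vqc0 (vqc3 0) (vqc0 (vqc3 0) (vqc0 (vqc3 0) (vqc0 (vqc3 0) vqc2)))))) (vqc0 (vqc0 (vqc3 0) (vqc0 (vqc3 1) (vqc0 (vqc3 0) (vqc0 (vqc3 1) (vqc0 (vqc3 0) (vqc0 (vqc3 0) vqc2)))))) (vqc0 (vqc0 (vqc3 0) (vqc0 (vqc3 1) (vqc0 (vqc3 0) (vqc0 (vqc3 1) (vqc0 (vqc3 1) (vqc0 (vqc3 0) vqc2)))))) vqy7)))));
      (let vqy8 : type_of% vqy6 := (vqc0 (vqc0 (vqc3 0) (vqc0 (vqc3 0) (vqc0 (vqc3 0) (vqc0 (vqc3 1) (vqc0 (vqc3 1) (vqc0 (vqc3 0) vqc2)))))) (vqc0 (vqc0 (vqc3 0) (vqc0 (vqc3 0) (vqc0 (vqc3 0) (vqc0 (vqc3 1) (vqc0 (vqc3 1) (vqc0 (vqc3 1) vqc2)))))) (vqc0 (vqc0 (vqc3 0) (vqc0 (vqc3 0) (vqc0 (vqc3 1) (vqc0 (vqc3 0) (vqc0 (vqc3 0) (vqc0 (vqc3 0) vqc2)))))) (vqc0 (vqc0 (vqc3 0) (vqc0 (vqc3 0) (vqc0 (vqc3 1) (vqc0 (vqc3 1) (vqc0 (vqc3 0) (vqc0 (vqc3 0) vqc2)))))) (vqc0 (vqc0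 (vqc3 0) (vqc0 (vqc3 0) (vqc0 (vqc3 1) (vqc0 (vqc3 1) (vqc0 (vqc3 1) (vqc0 (vqc3 0) vqc2)))))) vqy6)))));
      (vqc0 (vqc0 (vqc3 0) (vqc0 (vqc3 0) (vqc0 (vqc3 0) (vqc0 (vqc3 0) (vqc0 (vqc3 0) (vqc0 (vqc3 1) vqc2)))))) (vqc0 (vqc0 (vqc3 0) (vqc0 (vqc3 0) (vqc0 (vqc3 0) (vqc0 (vqc3 0) (vqc0 (vqc3 1) (vqc0 (vqc3 0) vqc2)))))) (vqc0 (vqc0 (vqc3 0) (vqc0 (vqc3 0) (vqc0 (vqc3 0) (vqc0 (vqc3 0) (vqc0 (vqc3 1) (vqc0 (vqc3 1) vqc2)))))) (vqc0 (vqc0 (vqc3 0) (vqc0 (vqc3 0) (vqc0 (vqc3 0) (vqc0 (vqc3 1) (vqc0 (vqc3 0) (vqc0 (vqc3 0) vqc2)))))) vqy8)))))));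
      (let vqy9 : type_of% vqy1 := (let vqy10 : type_of% vqy1 := (let vqy11 : type_of% vqy1 := (vqc0 (vqc0 (vqc3 0) (vqc0 (vqc3 0) (vqc0 (vqc3 0) (vqc0 (vqc1 0) (vqc0 (vqc1 0) (vqc0 (vqc3 0) vqc2)))))) (vqc0 (vqc0 (vqc3 0) (vqc0 (vqc3 0) (vqc0 (vqc3 0) (vqc0 (vqc1 0) (vqc0 (vqc3 0) (vqc0 (vqc3 0) vqc2)))))) (vqc0 (vqc0 (vqc3 0) (vqc0 (vqc3 0) (vqc0 (vqc3 0) (vqc0 (vqc3 0) (vqc0 (vqc1 0) (vqc0 (vqc1 0) vqc2)))))) (vqc0 (vqc0 (vqc3 0) (vqc0 (vqc3 0) (vqc0 (vqc3 0) (vqc0 (vqc3 0) (vqc0 (vqc1 0) (vqc0 (vqc3 0) vqc2)))))) (vqc0 (vqc0 (vqc3 0) (vqc0 (vqc3 0) (vqc0 (vqc3 0) (vqc0 (vqc3 0) (vqc0 (vqc3 0) (vqc0 (vqc1 0) vqc2)))))) vqy1)))));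
      (vqc0 (vqc0 (vqc3 0) (vqc0 (vqc3 0) (vqc0 (vqc1 0) (vqc0 (vqc1 0) (vqc0 (vqc1 0) (vqc0 (vqc3 0) vqc2)))))) (vqc0 (vqc0 (vqc3 0) (vqc0 (vqc3 0) (vqc0 (vqc1 0) (vqc0 (vqc1 0) (vqc0 (vqc3 0) (vqc0 (vqc3 0) vqc2)))))) (vqc0 (vqc0 (vqc3 0) (vqc0 (vqc3 0) (vqc0 (vqc1 0) (vqc0 (vqc3 0) (vqc0 (vqc3 0) (vqc0 (vqc3 0) vqc2)))))) (vqc0 (vqc0 (vqc3 0) (vqc0 (vqc3 0) (vqc0 (vqc3 0) (vqc0 (vqc1 0) (vqc0 (vqc1 0) (vqc0 (vqc1 0) vqc2)))))) vqy11)))));
      (let vqy12 : type_of% vqy10 := (vqc0 (vqc0 (vqc3 0) (vqc0 (vqc1 0) (vqc0 (vqc3 0) (vqc0 (vqc1 0) (vqc0 (vqc1 0) (vqc0 (vqc1 0) vqc2)))))) (vqc0 (vqc0 (vqc3 0) (vqc0 (vqc1 0) (vqc0 (vqc3 0) (vqc0 (vqc1 0) (vqc0 (vqc1 0) (vqc0 (vqc3 0) vqc2)))))) (vqc0 (vqc0 (vqc3 0) (vqc0 (vqc1 0) (vqc0 (vqc3 0) (vqc0 (vqc1 0) (vqc0 (vqc3 0) (vqc0 (vqc3 0) vqc2)))))) (vqc0 (vqc0 (vqc3 0) (vqc0 (vqc1 0) (vqc0 (vqc3 0) (vqc0 (vqc3 0) (vqc0 (vqc3 0) (vqc0 (vqc3 0) vqc2)))))) (vqc0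 (vqc0 (vqc3 0) (vqc0 (vqc3 0) (vqc0 (vqc1 0) (vqc0 (vqc1 0) (vqc0 (vqc1 0) (vqc0 (vqc1 0) vqc2)))))) vqy10)))));
      (vqc0 (vqc0 (vqc3 0) (vqc0 (vqc1 0) (vqc0 (vqc1 0) (vqc0 (vqc1 1) (vqc0 (vqc1 0) (vqc0 (vqc3 0) vqc2)))))) (vqc0 (vqc0 (vqc3 0) (vqc0 (vqc1 0) (vqc0 (vqc1 0) (vqc0 (vqc1 0) (vqc0 (vqc1 0) (vqc0 (vqc1 0) vqc2)))))) (vqc0 (vqc0 (vqc3 0) (vqc0 (vqc1 0) (vqc0 (vqc1 0) (vqc0 (vqc1 0) (vqc0 (vqc1 0) (vqc0 (vqc3 0) vqc2)))))) (vqc0 (vqc0 (vqc3 0) (vqc0 (vqc1 0) (vqc0 (vqc1 0) (vqc0 (vqc1 0) (vqc0 (vqc3 0) (vqc0 (vqc3 0) vqc2)))))) vqy12))))));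
      (let vqy13 : type_of% vqy9 := (let vqy14 : type_of% vqy9 := (vqc0 (vqc0 (vqc1 0) (vqc0 (vqc3 0) (vqc0 (vqc1 0) (vqc0 (vqc1 0) (vqc0 (vqc3 0) (vqc0 (vqc3 0) vqc2)))))) (vqc0 (vqc0 (vqc1 0) (vqc0 (vqc3 0) (vqc0 (vqc1 0) (vqc0 (vqc3 0) (vqc0 (vqc3 0) (vqc0 (vqc3 0) vqc2)))))) (vqc0 (vqc0 (vqc1 0) (vqc0 (vqc3 0) (vqc0 (vqc3 0) (vqc0 (vqc3 0) (vqc0 (vqc3 0) (vqc0 (vqc3 0) vqc2)))))) (vqc0 (vqc0 (vqc3 0) (vqc0 (vqc1 0) (vqc0 (vqc1 0) (vqc0 (vqc1 1) (vqc0 (vqc1 1) (vqc0 (vqc1 0) vqc2)))))) (vqc0 (vqc0 (vqc3 0) (vqc0 (vqc1 0) (vqc0 (vqc1 0) (vqc0 (vqc1 1) (vqc0 (vqc1 0) (vqc0 (vqc1 0) vqc2)))))) vqy9)))));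
      (vqc0 (vqc0 (vqc1 0) (vqc0 (vqc1 0) (vqc0 (vqc1 0) (vqc0 (vqc1 0) (vqc0 (vqc1 0) (vqc0 (vqc3 0) vqc2)))))) (vqc0 (vqc0 (vqc1 0) (vqc0 (vqc1 0) (vqc0 (vqc1 0) (vqc0 (vqc1 0) (vqc0 (vqc3 0) (vqc0 (vqc3 0) vqc2)))))) (vqc0 (vqc0 (vqc1 0) (vqc0 (vqc3 0) (vqc0 (vqc1 0) (vqc0 (vqc1 0) (vqc0 (vqc1 0) (vqc0 (vqc1 0) vqc2)))))) (vqc0 (vqc0 (vqc1 0) (vqc0 (vqc3 0) (vqc0 (vqc1 0) (vqc0 (vqc1 0) (vqc0 (vqc1 0) (vqc0 (vqc3 0) vqc2)))))) vqy14)))));
      (let vqy15 : type_of% vqy13 := (vqc0 (vqc0 (vqc1 0) (vqc0 (vqc1 0) (vqc0 (vqc1 1) (vqc0 (vqc1 1) (vqc0 (vqc1 0) (vqc0 (vqc3 0) vqc2)))))) (vqc0 (vqc0 (vqc1 0) (vqc0 (vqc1 0) (vqc0 (vqc1 0) (vqc0 (vqc1 1) (vqc0 (vqc1 1) (vqc0 (vqc1 0) vqc2)))))) (vqc0 (vqc0 (vqc1 0) (vqc0 (vqc1 0) (vqc0 (vqc1 0) (vqc0 (vqc1 1) (vqc0 (vqc1 0) (vqc0 (vqc1 0) vqc2)))))) (vqc0 (vqc0 (vqc1 0) (vqc0 (vqc1 0) (vqc0 (vqc1 0) (vqc0 (vqc1 1) (vqc0 (vqc1 0) (vqc0 (vqc3 0) vqc2)))))) (vqc0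 (vqc0 (vqc1 0) (vqc0 (vqc1 0) (vqc0 (vqc1 0) (vqc0 (vqc1 0) (vqc0 (vqc1 0) (vqc0 (vqc1 0) vqc2)))))) vqy13)))));
      (vqc0 (vqc0 (vqc1 0) (vqc0 (vqc1 1) (vqc0 (vqc1 1) (vqc0 (vqc1 2) (vqc0 (vqc1 1) (vqc0 (vqc1 0) vqc2)))))) (vqc0 (vqc0 (vqc1 0) (vqc0 (vqc1 0) (vqc0 (vqc1 1) (vqc0 (vqc1 2) (vqc0 (vqc1 1) (vqc0 (vqc1 0) vqc2)))))) (vqc0 (vqc0 (vqc1 0) (vqc0 (vqc1 0) (vqc0 (vqc1 1) (vqc0 (vqc1 1) (vqc0 (vqc1 1) (vqc0 (vqc1 0) vqc2)))))) (vqc0 (vqc0 (vqc1 0) (vqc0 (vqc1 0) (vqc0 (vqc1 1) (vqc0 (vqc1 1) (vqc0 (vqc1 0) (vqc0 (vqc1 0) vqc2)))))) vqy15)))))))))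
  GR := (beta% delta% lq26aa9589f5c7 fun vqc0 vqc1 vqc2 vqc3 vqc4 =>
      (let vqy1 : type_of% (vqc4 _) := (let vqy2 : type_of% (vqc4 _) := (let vqy3 : type_of% (vqc4 _) := (let vqy4 : type_of% (vqc4 _) := (vqc0 (vqc0 (vqc3 0) (vqc0 (vqc3 0) (vqc0 (vqc3 1) (vqc0 (vqc3 0) (vqc0 (vqc3 0) (vqc0 (vqc1 0) vqc2)))))) (vqc0 (vqc0 (vqc3 0) (vqc0 (vqc3 0) (vqc0 (vqc3 1) (vqc0 (vqc3 0) (vqc0 (vqc1 0) (vqc0 (vqc3 1) vqc2)))))) (vqc0 (vqc0 (vqc3 0) (vqc0 (vqc3 0) (vqc0 (vqc3 1) (vqc0 (vqc1 0) (vqc0 (vqc3 1) (vqc0 (vqc3 0) vqc2)))))) (vqc0 (vqc0 (vqc3 0) (vqc0 (vqc1 0) (vqc0 (vqc3 0) (vqc0 (vqc3 1) (vqc0 (vqc3 0) (vqc0 (vqc3 0) vqc2)))))) (vqc0 (vqc0 (vqc3 0) (vqc0 (vqc3 1) (vqc0 (vqc3 0) (vqc0 (vqc3 0) (vqc0 (vqc3 0) (vqc0 (vqc3 0) vqc2)))))) vqc2)))));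
      (vqc0 (vqc0 (vqc3 1) (vqc0 (vqc3 1) (vqc0 (vqc3 0) (vqc0 (vqc1 0) (vqc0 (vqc3 0) (vqc0 (vqc3 1) vqc2)))))) (vqc0 (vqc0 (vqc3 1) (vqc0 (vqc3 0) (vqc0 (vqc1 0) (vqc0 (vqc3 1) (vqc0 (vqc3 0) (vqc0 (vqc1 0) vqc2)))))) (vqc0 (vqc0 (vqc3 1) (vqc0 (vqc3 0) (vqc0 (vqc1 0) (vqc0 (vqc3 1) (vqc0 (vqc1 0) (vqc0 (vqc3 1) vqc2)))))) (vqc0 (vqc0 (vqc3 1) (vqc0 (vqc3 0) (vqc0 (vqc1 0) (vqc0 (vqc3 0) (vqc0 (vqc3 1) (vqc0 (vqc3 0) vqc2)))))) vqy4)))));
      (let vqy5 : type_of% vqy3 := (vqc0 (vqc0 (vqc3 1) (vqc0 (vqc1 0) (vqc0 (vqc3 0) (vqc0 (vqc3 1) (vqc0 (vqc1 0) (vqc0 (vqc3 0) vqc2)))))) (vqc0 (vqc0 (vqc3 1) (vqc0 (vqc1 0) (vqc0 (vqc3 0) (vqc0 (vqc3 0) (vqc0 (vqc3 1) (vqc0 (vqc1 0) vqc2)))))) (vqc0 (vqc0 (vqc3 1) (vqc0 (vqc1 0) (vqc0 (vqc3 0) (vqc0 (vqc3 0) (vqc0 (vqc3 0) (vqc0 (vqc3 1) vqc2)))))) (vqc0 (vqc0 (vqc3 1) (vqc0 (vqc3 1) (vqc0 (vqc3 0) (vqc0 (vqc3 0) (vqc0 (vqc1 0) (vqc0 (vqc3 0) vqc2)))))) (vqc0 (vqc0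 (vqc3 1) (vqc0 (vqc3 1) (vqc0 (vqc3 0) (vqc0 (vqc1 0) (vqc0 (vqc3 1) (vqc0 (vqc1 0) vqc2)))))) vqy3)))));
      (vqc0 (vqc0 (vqc1 0) (vqc0 (vqc3 0) (vqc0 (vqc3 0) (vqc0 (vqc3 1) (vqc0 (vqc1 0) (vqc0 (vqc3 1) vqc2)))))) (vqc0 (vqc0 (vqc1 0) (vqc0 (vqc3 0) (vqc0 (vqc3 0) (vqc0 (vqc3 0) (vqc0 (vqc3 1) (vqc0 (vqc3 0) vqc2)))))) (vqc0 (vqc0 (vqc3 2) (vqc0 (vqc3 0) (vqc0 (vqc1 0) (vqc0 (vqc3 0) (vqc0 (vqc3 0) (vqc0 (vqc3 0) vqc2)))))) (vqc0 (vqc0 (vqc3 1) (vqc0 (vqc3 0) (vqc0 (vqc3 1) (vqc0 (vqc1 0) (vqc0 (vqc3 0) (vqc0 (vqc3 0) vqc2)))))) vqy5))))));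
      (let vqy6 : type_of% vqy2 := (let vqy7 : type_of% vqy2 := (vqc0 (vqc0 (vqc3 0) (vqc0 (vqc3 1) (vqc0 (vqc1 0) (vqc0 (vqc3 0) (vqc0 (vqc3 0) (vqc0 (vqc3 1) vqc2)))))) (vqc0 (vqc0 (vqc1 0) (vqc0 (vqc3 1) (vqc0 (vqc3 1) (vqc0 (vqc3 0) (vqc0 (vqc1 0) (vqc0 (vqc3 0) vqc2)))))) (vqc0 (vqc0 (vqc1 0) (vqc0 (vqc3 1) (vqc0 (vqc3 1) (vqc0 (vqc1 0) (vqc0 (vqc3 1) (vqc0 (vqc1 0) vqc2)))))) (vqc0 (vqc0 (vqc1 0) (vqc0 (vqc3 1) (vqc0 (vqc3 1) (vqc0 (vqc1 0) (vqc0 (vqc3 0) (vqc0 (vqc3 1) vqc2)))))) (vqc0 (vqc0 (vqc1 0) (vqc0 (vqc3 0) (vqc0 (vqc3 0) (vqc0 (vqc3 1) (vqc0 (vqc3 0) (vqc0 (vqc1 0) vqc2)))))) vqy2)))));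
      (vqc0 (vqc0 (vqc1 0) (vqc0 (vqc1 0) (vqc0 (vqc3 1) (vqc0 (vqc3 0) (vqc0 (vqc3 0) (vqc0 (vqc3 1) vqc2)))))) (vqc0 (vqc0 (vqc3 0) (vqc0 (vqc3 2) (vqc0 (vqc3 0) (vqc0 (vqc1 0) (vqc0 (vqc3 0) (vqc0 (vqc3 0) vqc2)))))) (vqc0 (vqc0 (vqc3 0) (vqc0 (vqc3 1) (vqc0 (vqc1 0) (vqc0 (vqc3 1) (vqc0 (vqc1 0) (vqc0 (vqc3 0) vqc2)))))) (vqc0 (vqc0 (vqc3 0) (vqc0 (vqc3 1) (vqc0 (vqc1 0) (vqc0 (vqc3 0) (vqc0 (vqc3 1) (vqc0 (vqc1 0) vqc2)))))) vqy7)))));
      (let vqy8 : type_of% vqy6 := (vqc0 (vqc0 (vqc3 0) (vqc0 (vqc1 0) (vqc0 (vqc1 0) (vqc0 (vqc3 1) (vqc0 (vqc3 1) (vqc0 (vqc1 0) vqc2)))))) (vqc0 (vqc0 (vqc3 0) (vqc0 (vqc1 0) (vqc0 (vqc1 0) (vqc0 (vqc3 1) (vqc0 (vqc3 0) (vqc0 (vqc3 1) vqc2)))))) (vqc0 (vqc0 (vqc1 0) (vqc0 (vqc3 0) (vqc0 (vqc3 2) (vqc0 (vqc1 0) (vqc0 (vqc3 0) (vqc0 (vqc3 0) vqc2)))))) (vqc0 (vqc0 (vqc1 0) (vqc0 (vqc1 0) (vqc0 (vqc3 1) (vqc0 (vqc3 1) (vqc0 (vqc1 0) (vqc0 (vqc3 0) vqc2)))))) (vqc0 (vqc0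 (vqc1 0) (vqc0 (vqc1 0) (vqc0 (vqc3 1) (vqc0 (vqc3 0) (vqc0 (vqc3 1) (vqc0 (vqc1 0) vqc2)))))) vqy6)))));
      (vqc0 (vqc0 (vqc3 0) (vqc0 (vqc3 0) (vqc0 (vqc3 0) (vqc0 (vqc3 0) (vqc0 (vqc1 0) (vqc0 (vqc3 2) vqc2)))))) (vqc0 (vqc0 (vqc3 0) (vqc0 (vqc3 0) (vqc0 (vqc3 0) (vqc0 (vqc1 0) (vqc0 (vqc3 2) (vqc0 (vqc1 0) vqc2)))))) (vqc0 (vqc0 (vqc3 0) (vqc0 (vqc3 0) (vqc0 (vqc3 0) (vqc0 (vqc1 0) (vqc0 (vqc3 1) (vqc0 (vqc3 1) vqc2)))))) (vqc0 (vqc0 (vqc3 0) (vqc0 (vqc1 0) (vqc0 (vqc1 0) (vqc0 (vqc3 2) (vqc0 (vqc1 0) (vqc0 (vqc3 0) vqc2)))))) vqy8)))))));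
      (let vqy9 : type_of% vqy1 := (let vqy10 : type_of% vqy1 := (let vqy11 : type_of% vqy1 := (vqc0 (vqc0 (vqc3 0) (vqc0 (vqc3 1) (vqc0 (vqc3 1) (vqc0 (vqc1 0) (vqc0 (vqc1 0) (vqc0 (vqc3 1) vqc2)))))) (vqc0 (vqc0 (vqc3 0) (vqc0 (vqc3 1) (vqc0 (vqc3 1) (vqc0 (vqc1 1) (vqc0 (vqc3 1) (vqc0 (vqc3 0) vqc2)))))) (vqc0 (vqc0 (vqc3 0) (vqc0 (vqc3 0) (vqc0 (vqc3 0) (vqc0 (vqc3 1) (vqc0 (vqc1 0) (vqc0 (vqc1 0) vqc2)))))) (vqc0 (vqc0 (vqc3 0) (vqc0 (vqc3 0) (vqc0 (vqc3 0) (vqc0 (vqc3 1) (vqc0 (vqc1 1) (vqc0 (vqc3 1) vqc2)))))) (vqc0 (vqc0 (vqc3 0) (vqc0 (vqc3 0) (vqc0 (vqc3 0) (vqc0 (vqc3 0) (vqc0 (vqc3 1) (vqc0 (vqc1 1) vqc2)))))) vqy1)))));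
      (vqc0 (vqc0 (vqc3 1) (vqc0 (vqc3 1) (vqc0 (vqc1 0) (vqc0 (vqc3 0) (vqc0 (vqc1 0) (vqc0 (vqc3 1) vqc2)))))) (vqc0 (vqc0 (vqc3 1) (vqc0 (vqc3 1) (vqc0 (vqc1 0) (vqc0 (vqc1 0) (vqc0 (vqc3 1) (vqc0 (vqc3 0) vqc2)))))) (vqc0 (vqc0 (vqc3 1) (vqc0 (vqc3 0) (vqc0 (vqc1 1) (vqc0 (vqc3 1) (vqc0 (vqc3 0) (vqc0 (vqc3 0) vqc2)))))) (vqc0 (vqc0 (vqc3 0) (vqc0 (vqc3 1) (vqc0 (vqc3 1) (vqc0 (vqc1 0) (vqc0 (vqc3 0) (vqc0 (vqc1 0) vqc2)))))) vqy11)))));
      (let vqy12 : type_of% vqy10 := (vqc0 (vqc0 (vqc3 0) (vqc0 (vqc1 0) (vqc0 (vqc3 1) (vqc0 (vqc3 0) (vqc0 (vqc3 0) (vqc0 (vqc1 0) vqc2)))))) (vqc0 (vqc0 (vqc3 0) (vqc0 (vqc1 0) (vqc0 (vqc3 1) (vqc0 (vqc3 0) (vqc0 (vqc1 0) (vqc0 (vqc3 1) vqc2)))))) (vqc0 (vqc0 (vqc3 0) (vqc0 (vqc1 0) (vqc0 (vqc3 1) (vqc0 (vqc1 0) (vqc0 (vqc3 1) (vqc0 (vqc3 0) vqc2)))))) (vqc0 (vqc0 (vqc3 0) (vqc0 (vqc1 1) (vqc0 (vqc3 0) (vqc0 (vqc3 1) (vqc0 (vqc3 0) (vqc0 (vqc3 0) vqc2)))))) (vqc0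 (vqc0 (vqc3 1) (vqc0 (vqc3 1) (vqc0 (vqc1 0) (vqc0 (vqc3 0) (vqc0 (vqc3 0) (vqc0 (vqc1 0) vqc2)))))) vqy10)))));
      (vqc0 (vqc0 (vqc3 1) (vqc0 (vqc3 0) (vqc0 (vqc3 0) (vqc0 (vqc1 0) (vqc0 (vqc3 0) (vqc0 (vqc3 1) vqc2)))))) (vqc0 (vqc0 (vqc3 1) (vqc0 (vqc1 0) (vqc0 (vqc1 0) (vqc0 (vqc3 1) (vqc0 (vqc3 0) (vqc0 (vqc1 0) vqc2)))))) (vqc0 (vqc0 (vqc3 1) (vqc0 (vqc1 0) (vqc0 (vqc1 0) (vqc0 (vqc3 1) (vqc0 (vqc1 0) (vqc0 (vqc3 1) vqc2)))))) (vqc0 (vqc0 (vqc3 1) (vqc0 (vqc1 0) (vqc0 (vqc1 0) (vqc0 (vqc3 0) (vqc0 (vqc3 1) (vqc0 (vqc3 0) vqc2)))))) vqy12))))));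
      (let vqy13 : type_of% vqy9 := (let vqy14 : type_of% vqy9 := (vqc0 (vqc0 (vqc1 0) (vqc0 (vqc3 1) (vqc0 (vqc3 0) (vqc0 (vqc1 0) (vqc0 (vqc3 1) (vqc0 (vqc3 0) vqc2)))))) (vqc0 (vqc0 (vqc1 0) (vqc0 (vqc3 0) (vqc0 (vqc1 0) (vqc0 (vqc3 1) (vqc0 (vqc3 0) (vqc0 (vqc3 0) vqc2)))))) (vqc0 (vqc0 (vqc1 1) (vqc0 (vqc3 0) (vqc0 (vqc3 1) (vqc0 (vqc3 0) (vqc0 (vqc3 0) (vqc0 (vqc3 0) vqc2)))))) (vqc0 (vqc0 (vqc3 1) (vqc0 (vqc3 0) (vqc0 (vqc3 0) (vqc0 (vqc3 0) (vqc0 (vqc1 0) (vqc0 (vqc3 0) vqc2)))))) (vqc0 (vqc0 (vqc3 1) (vqc0 (vqc3 0) (vqc0 (vqc3 0) (vqc0 (vqc1 0) (vqc0 (vqc3 1) (vqc0 (vqc1 0) vqc2)))))) vqy9)))));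
      (vqc0 (vqc0 (vqc1 0) (vqc0 (vqc1 0) (vqc0 (vqc3 0) (vqc0 (vqc3 1) (vqc0 (vqc1 0) (vqc0 (vqc3 1) vqc2)))))) (vqc0 (vqc0 (vqc1 0) (vqc0 (vqc1 0) (vqc0 (vqc3 0) (vqc0 (vqc3 0) (vqc0 (vqc3 1) (vqc0 (vqc3 0) vqc2)))))) (vqc0 (vqc0 (vqc1 0) (vqc0 (vqc3 1) (vqc0 (vqc3 0) (vqc0 (vqc3 0) (vqc0 (vqc3 0) (vqc0 (vqc1 0) vqc2)))))) (vqc0 (vqc0 (vqc1 0) (vqc0 (vqc3 1) (vqc0 (vqc3 0) (vqc0 (vqc3 0) (vqc0 (vqc1 0) (vqc0 (vqc3 1) vqc2)))))) vqy14)))));
      (let vqy15 : type_of% vqy13 := (vqc0 (vqc0 (vqc3 0) (vqc0 (vqc3 0) (vqc0 (vqc1 0) (vqc0 (vqc3 0) (vqc0 (vqc3 0) (vqc0 (vqc3 1) vqc2)))))) (vqc0 (vqc0 (vqc1 0) (vqc0 (vqc3 0) (vqc0 (vqc3 1) (vqc0 (vqc3 0) (vqc0 (vqc1 0) (vqc0 (vqc3 0) vqc2)))))) (vqc0 (vqc0 (vqc1 0) (vqc0 (vqc3 0) (vqc0 (vqc3 1) (vqc0 (vqc1 0) (vqc0 (vqc3 1) (vqc0 (vqc1 0) vqc2)))))) (vqc0 (vqc0 (vqc1 0) (vqc0 (vqc3 0) (vqc0 (vqc3 1) (vqc0 (vqc1 0) (vqc0 (vqc3 0) (vqc0 (vqc3 1) vqc2)))))) (vqc0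 (vqc0 (vqc1 0) (vqc0 (vqc1 0) (vqc0 (vqc3 0) (vqc0 (vqc3 1) (vqc0 (vqc3 0) (vqc0 (vqc1 0) vqc2)))))) vqy13)))));
      (vqc0 (vqc0 (vqc3 0) (vqc0 (vqc1 0) (vqc0 (vqc3 0) (vqc0 (vqc3 0) (vqc0 (vqc3 0) (vqc0 (vqc3 0) vqc2)))))) (vqc0 (vqc0 (vqc3 0) (vqc0 (vqc3 1) (vqc0 (vqc3 0) (vqc0 (vqc1 0) (vqc0 (vqc3 0) (vqc0 (vqc3 0) vqc2)))))) (vqc0 (vqc0 (vqc3 0) (vqc0 (vqc3 0) (vqc0 (vqc1 0) (vqc0 (vqc3 1) (vqc0 (vqc1 0) (vqc0 (vqc3 0) vqc2)))))) (vqc0 (vqc0 (vqc3 0) (vqc0 (vqc3 0) (vqc0 (vqc1 0) (vqc0 (vqc3 0) (vqc0 (vqc3 1) (vqc0 (vqc1 0) vqc2)))))) vqy15)))))))))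
  TT := 0x3ff07fe001f003ffffc00f8000000004001dc0738fd00e31f847e21f8c70000000080862c195b3b0325674b18d2e6a4c00000010128342a6d570549aad2c34b5592a000000202503834768f0691d1e1a5878b89600000040c06c0c19bc7182678f0990f1e641800000814294142adab284ab5694296ad521400001024518184b6733092ce5a245a73490c000020198a0248ce6d490ccda62465b330920000402a940290d5b55214b69542a96d284a00008033600320e3d964187b0c9930de182600002dc00a4400f16e8960d21da5b84b0691000056c0148800eab692a0a92ec37495054900009b40611000dcdaa4c064b718ed2603250000e383802000bf1cc7001c787e1e3800e30000fc3c0000007fe0f80003c3ffc3c0001f0027000006ccde00271bd804cc9933201bd8004b000029556d004b2db4095542aa902db4009300005199b30093366c1266246648366c010d00018a2673010d4e72219a2459844e7202150002942aad021555aa42a942954255aa0419000360331e041963c68330990cc163c6080e001c0a438b016171712c21a584348e8e1016002c14835502a16aa95412c3482a9556201a00346102e604c15cc5980b18d019a33a401c003b8001f80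7013f03e0047e2007c0fc016101c00a780b080e8e8e2e01a58074717102a102c014b415101695565502c340aa6aa904c10340612c26201aa33a988318c1195cc507010383801c38401cc0fce0407e02073f0308620c440b84430862b18d319824198cb18d10a2144415488510a2aa554aa8421552aa5520c2184460d10620c29c398730180ce19c39092424888c44490924d24b495500aa92d24b122444889288911224c993326600664cc9930948291122444a0948e42784cc813321e427129052224488941290e42784cc813321e427244889114911222448c993326600664cc993249092223111242490d24b495500aa92d24b4304608b06221843049c398730180ce19c394508a112a822284508aa554aa8421552aa554610c221d022304610b18d319824198cb18d38021c3801c1c080e0c0fce0407e02073f03580464348602c08320a33a988318c1195cc56808a82d280340854095565502c340aa6aa97010d01e50038086808e8e2e01a58074717180e01f8001dc0038023f03e0047e2007c0fc83206740862c0058045cc5980b18d019a33a8540aac128340068086aa95412c3482a95568680d1c2503800701071712c21a584348e8e982078cc06c000982063c68330990c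c163c6a840b554294000a84055aa42a942954255aab080ce64518000b0804e72219a2459844e72c900cd998a0000c900366c1266246648366cd200b6aa940000d2002db4095542aa902db4e4007b33600000e4001bd804cc9933201bd807fe0000003c3f0000f80003c3ffc3c0001f38fd000401c1c70000c7001c787e1e3800e35b3b00088602d90000a4c064b718ed2603256d57001128036a000092a0a92ec374950549768f00225003b400008960d21da5b84b06919bc704c006cc01000064187b0c9930de1826adab094029540200005214b69542a96d284ab67312405198040000490ccda62465b33092ce6d21818a240800003092ce5a245a73490cd5b542829428100000284ab5694296ad5214e3d983036030200000182678f0990f1e6418f16e2c1c0a404000000691d1e1a5878b8960eab6542c14808000000549aad2c34b5592a0dcda983461010000000325674b18d2e6a4c0bf1ce03b800200000000e31f847e21f8c7007fe0ffc00000000000001f003ffffc00f800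

private noncomputable def _root_.Cfsg.Agent.LsF.f921deb_4 : {f // @Cfsg.Agent.TO.X.Stab.allI = f} := ⟨_, by first | (delta Cfsg.Agent.TO.X.Stab.allI; rewrite [Cfsg.Agent.LsF.and_eq]; exact rfl) | exact rfl⟩
private noncomputable def _root_.Cfsg.Agent.LsF.f921deb_5 : {f // @Cfsg.Agent.TO.X.Stab.dot = f} := ⟨_, by first | (delta Cfsg.Agent.TO.X.Stab.dot; rewrite [Cfsg.Agent.LsF.iadd_eq, Cfsg.Agent.LsF.imul_eq]; exact rfl) | exact rfl⟩
private noncomputable def _root_.Cfsg.Agent.LsF.f921deb_6 : {f // @Cfsg.Agent.TO.X.Stab.Gm = f} := ⟨_, by first | (delta Cfsg.Agent.TO.X.Stab.Gm; rewrite [Cfsg.Agent.LsF.f921deb_0.2, Cfsg.Agent.LsF.f921deb_3.2, Cfsg.Agent.LsF.imul_pat]; exact rfl) | exact rfl⟩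
theorem smE6 : sE6.Sm chevE6 6 := by
  refine ⟨?_, ?_, ?_, ?_, ?_, ?_, ?_, ?_⟩ <;> (refine of_decide_eq_true ?_; (try rewrite [Cfsg.Agent.LsF.f921deb_4.2]); (try rewrite [Cfsg.Agent.LsF.f921deb_5.2]); (try rewrite [Cfsg.Agent.LsF.f921deb_6.2]); (try rewrite [Cfsg.Agent.LsF.testBit_eq]); (try rewrite [Cfsg.Agent.LsF.map_eq]); (try rewrite [Cfsg.Agent.LsF.getD_eq]); (try rewrite [Cfsg.Agent.LsF.instIDecEq_eq]); (try rewrite [Cfsg.Agent.LsF.dBoolEq_eq]); (try rewrite [Cfsg.Agent.LsF.dForallFin_eq]); (try rewrite [Cfsg.Agent.LsF.dAllP_eq]); (try rewrite [Cfsg.Agent.LsF.decide_eq]); decide +kernel)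

private noncomputable def _root_.Cfsg.Agent.LsF.f921deb_7 : {f // @Cfsg.Agent.TO.X.Stab.Sys.chkT = f} := ⟨_, by first | (delta Cfsg.Agent.TO.X.Stab.Sys.chkT; rewrite [Cfsg.Agent.LsF.f921deb_4.2, Cfsg.Agent.LsF.f921deb_5.2, Cfsg.Agent.LsF.or_eq, Cfsg.Agent.LsF.testBit_eq]; exact rfl) | exact rfl⟩
theorem ttE6 : sE6.chkT sE6.GR 0 = true := by ((try (rewrite [Cfsg.Agent.LsF.f921deb_7.2])); decide +kernel)

theorem okE6 : sE6.Ok chevE6 6 := Sys.ok_of smE6 ttE6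

end Cfsg.Agent.TO.X.Stab
end

-- part: TO/E6/LatI
section
/-!
# S4817, rows `E₆(q)`, `²E₆(q)` at `p = 3`: the lattice facts (statements, helper91)
-/

set_option autoImplicit false

namespace Cfsg.Agent.TO.E6

open Cfsg Cfsg.Lie Matrix Cfsg.Agent.TO.X
open Cfsg.Agent.TO.X.Stab (RA Gm)
open Cfsg.Agent.TO.X.Pl (cz)
open Cfsg.Agent.TO.X7 (nz)

/-- the first vector of the plane -/
def u0 : Fin 6 → ZMod 3 := ![0, 0, 0, 1, 0, 0]

/-- the second vector of the plane -/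
def x0 : Fin 6 → ZMod 3 := ![1, 1, 1, 0, 1, 1]

/-- a third vector fixed by the elements of type `3 A₂` -/
def mu : Fin 6 → ZMod 3 := ![0, 1, 0, 0, 2, 2]

/-- the plane -/
def B0 : Submodule (ZMod 3) (Fin 6 → ZMod 3) := Submodule.span (ZMod 3) {u0, x0}

/-- the Cartan matrix; `G6 *ᵥ a` is the coroot of `a` -/
abbrev G6 : Matrix (Fin 6) (Fin 6) ℤ := Gm chevE6 6

/-- `h ∈ ± W` fixes the plane pointwise (54 matrices) -/
structure Fx (h : Matrix (Fin 6) (Fin 6) ℤ) : Prop where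
  ra : RA chevE6 6 h
  u : mv h u0 = u0
  x : mv h x0 = x0

/-- 20 of them -/
def Good (h : Matrix (Fin 6) (Fin 6) ℤ) : Prop := h ^ 4 + h ^ 2 + 1 = 0

/-- the lattice facts -/
structure Lt : Prop where
  reg : ∀ a, Rt chevE6 6 a → vl a u0 ≠ 0 ∨ vl a x0 ≠ 0
  nz0 : nz chevE6 u0 = 18
  nzr : ∀ a, Rt chevE6 6 a → 18 < nz chevE6 (cz 3 (G6 *ᵥ a))
  nzm : 18 < nz chevE6 mu
  dich : ∀ h, Fx h → (∃ a, Rt chevE6 6 a ∧ a ᵥ* h = a) ∨ Good h
  good : ∀ h, Fx h → Good h → ∀ a, Rt chevE6 6 a → (a ᵥ* h) ⬝ᵥ (G6 *ᵥ a) = -1 ∨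
    ((a ᵥ* h) ⬝ᵥ (G6 *ᵥ a) = 0 ∧ (a ᵥ* h ᵥ* h) ⬝ᵥ (G6 *ᵥ a) = -1 ∧
      18 < nz chevE6 (cz 3 (G6 *ᵥ (a ᵥ* h + a ᵥ* h ᵥ* h))))
  gw : ∀ h, Fx h → Good h → WM chevE6 6 h → h * h + h + 1 = 0 ∧ mv h mu = mu
  cube : ∀ h, Fx h → WM chevE6 6 h → h ^ 3 = 1
  six : ∀ h, Fx h → h ^ 6 = 1
  fin : ∀ h A, Fx h → Good h → Fx (-A) → WM chevE6 6 A → A * A = 1 → A * h = h * A →
    ∃ c, WM chevE6 6 c ∧ c ^ 3 = 1 ∧ c * h = h * c ∧ (A + 1) * (c - 1) = 0 ∧ (∀ v ∈ B0, mv c v ∈ B0) ∧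
      ¬ (mv c u0 = u0 ∧ mv c x0 = x0)

/-- the pure planes -/
structure Pn : Prop where
  pl : ∀ u x, PurePl chevE6 (AdmS 3 [1, KZ.DatX.P6]) u x → Pl.Std chevE6 u x u0 x0
  rk : ∀ B : Submodule (ZMod 3) (Fin 6 → ZMod 3), PureSp chevE6 (AdmS 3 [1, KZ.DatX.P6]) B →
    Module.finrank (ZMod 3) B ≤ 2

end Cfsg.Agent.TO.E6
end

private theorem dce_99380e73b389 : _root_.True := by
  try have : _root_.True := by simp only [_root_.Cfsg.Agent.TO.X.Stab.Sys.run.eq_1]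
  try have : _root_.True := by simp only [_root_.Cfsg.Agent.TO.X.Stab.tv.eq_1]
  try have : _root_.True := by simp only [_root_.Cfsg.Agent.TO.X.Stab.dot.eq_1]
  try have : _root_.True := by simp only [_root_.Cfsg.Agent.TO.X.Stab.tz.eq_1]
  exact _root_.True.intro
end

-- part: TO/X/StabM
section
prune_inst 0x10000000000000
set_option linter.all false
open scoped Cfsg.Agent.FastGrp

/-!
# Matrices as lists, for checks on the leaves of the search `TO.X.Stab` (helper51)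
-/

set_option autoImplicit false

namespace Cfsg.Agent.TO.X.Stab

open Cfsg Cfsg.Lie Matrix Cfsg.Agent.Nodes Cfsg.Agent.KZ.DatX

/-- matrices as lists of rows -/
abbrev LM := List (List ℤ)

/-- an entry -/
def ent (m : LM) (i j : ℕ) : ℤ := (m.getD i []).getD j 0

/-- a list as a matrix -/
def tM (l : ℕ) (m : LM) : Matrix (Fin l) (Fin l) ℤ := Matrix.of fun i j => ent m i j

/-- a vector from a function -/
def mkV (l : ℕ) (f : ℕ → ℤ) : List ℤ := (List.range l).map f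

/-- a matrix from a function -/
def mkM (l : ℕ) (f : ℕ → List ℤ) : LM := (List.range l).map f

/-- `a ᵥ* m` -/
noncomputable def vm (l : ℕ) (a : List ℤ) (m : LM) : List ℤ := mkV l fun j => dot (mkV l fun t => ent m t j) a

/-- `m *ᵥ v` -/
noncomputable def mvL (l : ℕ) (m : LM) (v : List ℤ) : List ℤ := mkV l fun i => dot (mkV l fun t => ent m i t) v

/-- the scalar product -/
noncomputable def dt (l : ℕ) (a b : List ℤ) : ℤ := dot (mkV l fun t => a.getD t 0) b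

/-- the sum of two vectors -/
def addV (l : ℕ) (a b : List ℤ) : List ℤ := mkV l fun i => Int.add (a.getD i 0) (b.getD i 0)

/-- the product -/
noncomputable def mm (l : ℕ) (a b : LM) : LM := mkM l fun i => vm l (a.getD i []) b

/-- the sum -/
def addM (l : ℕ) (a b : LM) : LM := mkM l fun i => addV l (a.getD i []) (b.getD i [])

/-- the negative -/
def negM (l : ℕ) (a : LM) : LM := mkM l fun i => mkV l fun j => Int.neg (ent a i j)

/-- the identity -/
def oneM (l : ℕ) : LM := mkM l fun i => mkV l fun j => cond (Nat.beq i j) 1 0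

/-- equality of vectors -/
noncomputable def eqV (l : ℕ) (a b : List ℤ) : Bool := allN l fun i => decide (a.getD i 0 = b.getD i 0)

/-- equality of matrices -/
noncomputable def eqM (l : ℕ) (a b : LM) : Bool := allN l fun i => eqV l (a.getD i []) (b.getD i [])

/-- congruence of vectors -/
noncomputable def cgV (l p : ℕ) (a b : List ℤ) : Bool :=
  allN l fun i => decide ((a.getD i 0 - b.getD i 0) % (p : ℤ) = 0)

/-- the matrix of a word -/
noncomputable def wL (l : ℕ) (s : ℕ → LM) (L : List (Fin l)) : LM := List.rec (oneM l) (fun i _ ih => mm l (s i) ih) L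

/-- the rows of a leaf -/
def Sys.rows (S : Sys) (l : ℕ) (rs : List ℕ) : LM := mkM l fun i => S.RL.getD (rs.getD i 0) []

/-- the simple reflections -/
def Sys.sL (S : Sys) (l i : ℕ) : LM :=
  mkM l fun a => mkV l fun b => cond (Nat.beq a b) 1 0 - cond (Nat.beq b i) (2 * ent S.G i a / ent S.G i i) 0

/-- the number of roots which vanish on `v` modulo `p` -/
noncomputable def Sys.nzL (S : Sys) (p : ℕ) (v : List ℤ) : ℕ := S.RL.countP fun a => decide (dot a v % (p : ℤ) = 0)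

variable {l : ℕ}

theorem allN_iff {f : ℕ → Bool} : ∀ {n : ℕ}, allN n f = true ↔ ∀ i < n, f i = true
  | 0 => ⟨allN_spec, fun _ => rfl⟩
  | n + 1 => ⟨allN_spec, fun h => by
    show (f n && allN n f) = true
    rw [h n (Nat.lt_succ_self n), allN_iff.2 fun i hi => h i (Nat.lt_succ_of_lt hi)]
    rfl⟩

theorem mkV_getD (f : ℕ → ℤ) (i : Fin l) : (mkV l f).getD i 0 = f i := by
  rw [mkV, List.getD_eq_getElem _ _ (by simp), List.getElem_map, List.getElem_range]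

theorem mkM_getD (f : ℕ → List ℤ) (i : Fin l) : (mkM l f).getD i [] = f i := by
  rw [mkM, List.getD_eq_getElem _ _ (by simp), List.getElem_map, List.getElem_range]

theorem tv_mkV (f : ℕ → ℤ) : tv l (mkV l f) = fun i : Fin l => f i := funext (mkV_getD f)

theorem dot_mkV (f : ℕ → ℤ) (b : List ℤ) : dot (mkV l f) b = (fun i : Fin l => f i) ⬝ᵥ tv l b := by
  rw [dot_eq l _ _ (by simp [mkV]), tv_mkV]

theorem tM_row (m : LM) (i : Fin l) : tM l m i = tv l (m.getD i []) := rfl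

theorem tM_mkM (f : ℕ → List ℤ) (i : Fin l) : tM l (mkM l f) i = tv l (f i) := by rw [tM_row, mkM_getD]

theorem tv_vm (a : List ℤ) (m : LM) : tv l (vm l a m) = tv l a ᵥ* tM l m := by
  funext j
  rw [vm, tv_mkV]
  exact (dot_mkV _ _).trans (dotProduct_comm _ _)

theorem tv_mvL (m : LM) (v : List ℤ) : tv l (mvL l m v) = tM l m *ᵥ tv l v := by
  funext j
  rw [mvL, tv_mkV]
  exact dot_mkV _ _

theorem dt_eq (a b : List ℤ) : dt l a b = tv l a ⬝ᵥ tv l b := dot_mkV _ _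

theorem tv_addV (a b : List ℤ) : tv l (addV l a b) = tv l a + tv l b := tv_mkV _

theorem tM_mm (a b : LM) : tM l (mm l a b) = tM l a * tM l b := by
  ext i : 1
  rw [mm, tM_mkM, tv_vm]
  rfl

theorem tM_addM (a b : LM) : tM l (addM l a b) = tM l a + tM l b := by
  ext i : 1
  rw [addM, tM_mkM, tv_addV]
  rfl

theorem tM_negM (a : LM) : tM l (negM l a) = -tM l a := by
  ext i : 1
  rw [negM, tM_mkM, tv_mkV]
  rfl

theorem cond_beq (i j : Fin l) (x y : ℤ) : cond (Nat.beq i j) x y = if i = j then x else y := by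
  by_cases h : i = j
  · rw [if_pos h, h, Nat.beq_refl]
    rfl
  · rw [if_neg h]
    cases h1 : Nat.beq i j
    · rfl
    · exact absurd (Fin.ext (Nat.eq_of_beq_eq_true h1)) h

theorem tM_oneM : tM l (oneM l) = 1 := by
  ext i j
  rw [oneM, tM_mkM, tv_mkV, Matrix.one_apply]
  exact cond_beq i j 1 0

theorem tM_nil : tM l [] = 0 := rfl

theorem eqV_iff {a b : List ℤ} : eqV l a b = true ↔ tv l a = tv l b := by
  rw [eqV, allN_iff]
  exact ⟨fun h => funext fun i => of_decide_eq_true (h i i.2), fun h i hi => decide_eq_true (congrFun h ⟨i, hi⟩)⟩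

theorem eqM_iff {a b : LM} : eqM l a b = true ↔ tM l a = tM l b := by
  rw [eqM, allN_iff]
  exact ⟨fun h => funext fun i => eqV_iff.1 (h i i.2), fun h i hi => eqV_iff.2 (congrFun h ⟨i, hi⟩)⟩

theorem tz_eq (p : ℕ) (a : List ℤ) : tz p l a = fun i => ((tv l a i : ℤ) : ZMod p) := rfl

theorem cgV_iff {p : ℕ} {a b : List ℤ} : cgV l p a b = true ↔ tz p l a = tz p l b := by
  have h0 : ∀ x y : ℤ, (x - y) % (p : ℤ) = 0 ↔ (x : ZMod p) = (y : ZMod p) := fun x y => by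
    rw [ZMod.intCast_eq_intCast_iff_dvd_sub, ← Int.dvd_iff_emod_eq_zero, dvd_sub_comm]
  rw [cgV, allN_iff]
  exact ⟨fun h => funext fun i => (h0 _ _).1 (of_decide_eq_true (h i i.2)),
    fun h i hi => decide_eq_true ((h0 _ _).2 (congrFun h ⟨i, hi⟩))⟩

theorem tz_mvL (p : ℕ) (m : LM) (v : List ℤ) :
    tz p l (mvL l m v) = (tM l m).map (Int.cast : ℤ → ZMod p) *ᵥ tz p l v := by
  funext i
  rw [tz_eq, tv_mvL]
  simp only [mulVec, dotProduct, Int.cast_sum, Int.cast_mul, Matrix.map_apply]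
  rfl

theorem tM_wL {s : ℕ → LM} {f : Fin l → Matrix (Fin l) (Fin l) ℤ} (h : ∀ i : Fin l, tM l (s i) = f i) :
    ∀ L : List (Fin l), tM l (wL l s L) = (L.map f).prod
  | [] => tM_oneM
  | i :: L => by rw [List.map_cons, List.prod_cons, ← tM_wL h L, ← h, ← tM_mm]; rfl

theorem Sys.tM_rows (S : Sys) (rs : List ℕ) : tM l (S.rows l rs) = S.mat l rs := by
  ext i : 1
  rw [Sys.rows, tM_mkM]
  rfl

/-- the leaves lie in an explicit list -/
theorem mem_of_leaf {S : Sys} {A : Matrix (Fin l) (Fin l) ℤ} {L : List LM}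
    (h : ∃ rs, A = S.mat l rs ∧ (L.any (eqM l (S.rows l rs))) = true) : ∃ m ∈ L, A = tM l m := by
  obtain ⟨rs, rfl, h⟩ := h
  obtain ⟨m, h1, h2⟩ := List.any_eq_true.1 h
  exact ⟨m, h1, (S.tM_rows rs).symm.trans (eqM_iff.1 h2)⟩

theorem countP_eq {α : Type} (f : α → Bool) (d : α) : ∀ L : List α,
    L.countP f = ((Finset.range L.length).filter fun s => f (L.getD s d) = true).card
  | [] => rfl
  | a :: L => by
    rw [List.countP_cons, countP_eq f d L, Finset.card_filter, Finset.card_filter, List.length_cons,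
      Finset.sum_range_succ']
    rfl

variable {C : ChevalleyDatum} {S : Sys}

/-- the roots as lists -/
theorem Sys.Ok.exists_mem (hS : S.Ok C l) {a : Fin l → ℤ} (h : ∃ r < C.nroots, RGDChev.vec C l r = a) :
    ∃ b ∈ S.RL, a = tv l b := by
  obtain ⟨r, hr, rfl⟩ := h
  rw [← hS.hn] at hr
  refine ⟨S.RL.getD r [], ?_, (hS.rl r hr).2.symm⟩
  rw [List.getD_eq_getElem _ _ (hS.len ▸ hr)]
  exact List.getElem_mem _

theorem Sys.Ok.rt_of_mem (hS : S.Ok C l) {b : List ℤ} (h : b ∈ S.RL) : ∃ r < C.nroots, RGDChev.vec C l r = tv l b := by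
  obtain ⟨r, hr, rfl⟩ := List.getElem_of_mem h
  have h1 : r < S.n := hS.len ▸ hr
  exact ⟨r, hS.hn ▸ h1, by rw [← (hS.rl r h1).2, List.getD_eq_getElem _ _ hr]⟩

theorem Sys.Ok.nzL_eq (hS : S.Ok C l) (p : ℕ) (v : List ℤ) : S.nzL p v =
    ((Finset.range C.nroots).filter fun s => ∑ i, (RGDChev.vec C l s i : ZMod p) * tz p l v i = 0).card := by
  rw [Sys.nzL, countP_eq _ [], hS.len, ← hS.hn]
  refine congrArg _ (Finset.filter_congr fun s hs => ?_)
  obtain ⟨h1, h2⟩ := hS.rl s (Finset.mem_range.1 hs)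
  rw [decide_eq_true_iff, dot_eq l _ _ h1, h2, ← Int.dvd_iff_emod_eq_zero, ← ZMod.intCast_zmod_eq_zero_iff_dvd]
  simp only [dotProduct, Int.cast_sum, Int.cast_mul]
  rfl

set_option backward.isDefEq.respectTransparency false

theorem sL_E6 : ∀ i : Fin 6, tM 6 (sE6.sL 6 i) = sM chevE6 6 i := by decide +kernel
theorem gm_E6 : tM 6 sE6.G = Gm chevE6 6 := by decide +kernel
end Cfsg.Agent.TO.X.Stab

private theorem dce_81864f3f061d : _root_.True := by
  try have : _root_.True := by simp only [_root_.Cfsg.Agent.TO.X.Stab.mm.eq_1]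
  try have : _root_.True := by simp only [_root_.Cfsg.Agent.TO.X.Stab.vm.eq_1]
  try have : _root_.True := by simp only [_root_.Cfsg.Agent.TO.X.Stab.oneM.eq_1]
  try have : _root_.True := by simp only [_root_.Cfsg.Agent.TO.X.Stab.Sys.rows.eq_1]
  try have : _root_.True := by simp only [_root_.Cfsg.Agent.TO.X.Stab.mvL.eq_1]
  try have : _root_.True := by simp only [_root_.Cfsg.Agent.TO.X.Stab.eqM.eq_1]
  try have : _root_.True := by simp only [_root_.Cfsg.Agent.TO.X.Stab.Sys.nzL.eq_1]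
  try have : _root_.True := by simp only [_root_.Cfsg.Agent.TO.X.Stab.eqV.eq_1]
  try have : _root_.True := by simp only [_root_.Cfsg.Agent.TO.X.Stab.cgV.eq_1]
  try have : _root_.True := by simp only [_root_.Cfsg.Agent.TO.X.Stab.mkM.eq_1]
  try have : _root_.True := by simp only [_root_.Cfsg.Agent.TO.X.Stab.addM.eq_1]
  try have : _root_.True := by simp only [_root_.Cfsg.Agent.TO.X.Stab.negM.eq_1]
  try have : _root_.True := by simp only [_root_.Cfsg.Agent.TO.X.Stab.mkV.eq_1]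
  exact _root_.True.intro
end
end
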